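import Mathlib

/-!
Numerical lemmas for the class number bound.
-/

set_option autoImplicit false
set_option linter.all false

namespace CfsgLib.Core.ClassNumber

/-! ### The first bound -/

theorem amgm_bound {p kH oH H S Q : ℕ} (hH : H ≤ S * kH) (hQ : Q ≤ (oH - 1) * H + 1) (ho : 1 ≤ oH)
    (h49 : 49 ≤ Q) (hS : 0 < S) (h : 117649 * p ^ 2 * S ≤ 691200 * Q) :
    49 * p + 60 ≤ 60 * (kH + oH) := by
  obtain ⟨y, rfl⟩ : ∃ y, oH = y + 1 := ⟨oH - 1, by omega⟩
  simp only [Nat.add_sub_cancel] at hQ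
  have h1 : Q ≤ y * (S * kH) + 1 := hQ.trans (Nat.succ_le_succ (Nat.mul_le_mul_left _ hH))
  have h2 : 2401 * p ^ 2 * S ≤ 14400 * (y * kH) * S := by
    have : 49 * (2401 * p ^ 2 * S) ≤ 49 * (14400 * (y * kH) * S) := by
      have e1 : 49 * (2401 * p ^ 2 * S) = 117649 * p ^ 2 * S := by ring
      have e2 : y * (S * kH) = y * kH * S := by ring
      have e3 : 49 * (14400 * (y * kH) * S) = 705600 * (y * kH * S) := by ring
      omega
    omega
  have h3 := Nat.le_of_mul_le_mul_right h2 hS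
  have h4 : (49 * p) ^ 2 ≤ (60 * (kH + y)) ^ 2 := by nlinarith [two_mul_le_add_sq (kH : ℤ) y]
  have h5 := (Nat.pow_le_pow_iff_left two_ne_zero).1 h4
  omega

theorem cube_step {p M Q m0 m s : ℕ} (h0 : 1 ≤ m0) (hm : m0 ≤ m) (hs : s ^ 3 * 24 ≤ 24 ^ m)
    (hbase : (117649 * p ^ 2) ^ 3 * 576 ^ (m0 - 1) * (M ^ 3) ^ m0 ≤ 691200 ^ 3 * (Q ^ 3) ^ m0)
    (hR : 576 * M ^ 3 ≤ Q ^ 3) :
    117649 * p ^ 2 * (s ^ 2 * M ^ m) ≤ 691200 * Q ^ m := by
  refine (Nat.pow_le_pow_iff_left (show 3 ≠ 0 by norm_num)).1 ?_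
  have h1 : (s ^ 3) ^ 2 ≤ 576 ^ (m - 1) := by
    have h := Nat.pow_le_pow_left hs 2
    rw [mul_pow, ← pow_mul, ← pow_mul, mul_comm m 2, pow_mul 24 2 m] at h
    have e : (576 : ℕ) ^ m = 576 ^ (m - 1) * 576 := by rw [← pow_succ]; congr 1; omega
    rw [show (24 : ℕ) ^ 2 = 576 by rfl, e] at h
    rw [← pow_mul]
    exact Nat.le_of_mul_le_mul_right h (by norm_num)
  calc (117649 * p ^ 2 * (s ^ 2 * M ^ m)) ^ 3 = (117649 * p ^ 2) ^ 3 * (s ^ 3) ^ 2 * (M ^ 3) ^ m := by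
        simp only [mul_pow, ← pow_mul]; ring
    _ ≤ (117649 * p ^ 2) ^ 3 * 576 ^ (m - 1) * (M ^ 3) ^ m :=
        Nat.mul_le_mul_right _ (Nat.mul_le_mul_left _ h1)
    _ ≤ 691200 ^ 3 * (Q ^ 3) ^ m := ?_
    _ = (691200 * Q ^ m) ^ 3 := by simp only [mul_pow, ← pow_mul]; ring
  clear hs h1
  generalize (691200 : ℕ) ^ 3 = c at hbase ⊢
  generalize (117649 * p ^ 2) ^ 3 = a at hbase ⊢
  induction m, hm using Nat.le_induction with
  | base => exact hbase
  | succ m hm ih =>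
    calc a * 576 ^ (m + 1 - 1) * (M ^ 3) ^ (m + 1)
        = a * 576 ^ (m - 1) * (M ^ 3) ^ m * (576 * M ^ 3) := by
          rw [show m + 1 - 1 = (m - 1) + 1 by omega, pow_succ, pow_succ]; ring
      _ ≤ c * (Q ^ 3) ^ m * Q ^ 3 := Nat.mul_le_mul ih hR
      _ = _ := by rw [pow_succ (Q ^ 3)]; ring

/-- The ratio is large enough for every number of components. -/
theorem star_step {p M Q m s : ℕ} (hp : 7 ≤ p) (hm : 1 ≤ m) (hs : s ^ 3 * 24 ≤ 24 ^ m)
    (h : 117649 * p ^ 2 * M ≤ 691200 * Q) : 117649 * p ^ 2 * (s ^ 2 * M ^ m) ≤ 691200 * Q ^ m := by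
  refine cube_step le_rfl hm hs ?_ ?_
  · simp only [Nat.sub_self, pow_zero, mul_one, pow_one]
    rw [← mul_pow, ← mul_pow]
    exact Nat.pow_le_pow_left h 3
  · have h1 : 5764801 * M ≤ 691200 * Q := le_trans (by
      have := Nat.mul_le_mul_left 117649 (Nat.pow_le_pow_left hp 2)
      exact Nat.mul_le_mul_right M (le_trans (by norm_num) this)) h
    have c : 691200 ^ 3 * 576 ≤ 5764801 ^ 3 := by norm_num
    refine Nat.le_of_mul_le_mul_left ?_ (show 0 < 691200 ^ 3 by norm_num)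
    calc 691200 ^ 3 * (576 * M ^ 3) = 691200 ^ 3 * 576 * M ^ 3 := by ring
      _ ≤ 5764801 ^ 3 * M ^ 3 := Nat.mul_le_mul_right _ c
      _ = (5764801 * M) ^ 3 := (mul_pow _ _ _).symm
      _ ≤ (691200 * Q) ^ 3 := Nat.pow_le_pow_left h1 3
      _ = _ := mul_pow _ _ _

/-- Powers of `p` against the order bound, for large symplectic parts. -/
theorem star_large {p e b : ℕ} (hp : 7 ≤ p) (he : 8 ≤ e) (hb : b ^ 12 * 24 ^ 4 ≤ e ^ 54) :
    117649 * p ^ 2 * (e ^ 2 * b) ≤ 691200 * p ^ e := by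
  refine (Nat.pow_le_pow_iff_left (show 12 ≠ 0 by norm_num)).1 ?_
  refine Nat.le_of_mul_le_mul_right ?_ (show 0 < 24 ^ 4 by norm_num)
  have key : 117649 ^ 12 * p ^ 24 * e ^ 78 ≤ 691200 ^ 12 * 24 ^ 4 * p ^ (12 * e) := by
    clear hb
    induction e, he using Nat.le_induction with
    | base =>
      have c : 117649 ^ 12 * 8 ^ 78 ≤ 691200 ^ 12 * 24 ^ 4 * 7 ^ 72 := by norm_num
      rw [show 12 * 8 = 24 + 72 by rfl, pow_add, mul_right_comm, mul_left_comm _ (p ^ 24), mul_comm _ (p ^ 24)]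
      exact Nat.mul_le_mul_left _ (c.trans (Nat.mul_le_mul_left _ (Nat.pow_le_pow_left hp 72)))
    | succ e he ih =>
      have c : 5 ^ 78 ≤ 4 ^ 78 * 7 ^ 12 := by norm_num
      have hC : 5 ^ 78 ≤ 4 ^ 78 * p ^ 12 := c.trans (Nat.mul_le_mul_left _ (Nat.pow_le_pow_left hp 12))
      have e1 : 4 ^ 78 * (e + 1) ^ 78 ≤ (4 ^ 78 * p ^ 12) * e ^ 78 := by
        rw [← mul_pow]
        refine (Nat.pow_le_pow_left (show 4 * (e + 1) ≤ 5 * e by omega) 78).trans ?_
        rw [mul_pow]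
        exact Nat.mul_le_mul_right _ hC
      have e2 : (e + 1) ^ 78 ≤ p ^ 12 * e ^ 78 :=
        Nat.le_of_mul_le_mul_left (e1.trans (le_of_eq (mul_assoc _ _ _))) (pow_pos (by norm_num) _)
      calc _ ≤ 117649 ^ 12 * p ^ 24 * (p ^ 12 * e ^ 78) := Nat.mul_le_mul_left _ e2
        _ = 117649 ^ 12 * p ^ 24 * e ^ 78 * p ^ 12 := by rw [mul_comm (p ^ 12), ← mul_assoc]
        _ ≤ 691200 ^ 12 * 24 ^ 4 * p ^ (12 * e) * p ^ 12 := Nat.mul_le_mul_right _ ih
        _ = _ := by rw [mul_assoc, ← pow_add]; rfl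
  calc (117649 * p ^ 2 * (e ^ 2 * b)) ^ 12 * 24 ^ 4
      = 117649 ^ 12 * p ^ 24 * e ^ 24 * (b ^ 12 * 24 ^ 4) := by simp only [mul_pow, ← pow_mul]; ring
    _ ≤ 117649 ^ 12 * p ^ 24 * e ^ 24 * e ^ 54 := Nat.mul_le_mul_left _ hb
    _ = 117649 ^ 12 * p ^ 24 * e ^ 78 := by rw [mul_assoc, ← pow_add]
    _ ≤ 691200 ^ 12 * 24 ^ 4 * p ^ (12 * e) := key
    _ = (691200 * p ^ e) ^ 12 * 24 ^ 4 := by rw [mul_pow, ← pow_mul, mul_comm e 12]; ring

/-- The cases not covered by the first bound. -/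
def Exceptional (p d D e : ℕ) : Prop :=
  d = 1 ∧ ((e = 1 ∧ D = 1) ∨ (e = 2 ∧ D = 2) ∨ (e = 3 ∧ D = 3 ∧ p < 37) ∨
    (e = 4 ∧ ((D = 4 ∧ p < 22) ∨ (D = 5 ∧ p = 7))) ∨ (e = 6 ∧ D = 6 ∧ p < 10))

/-- The order of `X / Z`, bounded according to the symplectic part. -/
theorem layer_bound {e b : ℕ} (he : 1 ≤ e) (h8 : e < 8) (hb1 : e = 1 → b = 1) (hbp : e.Prime → b ≤ (e ^ 2 - 1) * e)
    (hb : 2 ≤ e → b ^ 12 * 24 ^ 4 ≤ e ^ 54) :
    e ^ 2 * b ≤ [1, 1, 24, 216, 2832, 3000, 39600, 16464].getD e 0 := by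
  have big : ∀ B, (B + 1) ^ 12 * 24 ^ 4 > e ^ 54 → 2 ≤ e → b ≤ B := fun B h h2 => by
    by_contra hc
    exact absurd ((Nat.mul_le_mul_right _ (Nat.pow_le_pow_left (show B + 1 ≤ b by omega) 12)).trans (hb h2))
      (by omega)
  interval_cases e
  · simp [hb1 rfl]
  · have := hbp Nat.prime_two; simp; omega
  · have := hbp Nat.prime_three; simp; omega
  · have := big 177 (by norm_num) (by norm_num); simp; omega
  · have := hbp Nat.prime_five; simp; omega
  · have := big 1100 (by norm_num) (by norm_num); simp; omega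
  · have := hbp (by norm_num); simp; omega

/-- The first bound applies outside the exceptional cases. -/
theorem star_or_exceptional {p d D e b : ℕ} (hp : 7 ≤ p) (hd : 1 ≤ d) (he : 1 ≤ e) (heD : e ≤ D)
    (hb1 : e = 1 → b = 1) (hbp : e.Prime → b ≤ (e ^ 2 - 1) * e)
    (hb : 2 ≤ e → b ^ 12 * 24 ^ 4 ≤ e ^ 54) (h5 : d = 1 → e = 5 → 10 ≤ p) :
    Exceptional p d D e ∨ (117649 * p ^ 2 * (d ^ 2 * (e ^ 2 * b)) ≤ 691200 * (p ^ d) ^ D ∧ 49 ≤ (p ^ d) ^ D) := by
  by_cases hex : Exceptional p d D e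
  · exact Or.inl hex
  have hp0 : 0 < p := by omega
  have h49 : 49 ≤ (p ^ d) ^ D := by
    rw [← pow_mul]
    refine le_trans (show 49 ≤ p ^ 2 by nlinarith) (Nat.pow_le_pow_right hp0 ?_)
    by_contra hc
    have h1 : d = 1 := by nlinarith
    have h2 : D = 1 := by subst h1; omega
    exact hex ⟨h1, Or.inl ⟨by omega, h2⟩⟩
  refine Or.inr ⟨?_, h49⟩
  rcases Nat.lt_or_ge d 2 with hd1 | hd2
  · obtain rfl : d = 1 := by omega
    rw [pow_one, one_pow, one_mul]
    rcases Nat.lt_or_ge e 8 with h8 | h8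
    · have hN := layer_bound he h8 hb1 hbp hb
      have red : ∀ j q0 : ℕ, j ≤ D - 2 → q0 ≤ p → 117649 * [1, 1, 24, 216, 2832, 3000, 39600, 16464].getD e 0 ≤ 691200 * q0 ^ j →
          2 ≤ D → 117649 * p ^ 2 * (e ^ 2 * b) ≤ 691200 * p ^ D := by
        intro j q0 hj hq h h2
        calc 117649 * p ^ 2 * (e ^ 2 * b) = p ^ 2 * (117649 * (e ^ 2 * b)) := by ring
          _ ≤ p ^ 2 * (691200 * p ^ (D - 2)) := Nat.mul_le_mul_left _
              ((Nat.mul_le_mul_left _ hN).trans (h.trans (Nat.mul_le_mul_left _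
                ((Nat.pow_le_pow_left hq j).trans (Nat.pow_le_pow_right hp0 hj)))))
          _ = 691200 * p ^ D := by rw [mul_left_comm, ← pow_add]; congr 2; omega
      unfold Exceptional at hex
      interval_cases e
      · exact red 0 7 (by omega) hp (by norm_num) (by omega)
      · exact red 1 7 (by omega) hp (by norm_num) (by omega)
      · by_cases h : D = 3
        · exact red 1 37 (by omega) (by omega) (by norm_num) (by omega)
        · exact red 2 7 (by omega) hp (by norm_num) (by omega)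
      · by_cases h : D = 4
        · exact red 2 22 (by omega) (by omega) (by norm_num) (by omega)
        by_cases h' : D = 5
        · exact red 3 8 (by omega) (by omega) (by norm_num) (by omega)
        · exact red 4 7 (by omega) hp (by norm_num) (by omega)
      · exact red 3 10 (by omega) (h5 rfl rfl) (by norm_num) (by omega)
      · by_cases h : D = 6
        · exact red 4 10 (by omega) (by omega) (by norm_num) (by omega)
        · exact red 5 7 (by omega) hp (by norm_num) (by omega)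
      · exact red 5 7 (by omega) hp (by norm_num) (by omega)
    · exact (star_large hp h8 (hb (by omega))).trans
        (Nat.mul_le_mul_left _ (Nat.pow_le_pow_right hp0 heD))
  · have base : 4 * (117649 * p ^ 2 * (e ^ 2 * b)) ≤ 691200 * p ^ (2 * D) := by
      refine le_trans ?_ (Nat.mul_le_mul_left _ (Nat.pow_le_pow_right hp0 (show 2 * e ≤ 2 * D by omega)))
      rcases Nat.lt_or_ge e 8 with h8 | h8
      · have hN := layer_bound he h8 hb1 hbp hb
        have c : 4 * 117649 * [1, 1, 24, 216, 2832, 3000, 39600, 16464].getD e 0 ≤ 691200 * 7 ^ (2 * e - 2) := by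
          interval_cases e <;> norm_num
        calc 4 * (117649 * p ^ 2 * (e ^ 2 * b)) = p ^ 2 * (4 * 117649 * (e ^ 2 * b)) := by ring
          _ ≤ p ^ 2 * (691200 * p ^ (2 * e - 2)) := Nat.mul_le_mul_left _
              ((Nat.mul_le_mul_left _ hN).trans (c.trans (Nat.mul_le_mul_left _ (Nat.pow_le_pow_left hp _))))
          _ = 691200 * p ^ (2 * e) := by rw [mul_left_comm, ← pow_add]; congr 2; omega
      · calc 4 * (117649 * p ^ 2 * (e ^ 2 * b)) ≤ p ^ e * (691200 * p ^ e) :=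
              Nat.mul_le_mul (le_trans (by omega) (Nat.le_self_pow (by omega) p)) (star_large hp h8 (hb (by omega)))
          _ = _ := by rw [mul_left_comm, ← pow_add]; congr 2; omega
    have hD : 1 ≤ D := by omega
    rw [← pow_mul]
    clear hex h49 h5
    induction d, hd2 using Nat.le_induction with
    | base => exact le_trans (le_of_eq (by ring)) base
    | succ d hd ih =>
      have h1 : (d + 1) ^ 2 ≤ d ^ 2 * p ^ D :=
        le_trans (by nlinarith) (Nat.mul_le_mul_left _ (le_trans hp (Nat.le_self_pow (by omega) p)))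
      calc 117649 * p ^ 2 * ((d + 1) ^ 2 * (e ^ 2 * b)) ≤ 117649 * p ^ 2 * (d ^ 2 * p ^ D * (e ^ 2 * b)) :=
            Nat.mul_le_mul_left _ (Nat.mul_le_mul_right _ h1)
        _ = 117649 * p ^ 2 * (d ^ 2 * (e ^ 2 * b)) * p ^ D := by ring
        _ ≤ 691200 * p ^ (d * D) * p ^ D := Nat.mul_le_mul_right _ (ih (by omega))
        _ = _ := by rw [mul_assoc, ← pow_add, add_mul, one_mul]

/-! ### The second bound -/

/-- A lower bound for the number of unordered selections. -/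
def nb (n m : ℕ) : ℕ :=
  max (max (n + 1) (m + 1))
    (max (if 2 ≤ n then (m + 1) * (m + 2) / 2 else 0) (if 2 ≤ m then (n + 1) * (n + 2) / 2 else 0))

theorem choose_add_mono (n : ℕ) {j m : ℕ} (h : j ≤ m) : (n + j).choose j ≤ (n + m).choose m := by
  induction m, h using Nat.le_induction with
  | base => exact le_rfl
  | succ m hm ih => rw [← Nat.add_assoc, Nat.choose_succ_succ']; omega

theorem nb_le {n n0 m : ℕ} (hn : 1 ≤ n) (hm : 1 ≤ m) (h : n ≤ n0) :
    nb n m ≤ (n0 + 1).multichoose m := by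
  rw [Nat.multichoose_eq, show n0 + 1 + m - 1 = n0 + m by omega]
  refine le_trans ?_ (Nat.choose_le_choose m (show n + m ≤ n0 + m by omega))
  have e : (n + m).choose m = (m + n).choose n := by rw [Nat.choose_symm_add.symm, add_comm]
  unfold nb
  refine max_le (max_le ?_ ?_) (max_le ?_ ?_)
  · exact le_trans (by simp) (choose_add_mono n hm)
  · rw [e]; exact le_trans (by simp) (choose_add_mono m hn)
  · split_ifs with h2
    · rw [e]; refine le_trans (le_of_eq ?_) (choose_add_mono m h2)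
      rw [Nat.choose_two_right, show m + 2 - 1 = m + 1 by omega, mul_comm]
    · omega
  · split_ifs with h2
    · refine le_trans (le_of_eq ?_) (choose_add_mono n h2)
      rw [Nat.choose_two_right, show n + 2 - 1 = n + 1 by omega, mul_comm]
    · omega

/-- The check for the second bound. -/
abbrev Ok (p m z N K Q : ℕ) : Prop :=
  49 * p + 60 ≤ 60 * ((K + m - 1) / m + nb (max ((Q - 1 + z * N - 1) / (z * N)) 1) m)

theorem second_bound {p m z N K Q kX kH oW oH X : ℕ} (hm : 1 ≤ m) (hzN : 0 < z * N) (hK : K ≤ kX)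
    (hk : kX ≤ m * kH) (ho : oW.multichoose m ≤ oH) (hQ : Q ≤ (oW - 1) * X + 1) (hQ2 : 2 ≤ Q)
    (hX : X ≤ z * N) (h : Ok p m z N K Q) : 49 * p + 60 ≤ 60 * (kH + oH) := by
  have h1 : 1 ≤ oW - 1 := by
    rcases Nat.eq_zero_or_pos (oW - 1) with e | e
    · rw [e] at hQ; omega
    · exact e
  have h2 : (Q - 1 + z * N - 1) / (z * N) ≤ oW - 1 := by
    refine Nat.lt_succ_iff.1 ((Nat.div_lt_iff_lt_mul hzN).2 ?_)
    have : (oW - 1) * X ≤ (oW - 1) * (z * N) := Nat.mul_le_mul_left _ hX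
    rw [Nat.succ_mul]; omega
  have h3 := nb_le (n := max ((Q - 1 + z * N - 1) / (z * N)) 1) (le_max_right _ _) hm (max_le h2 h1)
  rw [show oW - 1 + 1 = oW by omega] at h3
  have h4 : (K + m - 1) / m ≤ kH := by
    refine Nat.lt_succ_iff.1 ((Nat.div_lt_iff_lt_mul (by omega)).2 ?_)
    rw [Nat.succ_mul, mul_comm kH m]; omega
  have h5 := h3.trans ho
  unfold Ok at h
  omega

theorem second_bound_large {p m kH oW oH : ℕ} (hp : p ≤ 31) (hm : 30 ≤ m) (hw : 2 ≤ oW)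
    (ho : oW.multichoose m ≤ oH) : 49 * p + 60 ≤ 60 * (kH + oH) := by
  have h := nb_le (n := 1) (n0 := oW - 1) (m := m) le_rfl (by omega) (by omega)
  rw [show oW - 1 + 1 = oW by omega] at h
  have : m + 1 ≤ nb 1 m := le_trans (le_max_right _ _) (le_max_left _ _)
  omega

set_option maxRecDepth 100000 in
theorem ok_one : ∀ m < 30, 4 ≤ m → ∀ z < 7, z ∣ 6 → 0 < z → Ok 7 m z 1 z 7 := by decide +kernel

set_option maxRecDepth 100000 in
theorem ok_two : ∀ p ∈ [7, 11, 13, 17, 19, 23], ∀ m < 30, 1 ≤ m → (p = 23 → m = 1) → ∀ z < p, z ∣ p - 1 → 2 ∣ z → 0 < z →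
    Ok p m z 12 ((5 * z + 1) / 2) (p ^ 2) ∧ Ok p m z 24 ((8 * z + 1) / 2) (p ^ 2) := by decide +kernel

set_option maxRecDepth 100000 in
theorem ok_three : ∀ p ∈ [7, 13, 19, 31], ∀ m < 30, 1 ≤ m → ∀ z < p, z ∣ p - 1 → 3 ∣ z → 0 < z →
    Ok p m z 216 (z + (4 * z + 2) / 3) (p ^ 3) := by decide +kernel

set_option maxRecDepth 100000 in
theorem ok_four : ∀ p ∈ [7, 11, 13, 17, 19], ∀ m < 30, 1 ≤ m → ∀ z < p, z ∣ p - 1 → 2 ∣ z → 0 < z →
    Ok p m z 2832 (z + (5 * z + Nat.gcd z 4 - 1) / Nat.gcd z 4) (p ^ 4) := by decide +kernel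

set_option maxRecDepth 100000 in
theorem ok_five : ∀ m < 30, 1 ≤ m → ∀ z ∈ [2, 6],
    Ok 7 m z 2832 (z + 5 * z) 16807 := by decide +kernel

set_option maxRecDepth 100000 in
theorem ok_six : ∀ m < 30, 1 ≤ m → Ok 7 m 6 39600 (6 + 4) (7 ^ 6) := by decide +kernel

theorem quad_twelve {p z n K : ℕ} (hp : 7 ≤ p) (hK : 5 * z ≤ 2 * K) (hn : p ^ 2 ≤ n * (z * 12) + 1) :
    49 * p ≤ 60 * (K + n) := by
  rcases Nat.eq_zero_or_pos z with rfl | hz
  · nlinarith
  refine Nat.le_of_mul_le_mul_right ?_ (show 0 < z * 12 by omega)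
  have h1 : (49 * p) * (z * 12) + 60 ≤ 60 * p ^ 2 + 1800 * z ^ 2 := by
    nlinarith [mul_self_nonneg (75 * (p : ℤ) - 500 * z), mul_self_nonneg ((p : ℤ) - 7)]
  nlinarith [Nat.mul_le_mul_right (z * 360) hK]

theorem quad_twentyfour {p j z n K : ℕ} (hp : 29 ≤ p) (hj : z * j = p - 1) (hK : 4 * z ≤ K)
    (hn : p ^ 2 ≤ n * (z * 24) + 1) : 49 * p ≤ 60 * (K + n) := by
  have hj0 : 0 < j := Nat.pos_of_ne_zero fun h => by rw [h, mul_zero] at hj; omega
  have hz : 0 < z := Nat.pos_of_ne_zero fun h => by rw [h, zero_mul] at hj; omega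
  have poly : 98 * (p * j) + 480 ≤ 480 * p + 5 * j ^ 2 * p + 5 * j ^ 2 := by
    rcases Nat.lt_or_ge j 10 with h | h
    · interval_cases j <;> omega
    · nlinarith [Nat.mul_le_mul_left p (show 98 * j ≤ 480 + 5 * j ^ 2 by nlinarith), Nat.mul_le_mul h h]
  -- the inequality after clearing `j`
  have h1 : 98 * (p * z) + 5 ≤ 480 * z ^ 2 + 5 * p ^ 2 := by
    refine Nat.le_of_mul_le_mul_right ?_ (show 0 < j ^ 2 by positivity)
    obtain ⟨r, rfl⟩ : ∃ r, p = r + 1 := ⟨p - 1, by omega⟩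
    simp only [Nat.add_sub_cancel] at hj
    subst hj
    nlinarith [Nat.mul_le_mul_left (z * j) poly]
  refine Nat.le_of_mul_le_mul_right ?_ (show 0 < z * 24 by omega)
  nlinarith [Nat.mul_le_mul_right (z * 1440) hK]

end CfsgLib.Core.ClassNumber
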