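import Mathlib

/-!
Elementary lower bounds for the number of conjugacy classes.
-/

set_option autoImplicit false
set_option linter.all false

namespace CfsgLib.Core.ClassNumber

open MulAction

variable {G : Type*} [Group G]

/-- The number of conjugacy classes. -/
noncomputable abbrev k (G : Type*) [Group G] : ℕ := Nat.card (ConjClasses G)

instance finite_classes [Finite G] : Finite (ConjClasses G) := Quotient.finite _

theorem one_le_k [Finite G] : 1 ≤ k G := Nat.card_pos

/-- Quotients have no more classes. -/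
theorem k_le_of_surjective [Finite G] {H : Type*} [Group H] (f : G →* H) (hf : Function.Surjective f) :
    k H ≤ k G :=
  Nat.card_le_card_of_surjective _ (ConjClasses.map_surjective hf)

theorem k_congr {H : Type*} [Group H] [Finite G] [Finite H] (e : G ≃* H) : k G = k H :=
  le_antisymm (k_le_of_surjective e.symm.toMonoidHom e.symm.surjective)
    (k_le_of_surjective e.toMonoidHom e.surjective)

/-- A map with fibres of at most `c` elements. -/
theorem card_le_mul_of_fiber {A B : Type*} [Finite A] [Finite B] (f : A → B) (c : ℕ)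
    (h : ∀ b, Nat.card {a // f a = b} ≤ c) : Nat.card A ≤ c * Nat.card B := by
  classical
  haveI := Fintype.ofFinite A
  haveI := Fintype.ofFinite B
  rw [Nat.card_congr (Equiv.sigmaFiberEquiv f).symm, Nat.card_sigma]
  refine (Finset.sum_le_card_nsmul _ _ c fun b _ => h b).trans ?_
  rw [smul_eq_mul, Finset.card_univ, Nat.card_eq_fintype_card, mul_comm]

/-- A subgroup has at most its index times as many classes. -/
theorem k_subgroup_le [Finite G] (H : Subgroup G) : k H ≤ H.index * k G := by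
  classical
  refine card_le_mul_of_fiber (ConjClasses.map H.subtype) _ fun C => ?_
  rcases isEmpty_or_nonempty {a : ConjClasses H // ConjClasses.map H.subtype a = C} with h | ⟨⟨a, ha⟩⟩
  · simp
  obtain ⟨h0, rfl⟩ := Quotient.exists_rep a
  have key : ∀ x : {a : ConjClasses H // ConjClasses.map H.subtype a = C}, ∃ g : G, ∃ h : H,
      ConjClasses.mk h = x.1 ∧ g * h0 * g⁻¹ = h := by
    rintro ⟨b, hb⟩
    obtain ⟨h, rfl⟩ := Quotient.exists_rep b
    have : IsConj (h0 : G) (h : G) :=
      ConjClasses.mk_eq_mk_iff_isConj.1 (ha.trans hb.symm)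
    obtain ⟨g, hg⟩ := isConj_iff.1 this
    exact ⟨g, h, rfl, hg⟩
  choose g h hh hg using key
  refine Nat.card_le_card_of_injective (β := G ⧸ H) (fun x => ((g x)⁻¹ : G)) ?_
  intro x y e
  have hm : (g x) * (g y)⁻¹ ∈ H := by
    have := QuotientGroup.eq.1 e
    simpa using this
  refine Subtype.ext ?_
  rw [← hh x, ← hh y]
  refine (ConjClasses.mk_eq_mk_iff_isConj.2 (isConj_iff.2 ⟨⟨_, hm⟩, Subtype.ext ?_⟩)).symm
  show g x * (g y)⁻¹ * (h y : G) * (g x * (g y)⁻¹)⁻¹ = h x
  rw [← hg x, ← hg y]; group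

/-- A subgroup with a large centraliser gives many classes. -/
theorem card_le_index_centralizer_mul [Finite G] (A C : Subgroup G)
    (hC : C ≤ Subgroup.centralizer (A : Set G)) : Nat.card A ≤ C.index * k G := by
  classical
  refine card_le_mul_of_fiber (fun a : A => ConjClasses.mk (a : G)) _ fun b => ?_
  rcases isEmpty_or_nonempty {a : A // ConjClasses.mk (a : G) = b} with h | ⟨⟨a0, ha0⟩⟩
  · simp
  have key : ∀ x : {a : A // ConjClasses.mk (a : G) = b}, ∃ g : G, g * a0 * g⁻¹ = x.1 := fun x =>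
    isConj_iff.1 (ConjClasses.mk_eq_mk_iff_isConj.1 (ha0.trans x.2.symm))
  choose g hg using key
  refine Nat.card_le_card_of_injective (β := G ⧸ C) (fun x => ((g x) : G)) ?_
  intro x y e
  have hm : (g x)⁻¹ * g y ∈ C := QuotientGroup.eq.1 e
  refine Subtype.ext (Subtype.ext ?_)
  rw [← hg x, ← hg y]
  have h1 : (g x)⁻¹ * g y * a0 = a0 * ((g x)⁻¹ * g y) :=
    (Subgroup.mem_centralizer_iff.1 (hC hm) a0 a0.2).symm
  calc g x * a0 * (g x)⁻¹ = g x * (a0 * ((g x)⁻¹ * g y)) * (g y)⁻¹ := by group
    _ = g x * ((g x)⁻¹ * g y * a0) * (g y)⁻¹ := by rw [h1]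
    _ = g y * a0 * (g y)⁻¹ := by group

/-- Classes outside a normal subgroup and classes inside it. -/
theorem k_ge_quotient_add_inside [Finite G] (N : Subgroup G) [N.Normal] :
    k (G ⧸ N) + Nat.card {C : ConjClasses G // ∃ n ∈ N, ConjClasses.mk n = C} ≤ k G + 1 := by
  classical
  haveI := Fintype.ofFinite (ConjClasses G)
  obtain ⟨P, hP⟩ : ∃ P : ConjClasses G → Prop, P = fun C => ∃ n ∈ N, ConjClasses.mk n = C := ⟨_, rfl⟩
  show k (G ⧸ N) + Nat.card {C : ConjClasses G // (fun C => ∃ n ∈ N, ConjClasses.mk n = C) C} ≤ _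
  rw [← hP]
  let π := QuotientGroup.mk' N
  have h1 : k (G ⧸ N) ≤ Nat.card {C : ConjClasses G // ¬ P C} + 1 := by
    rw [← Finite.card_option]
    refine Nat.card_le_card_of_surjective
      (fun o : Option {C : ConjClasses G // ¬ P C} => o.elim (ConjClasses.mk (1 : G ⧸ N))
        fun C => ConjClasses.map π C.1) fun c => ?_
    obtain ⟨x, rfl⟩ := Quotient.exists_rep c
    obtain ⟨g, rfl⟩ := QuotientGroup.mk'_surjective N x
    by_cases hg : P (ConjClasses.mk g)
    · rw [hP] at hg
      obtain ⟨n, hn, hc⟩ := hg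
      refine ⟨none, ?_⟩
      have h2 : IsConj n g := ConjClasses.mk_eq_mk_iff_isConj.1 hc
      obtain ⟨y, hy⟩ := isConj_iff.1 h2
      have : π g = 1 := (QuotientGroup.eq_one_iff g).2
        (hy ▸ (inferInstance : N.Normal).conj_mem n hn y)
      show ConjClasses.mk 1 = ConjClasses.mk (π g)
      rw [this]
    · exact ⟨some ⟨_, hg⟩, rfl⟩
  have h2 : Nat.card {C : ConjClasses G // P C} + Nat.card {C : ConjClasses G // ¬ P C} = k G := by
    rw [← Nat.card_sum]; exact Nat.card_congr (Equiv.sumCompl P)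
  linarith [h1, h2]

/-- An orbit has at most as many points as the group has elements. -/
theorem card_le_orbits_mul {H V : Type*} [Group H] [Finite H] [Finite V] [MulAction H V] (v0 : V)
    (h0 : ∀ h : H, h • v0 = v0) :
    Nat.card V ≤ (Nat.card (orbitRel.Quotient H V) - 1) * Nat.card H + 1 := by
  classical
  haveI : Finite (orbitRel.Quotient H V) := Quotient.finite _
  let o0 : orbitRel.Quotient H V := Quotient.mk'' v0
  have h1 : Nat.card {o : orbitRel.Quotient H V // o ≠ o0} + 1 = Nat.card (orbitRel.Quotient H V) := by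
    rw [← Finite.card_option]
    exact Nat.card_congr (Equiv.optionSubtypeNe o0)
  have h2 : Nat.card V ≤ Nat.card ({o : orbitRel.Quotient H V // o ≠ o0} × H) + 1 := by
    rw [← Finite.card_option]
    refine Nat.card_le_card_of_surjective
      (fun x : Option ({o : orbitRel.Quotient H V // o ≠ o0} × H) => x.elim v0 fun y => y.2 • y.1.1.out)
      fun v => ?_
    by_cases hv : (Quotient.mk'' v : orbitRel.Quotient H V) = o0
    · obtain ⟨h, hh⟩ := Quotient.exact' hv
      exact ⟨none, hh ▸ (h0 h).symm⟩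
    · obtain ⟨h, hh⟩ := Quotient.exact' ((Quotient.out_eq' (Quotient.mk'' v : orbitRel.Quotient H V)).symm)
      exact ⟨some (⟨_, hv⟩, h), hh⟩
  rw [Nat.card_prod] at h2
  have h3 : Nat.card (orbitRel.Quotient H V) - 1 = Nat.card {o : orbitRel.Quotient H V // o ≠ o0} := by omega
  rw [h3]; exact h2

/-- An abelian normal subgroup with a complement. -/
theorem k_ge_semidirect [Finite G] (N H : Subgroup G) [N.Normal] (hNH : N.IsComplement' H)
    (hab : ∀ a ∈ N, ∀ b ∈ N, a * b = b * a) {X V : Type*} [Group X] [Finite X] [MulAction X V]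
    (e : H ≃* X) (j : N ≃ V)
    (hj : ∀ (h : H) (n : N) (hc : (h : G) * n * (h : G)⁻¹ ∈ N), j ⟨(h : G) * n * (h : G)⁻¹, hc⟩ = e h • j n) :
    k X + Nat.card (orbitRel.Quotient X V) ≤ k G + 1 := by
  classical
  have h0 := k_ge_quotient_add_inside N
  have hX : k X ≤ k (G ⧸ N) := by
    exact k_le_of_surjective (G := G ⧸ N) (e.toMonoidHom.comp hNH.symm.QuotientMulEquiv.toMonoidHom)
      (e.surjective.comp hNH.symm.QuotientMulEquiv.surjective)
  have hO : Nat.card (orbitRel.Quotient X V) ≤
      Nat.card {C : ConjClasses G // ∃ n ∈ N, ConjClasses.mk n = C} := by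
    haveI : Finite V := Finite.of_equiv N j
    have key : ∀ o : orbitRel.Quotient X V, ∃ n : N, Quotient.mk'' (j n) = o := fun o => by
      obtain ⟨v, rfl⟩ := Quotient.exists_rep o
      exact ⟨j.symm v, (congrArg Quotient.mk'' (j.apply_symm_apply v)).trans rfl⟩
    choose n hn using key
    refine Nat.card_le_card_of_injective (fun o => ⟨ConjClasses.mk (n o : G), n o, (n o).2, rfl⟩) ?_
    intro o o' he
    obtain ⟨g, hg⟩ := isConj_iff.1 (ConjClasses.mk_eq_mk_iff_isConj.1 (congrArg Subtype.val he))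
    rw [← hn o, ← hn o']
    refine (Quotient.sound' ?_).symm
    obtain ⟨⟨⟨a, ha⟩, ⟨b, hb⟩⟩, hab' : a * b = g⟩ := hNH.2 g
    refine ⟨e ⟨b, hb⟩, ?_⟩
    show e ⟨b, hb⟩ • j (n o) = j (n o')
    rw [← hj ⟨b, hb⟩ (n o) ((inferInstance : N.Normal).conj_mem (n o) (n o).2 b)]
    congr 1
    refine Subtype.ext ?_
    have hc := (inferInstance : N.Normal).conj_mem (n o) (n o).2 b
    show b * (n o : G) * b⁻¹ = n o'
    rw [← hg, ← hab']
    calc b * (n o : G) * b⁻¹ = (b * n o * b⁻¹) * a * a⁻¹ := by group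
      _ = a * (b * n o * b⁻¹) * a⁻¹ := by rw [hab _ ha _ hc]
      _ = a * b * n o * (a * b)⁻¹ := by group
  omega

end CfsgLib.Core.ClassNumber
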