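import Cfsg.Agent.Lib.Core.ClassNumber.Basic

/-!
Classes over a central subgroup, and groups with few classes.
-/

set_option autoImplicit false
set_option linter.all false

namespace CfsgLib.Core.ClassNumber

variable {X : Type*} [Group X] [Finite X]

/-- The multipliers of `x` by elements of `Z` that stay in the class of `x`. -/
def stab (Z : Subgroup X) (x : X) : Set X := {ζ | ζ ∈ Z ∧ IsConj x (ζ * x)}

/-- Weighted count of the classes over a central subgroup. -/
theorem mul_sum_le_k (Z : Subgroup X) [Z.Normal] (hZ : ∀ ζ ∈ Z, ∀ x : X, ζ * x = x * ζ)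
    [Fintype (ConjClasses (X ⧸ Z))] (M : ℕ) (w : ConjClasses (X ⧸ Z) → ℕ)
    (h : ∀ c, ∃ x : X, ConjClasses.mk ((x : X) : X ⧸ Z) = c ∧ w c * (stab Z x).ncard ≤ M) :
    Nat.card Z * ∑ c, w c ≤ M * k X := by
  classical
  haveI := Fintype.ofFinite (ConjClasses X)
  let π := QuotientGroup.mk' Z
  let f : ConjClasses (X ⧸ Z) → ℕ := fun c => Nat.card {C : ConjClasses X // ConjClasses.map π C = c}
  have hk : k X = ∑ c, f c := by
    rw [k, Nat.card_congr (Equiv.sigmaFiberEquiv (ConjClasses.map π)).symm, Nat.card_sigma]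
  have hb : ∀ c, Nat.card Z * w c ≤ M * f c := by
    intro c
    obtain ⟨x, hx, hw⟩ := h c
    have hm : ∀ ζ : Z, ConjClasses.map π (ConjClasses.mk ((ζ : X) * x)) = c := fun ζ => by
      rw [← hx]
      show ConjClasses.mk (π ((ζ : X) * x)) = _
      rw [map_mul, show π (ζ : X) = 1 from (QuotientGroup.eq_one_iff _).2 ζ.2, one_mul]; rfl
    have h1 : Nat.card Z ≤ (stab Z x).ncard * f c := by
      refine card_le_mul_of_fiber
        (fun ζ : Z => (⟨_, hm ζ⟩ : {C : ConjClasses X // ConjClasses.map π C = c})) _ fun b => ?_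
      rcases isEmpty_or_nonempty {ζ : Z // (⟨_, hm ζ⟩ : {C : ConjClasses X // ConjClasses.map π C = c}) = b}
        with hh | ⟨⟨ζ0, h0⟩⟩
      · simp
      rw [← Nat.card_coe_set_eq]
      refine Nat.card_le_card_of_injective (fun ζ => ⟨(ζ.1 : X) * (ζ0 : X)⁻¹, ?_, ?_⟩) ?_
      · exact mul_mem ζ.1.2 (inv_mem ζ0.2)
      · obtain ⟨g, hg⟩ := isConj_iff.1 (ConjClasses.mk_eq_mk_iff_isConj.1
          (congrArg Subtype.val (h0.trans ζ.2.symm)))
        refine isConj_iff.2 ⟨g, ?_⟩
        have hc : g * (ζ0 : X) = (ζ0 : X) * g := (hZ _ ζ0.2 g).symm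
        calc g * x * g⁻¹ = (ζ0 : X)⁻¹ * ((ζ0 : X) * g * x * g⁻¹) := by group
          _ = (ζ0 : X)⁻¹ * (g * ((ζ0 : X) * x) * g⁻¹) := by rw [← hc]; group
          _ = (ζ0 : X)⁻¹ * ((ζ.1 : X) * x) := by rw [hg]
          _ = (ζ.1 : X) * (ζ0 : X)⁻¹ * x := by
            rw [← mul_assoc, hZ _ (inv_mem ζ0.2) (ζ.1 : X)]
      · intro a b e
        exact Subtype.ext (Subtype.ext (mul_right_cancel (congrArg Subtype.val e)))
    calc Nat.card Z * w c ≤ (stab Z x).ncard * f c * w c := Nat.mul_le_mul_right _ h1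
      _ = w c * (stab Z x).ncard * f c := by ring
      _ ≤ M * f c := Nat.mul_le_mul_right _ hw
  rw [hk, Finset.mul_sum, Finset.mul_sum]
  exact Finset.sum_le_sum fun c _ => hb c

theorem stab_one (Z : Subgroup X) : (stab Z (1 : X)).ncard = 1 := by
  have : stab Z (1 : X) = {1} := by
    ext ζ
    constructor
    · rintro ⟨-, h⟩
      simpa [eq_comm] using h
    · rintro rfl
      exact ⟨one_mem Z, by simpa using IsConj.refl (1 : X)⟩
  rw [this, Set.ncard_singleton]

/-- The class of the identity and the others. -/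
theorem card_add_le_mul_k (Z : Subgroup X) [Z.Normal] (hZ : ∀ ζ ∈ Z, ∀ x : X, ζ * x = x * ζ) (g : ℕ)
    (hg : ∀ x : X, (stab Z x).ncard ≤ g) :
    Nat.card Z * (g + (k (X ⧸ Z) - 1)) ≤ g * k X := by
  classical
  haveI : Fintype (ConjClasses (X ⧸ Z)) := Fintype.ofFinite _
  let c0 : ConjClasses (X ⧸ Z) := ConjClasses.mk 1
  refine le_trans (le_of_eq ?_) (mul_sum_le_k Z hZ g (fun c => if c = c0 then g else 1) fun c => ?_)
  · congr 1
    rw [← Finset.add_sum_erase _ _ (Finset.mem_univ c0), if_pos rfl,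
      Finset.sum_congr rfl fun c hc => if_neg (Finset.ne_of_mem_erase hc), Finset.sum_const,
      Finset.card_erase_of_mem (Finset.mem_univ c0), Finset.card_univ, k, Nat.card_eq_fintype_card]
    simp
  · obtain ⟨y, rfl⟩ := Quotient.exists_rep c
    obtain ⟨x, rfl⟩ := QuotientGroup.mk_surjective y
    by_cases hc : (ConjClasses.mk ((x : X) : X ⧸ Z)) = c0
    · exact ⟨1, by rw [QuotientGroup.mk_one]; exact hc.symm, by
        show (if ConjClasses.mk ((x : X) : X ⧸ Z) = c0 then g else 1) * _ ≤ g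
        rw [if_pos hc, stab_one, mul_one]⟩
    · exact ⟨x, rfl, by
        show (if ConjClasses.mk ((x : X) : X ⧸ Z) = c0 then g else 1) * _ ≤ g
        rw [if_neg hc, one_mul]; exact hg x⟩

/-- The class equation as a sum of divisors. -/
theorem class_sum (G : Type*) [Group G] [Finite G] :
    ∃ f : Fin (k G) → ℕ, ∑ i, f i = Nat.card G ∧ (∀ i, f i ∣ Nat.card G) ∧ (∃ i, f i = 1) ∧
      ∀ i, 0 < f i := by
  classical
  haveI := Fintype.ofFinite (ConjClasses G)
  have e : Fin (k G) ≃ ConjClasses G :=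
    (Fintype.equivFinOfCardEq (by rw [k, Nat.card_eq_fintype_card])).symm
  refine ⟨fun i => (e i).carrier.ncard, ?_, fun i => ?_, ⟨e.symm (ConjClasses.mk 1), ?_⟩, fun i => ?_⟩
  · rw [Equiv.sum_comp e (fun c => c.carrier.ncard)]
    have := Group.sum_card_conj_classes_eq_card G
    rwa [finsum_eq_sum_of_fintype] at this
  · obtain ⟨x, hx⟩ := Quotient.exists_rep (e i)
    simp only
    rw [← hx, show (Quotient.mk (IsConj.setoid G) x : ConjClasses G) = ConjClasses.mk x from rfl,
      ← ConjAct.orbit_eq_carrier_conjClasses, ← Nat.card_coe_set_eq,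
      Nat.card_congr (MulAction.orbitEquivQuotientStabilizer (ConjAct G) x)]
    exact Subgroup.card_quotient_dvd_card _
  · simp only [Equiv.apply_symm_apply]
    rw [show (ConjClasses.mk (1 : G)).carrier = {1} from Set.ext fun y => by
      rw [ConjClasses.mem_carrier_iff_mk_eq, ConjClasses.mk_eq_mk_iff_isConj, Set.mem_singleton_iff,
        isConj_comm]; exact isConj_one_right.trans eq_comm |>.trans eq_comm, Set.ncard_singleton]
  · obtain ⟨x, hx⟩ := Quotient.exists_rep (e i)
    exact (Set.ncard_pos (Set.toFinite _)).2 ⟨x, ConjClasses.mem_carrier_iff_mk_eq.2 hx⟩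

theorem card_le_six {G : Type*} [Group G] [Finite G] (h : k G ≤ 3) :
    Nat.card G ≤ 6 ∧ (k G ≤ 2 → Nat.card G ≤ 2) := by
  obtain ⟨f, hsum, hdvd, ⟨i0, h1⟩, hpos⟩ := class_sum G
  have hn : 0 < Nat.card G := Nat.card_pos
  generalize hN : Nat.card G = n at hsum hdvd hn ⊢
  generalize hK : k G = K at f hsum hdvd i0 h1 hpos h ⊢
  have key : ∀ a b : ℕ, 0 < a → 0 < b → a ∣ n → b ∣ n → 1 + a + b = n → b ≤ a → n ≤ 6 := by
    intro a b ha hb hda hdb hs hba
    by_contra hc
    obtain ⟨q, hq⟩ := hda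
    have : q = 2 := by
      have h3 : a * q = 1 + a + b := by rw [← hq, hs]
      rcases q with - | - | - | q
      · simp at h3; omega
      · exfalso; omega
      · rfl
      · exfalso
        have : a * 3 ≤ a * (q + 1 + 1 + 1) := Nat.mul_le_mul_left _ (by omega)
        omega
    subst this
    obtain ⟨r, hr⟩ := hdb
    have h3 : b * r = 2 * (b + 1) := by omega
    have h4 : b ∣ 2 := ⟨r - 2, by rw [Nat.mul_sub, h3]; omega⟩
    have := Nat.le_of_dvd two_pos h4
    omega
  interval_cases K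
  · simp at hsum; omega
  · simp only [Fin.sum_univ_one] at hsum
    have : i0 = 0 := Subsingleton.elim _ _
    subst this
    omega
  · simp only [Fin.sum_univ_two] at hsum
    have hd0 := hdvd 0
    have hd1 := hdvd 1
    have two : ∀ a : ℕ, a ∣ n → 1 + a = n → n ≤ 2 := fun a ha hs => by
      have : a ∣ 1 := (Nat.dvd_add_left (dvd_refl a)).1 (hs.symm ▸ ha)
      have := Nat.le_of_dvd one_pos this
      omega
    obtain rfl | rfl : i0 = 0 ∨ i0 = 1 := by fin_cases i0 <;> simp
    · rw [h1] at hsum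
      exact ⟨le_trans (two _ hd1 hsum) (by omega), fun _ => two _ hd1 hsum⟩
    · rw [h1] at hsum
      exact ⟨le_trans (two _ hd0 (by omega)) (by omega), fun _ => two _ hd0 (by omega)⟩
  · simp only [Fin.sum_univ_three] at hsum
    refine ⟨?_, fun h2 => absurd h2 (by omega)⟩
    have q0 := hpos 0; have q1 := hpos 1; have q2 := hpos 2
    fin_cases i0 <;> simp only [] at h1
    · rcases le_total (f 2) (f 1) with hle | hle
      · exact key _ _ q1 q2 (hdvd 1) (hdvd 2) (by simp_all) hle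
      · exact key _ _ q2 q1 (hdvd 2) (hdvd 1) (by simp_all; omega) hle
    · rcases le_total (f 2) (f 0) with hle | hle
      · exact key _ _ q0 q2 (hdvd 0) (hdvd 2) (by simp_all; omega) hle
      · exact key _ _ q2 q0 (hdvd 2) (hdvd 0) (by simp_all; omega) hle
    · rcases le_total (f 1) (f 0) with hle | hle
      · exact key _ _ q0 q1 (hdvd 0) (hdvd 1) (by simp_all; omega) hle
      · exact key _ _ q1 q0 (hdvd 1) (hdvd 0) (by simp_all; omega) hle

/-- The non-identity classes inside an abelian normal subgroup. -/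
theorem card_le_inside (W : Subgroup X) [W.Normal] (hW : ∀ a ∈ W, ∀ b ∈ W, a * b = b * a) :
    Nat.card W ≤ (Nat.card {C : ConjClasses X // ∃ n ∈ W, ConjClasses.mk n = C} - 1) * W.index + 1 := by
  classical
  let T := {C : ConjClasses X // ∃ n ∈ W, ConjClasses.mk n = C}
  let c0 : T := ⟨ConjClasses.mk 1, 1, one_mem W, rfl⟩
  have h1 : Nat.card {c : T // c ≠ c0} + 1 = Nat.card T := by
    rw [← Finite.card_option]; exact Nat.card_congr (Equiv.optionSubtypeNe c0)
  have key : ∀ c : {c : T // c ≠ c0}, ∃ n ∈ W, ConjClasses.mk n = c.1.1 := fun c => c.1.2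
  choose n hn hnc using key
  have h2 : Nat.card W ≤ Nat.card ({c : T // c ≠ c0} × (X ⧸ W)) + 1 := by
    rw [← Finite.card_option]
    refine Nat.card_le_card_of_surjective (fun o : Option ({c : T // c ≠ c0} × (X ⧸ W)) =>
      o.elim (1 : W) fun y => ⟨y.2.out * n y.1 * y.2.out⁻¹, (inferInstance : W.Normal).conj_mem _ (hn _) _⟩)
      fun w => ?_
    by_cases hw : (⟨ConjClasses.mk (w : X), w, w.2, rfl⟩ : T) = c0
    · refine ⟨none, Subtype.ext ?_⟩
      have h3 : IsConj (w : X) 1 := ConjClasses.mk_eq_mk_iff_isConj.1 (congrArg Subtype.val hw)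
      simpa [eq_comm] using h3
    · obtain ⟨g, hg⟩ := isConj_iff.1 (ConjClasses.mk_eq_mk_iff_isConj.1 (hnc ⟨_, hw⟩))
      refine ⟨some (⟨_, hw⟩, (g : X ⧸ W)), Subtype.ext ?_⟩
      obtain ⟨a, ha⟩ := QuotientGroup.mk_out_eq_mul W g
      show (Quotient.out (g : X ⧸ W)) * n ⟨_, hw⟩ * (Quotient.out (g : X ⧸ W))⁻¹ = w
      rw [ha]
      calc g * a * n ⟨_, hw⟩ * (g * a)⁻¹ = g * ((a : X) * n ⟨_, hw⟩ * (a : X)⁻¹) * g⁻¹ := by group
        _ = g * n ⟨_, hw⟩ * g⁻¹ := by rw [hW _ a.2 _ (hn _)]; group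
        _ = w := hg
  rw [Nat.card_prod, ← Subgroup.index_eq_card] at h2
  have h3 : Nat.card T - 1 = Nat.card {c : T // c ≠ c0} := by omega
  show Nat.card W ≤ (Nat.card T - 1) * W.index + 1
  rw [h3]; exact h2

/-- An abelian normal subgroup of order at least nine that is its own centraliser. -/
theorem five_le_k (W : Subgroup X) [W.Normal] (hW : ∀ a ∈ W, ∀ b ∈ W, a * b = b * a)
    (h9 : 9 ≤ Nat.card W) : 5 ≤ k X := by
  classical
  have h1 := k_ge_quotient_add_inside W
  have h2 := card_le_inside W hW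
  set o := Nat.card {C : ConjClasses X // ∃ n ∈ W, ConjClasses.mk n = C} with ho
  have hidx : W.index = Nat.card (X ⧸ W) := Subgroup.index_eq_card W
  have hk := one_le_k (G := X ⧸ W)
  by_contra hc
  rcases le_or_gt 4 (k (X ⧸ W)) with h4 | h4
  · have : o ≤ 1 := by omega
    rw [show o - 1 = 0 by omega, zero_mul] at h2
    omega
  obtain ⟨h6, h62⟩ := card_le_six (G := X ⧸ W) (by omega)
  rcases le_or_gt (k (X ⧸ W)) 2 with h3 | h3
  · have := h62 h3
    have : (o - 1) * W.index ≤ (o - 1) * 2 := Nat.mul_le_mul_left _ (by omega)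
    omega
  · have : (o - 1) * W.index ≤ (o - 1) * 6 := Nat.mul_le_mul_left _ (by omega)
    omega

end CfsgLib.Core.ClassNumber
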