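import Mathlib
import Cfsg.Agent.Lib.RegOrbit.Structure

/-!
Non-degenerate alternating pairings on finite abelian groups.
-/

set_option autoImplicit false
set_option linter.all false

namespace CfsgLib.Core.ClassNumber

universe u v

variable {C : Type v} [CommGroup C] [Finite C] [IsCyclic C]

theorem pairing_skew {L : Type u} [CommGroup L] (β : L →* L →* C) (halt : ∀ a, β a a = 1) (a b : L) :
    β a b = (β b a)⁻¹ := by
  have h := halt (a * b)
  simp only [map_mul, MonoidHom.mul_apply, halt, one_mul, mul_one] at h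
  rw [eq_inv_iff_mul_eq_one, mul_comm]; simpa [mul_comm] using h

/-- Data of the perpendicular subgroup of an element of prime order. -/
theorem perp_facts {L : Type u} [CommGroup L] [Finite L] (β : L →* L →* C) (hinj : Function.Injective β)
    (halt : ∀ a, β a a = 1) {a : L} {s : ℕ} (hs : s.Prime) (ha : orderOf a = s) :
    Nat.card (β a).ker * s = Nat.card L ∧ Subgroup.zpowers a ≤ (β a).ker ∧
      ∀ x : L, (∀ y ∈ (β a).ker, β x y = 1) → x ∈ Subgroup.zpowers a := by
  classical
  haveI := Fact.mk hs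
  have hidx : (β a).ker.index = s := by
    rw [Subgroup.index_ker]
    have hne : β a ≠ 1 := fun h => by
      rw [← map_one β] at h
      rw [hinj h, orderOf_one] at ha
      exact hs.one_lt.ne ha
    have hpow : ∀ y ∈ (β a).range, y ^ s = 1 := by
      rintro _ ⟨x, rfl⟩
      rw [← MonoidHom.pow_apply, ← map_pow, ← ha, pow_orderOf_eq_one, map_one, MonoidHom.one_apply]
    obtain ⟨x, hx⟩ : ∃ x, β a x ≠ 1 := by
      by_contra h; push Not at h; exact hne (MonoidHom.ext h)
    have h1 : Monoid.exponent (β a).range ∣ s :=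
      Monoid.exponent_dvd_of_forall_pow_eq_one fun y => Subtype.ext (by simpa using hpow _ y.2)
    rw [IsCyclic.exponent_eq_card] at h1
    rcases (Nat.dvd_prime hs).1 h1 with h | h
    · have : (β a).range = ⊥ := Subgroup.card_eq_one.1 h
      exact absurd (Subgroup.mem_bot.1 (this ▸ (⟨x, rfl⟩ : β a x ∈ (β a).range))) hx
    · exact h
  refine ⟨by rw [← hidx]; exact (β a).ker.card_mul_index, ?_, fun x hx => ?_⟩
  · rw [Subgroup.zpowers_le, MonoidHom.mem_ker]; exact halt a
  · let N := (β a).ker
    let T := {φ : L →* C // N ≤ φ.ker}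
    haveI : Finite (L →* C) := Finite.of_injective (fun φ => (φ : L → C)) DFunLike.coe_injective
    haveI : Finite ((L ⧸ N) →* C) := Finite.of_injective (fun φ => (φ : L ⧸ N → C)) DFunLike.coe_injective
    have hT : Nat.card T ≤ s := by
      refine le_trans (Nat.card_le_card_of_injective (β := (L ⧸ N) →* C)
        (fun φ => QuotientGroup.lift N φ.1 φ.2) ?_) ?_
      · intro φ ψ h
        exact Subtype.ext (MonoidHom.ext fun y => DFunLike.congr_fun h (y : L ⧸ N))
      · exact RegOrbit.card_hom_le.trans (le_of_eq (by rw [← Subgroup.index_eq_card]; exact hidx))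
    have hz : ∀ w : Subgroup.zpowers a, N ≤ (β (w : L)).ker := by
      rintro ⟨w, hw⟩ y hy
      obtain ⟨i, rfl⟩ := Subgroup.mem_zpowers_iff.1 hw
      have hy' : β a y = 1 := hy
      rw [MonoidHom.mem_ker]
      show β (a ^ i) y = 1
      rw [map_zpow]
      show (β a y) ^ i = 1
      rw [hy', one_zpow]
    let Φ : Subgroup.zpowers a → T := fun w => ⟨β (w : L), hz w⟩
    have hΦ : Function.Injective Φ := fun v w h => Subtype.ext (hinj (congrArg Subtype.val h))
    obtain ⟨w, hw⟩ := (hΦ.bijective_of_nat_card_le (by rwa [Nat.card_zpowers, ha])).2 ⟨β x, hx⟩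
    rw [← hinj (congrArg Subtype.val hw)]
    exact w.2

/-- The order is a square. -/
theorem exists_sq_eq_card : ∀ (n : ℕ) {L : Type u} [CommGroup L] [Finite L] (β : L →* L →* C),
    Function.Injective β → (∀ a, β a a = 1) → Nat.card L = n → ∃ e, n = e ^ 2 := by
  intro n
  induction n using Nat.strong_induction_on with
  | _ n ih =>
    intro L _ _ β hinj halt hn
    classical
    rcases eq_or_ne n 1 with h1 | h1
    · exact ⟨1, by simpa using h1⟩
    obtain ⟨s, hs, hsd⟩ := Nat.exists_prime_and_dvd h1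
    haveI := Fact.mk hs
    obtain ⟨a, ha⟩ := exists_prime_orderOf_dvd_card' (G := L) s (hn ▸ hsd)
    obtain ⟨hc, hle, hperp⟩ := perp_facts β hinj halt hs ha
    let N := (β a).ker
    let M : Subgroup N := (Subgroup.zpowers a).subgroupOf N
    have hM : Nat.card M = s := by
      rw [Nat.card_congr (Subgroup.subgroupOfEquivOfLe hle).toEquiv, Nat.card_zpowers, ha]
    let γ : N → ((N ⧸ M) →* C) := fun x => QuotientGroup.lift M ((β (x : L)).comp N.subtype) fun y hy => by
      obtain ⟨i, hi⟩ := Subgroup.mem_zpowers_iff.1 (Subgroup.mem_subgroupOf.1 hy)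
      show β (x : L) (y : L) = 1
      rw [← hi, map_zpow, pairing_skew β halt, show β a (x : L) = 1 from x.2, inv_one, one_zpow]
    let γh : N →* ((N ⧸ M) →* C) := MonoidHom.mk' γ fun x y => MonoidHom.ext fun z => by
      obtain ⟨z, rfl⟩ := QuotientGroup.mk_surjective z
      show β ((x * y : N) : L) (z : L) = β (x : L) z * β (y : L) z
      simp
    let β' : (N ⧸ M) →* ((N ⧸ M) →* C) := QuotientGroup.lift M γh fun y hy => MonoidHom.ext fun z => by
      obtain ⟨z, rfl⟩ := QuotientGroup.mk_surjective z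
      obtain ⟨i, hi⟩ := Subgroup.mem_zpowers_iff.1 (Subgroup.mem_subgroupOf.1 hy)
      show β (y : L) (z : L) = 1
      rw [← hi, map_zpow]
      show (β a (z : L)) ^ i = 1
      rw [show β a (z : L) = 1 from z.2, one_zpow]
    have hinj' : Function.Injective β' := by
      rw [injective_iff_map_eq_one]
      intro x hx
      obtain ⟨x, rfl⟩ := QuotientGroup.mk_surjective x
      rw [QuotientGroup.eq_one_iff, Subgroup.mem_subgroupOf]
      exact hperp _ fun y hy => DFunLike.congr_fun hx ((⟨y, hy⟩ : N) : N ⧸ M)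
    have halt' : ∀ x, β' x x = 1 := fun x => by
      obtain ⟨x, rfl⟩ := QuotientGroup.mk_surjective x
      exact halt (x : L)
    have hcard : Nat.card (N ⧸ M) * s = Nat.card N := by
      rw [← hM]; exact (M.card_eq_card_quotient_mul_card_subgroup).symm
    have hn2 : n = Nat.card (N ⧸ M) * s * s := by rw [hcard, ← hn]; exact hc.symm
    obtain ⟨e, he⟩ := ih (Nat.card (N ⧸ M)) (by
      have h0 : 0 < Nat.card (N ⧸ M) := Nat.card_pos
      have : 2 * 2 ≤ s * s := Nat.mul_le_mul hs.two_le hs.two_le
      rw [hn2, mul_assoc]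
      calc Nat.card (N ⧸ M) = Nat.card (N ⧸ M) * 1 := (mul_one _).symm
        _ < Nat.card (N ⧸ M) * (s * s) := Nat.mul_lt_mul_of_pos_left (by omega) h0) β' hinj' halt' rfl
    exact ⟨e * s, by rw [hn2, he]; ring⟩

/-- The isometries of a pairing on a group of order the square of a prime. -/
theorem card_isometries_le {L : Type u} [CommGroup L] [Finite L] (β : L →* L →* C)
    (hinj : Function.Injective β) (halt : ∀ a, β a a = 1) {s : ℕ} (hs : s.Prime) (hL : Nat.card L = s ^ 2)
    {B : Type*} [Finite B] (act : B → L →* L) (hact : Function.Injective act)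
    (hbij : ∀ b, Function.Injective (act b)) (hpres : ∀ b x y, β (act b x) (act b y) = β x y) :
    Nat.card B ≤ (s ^ 2 - 1) * s := by
  classical
  haveI := Fact.mk hs
  obtain ⟨a, ha⟩ := exists_prime_orderOf_dvd_card' (G := L) s (hL ▸ dvd_pow_self s two_ne_zero)
  obtain ⟨hc, hle, hperp⟩ := perp_facts β hinj halt hs ha
  have hker : ∀ x : L, x ≠ 1 → Nat.card (β x).ker ≤ s := by
    intro x hx
    have hne : (β x).ker ≠ ⊤ := fun h => hx (hinj (by
      rw [map_one]; exact MonoidHom.ker_eq_top_iff.1 h))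
    obtain ⟨i, hi, hcard⟩ := (Nat.dvd_prime_pow hs).1 (hL ▸ (β x).ker.card_subgroup_dvd_card)
    have : i ≠ 2 := fun h => hne ((Subgroup.card_eq_iff_eq_top _).1 (by rw [hcard, h, hL]))
    rw [hcard]
    exact (Nat.pow_le_pow_right hs.pos (show i ≤ 1 by omega)).trans (le_of_eq (pow_one s))
  obtain ⟨f, hf⟩ : ∃ f, β a f ≠ 1 := by
    by_contra h; push Not at h
    have : a = 1 := hinj (by rw [map_one]; exact MonoidHom.ext h)
    rw [this, orderOf_one] at ha
    exact hs.one_lt.ne ha
  have hgen : Subgroup.closure ({a, f} : Set L) = ⊤ := by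
    set U := Subgroup.closure ({a, f} : Set L)
    by_contra hne
    obtain ⟨i, hi, hcard⟩ := (Nat.dvd_prime_pow hs).1 (hL ▸ U.card_subgroup_dvd_card)
    have hi2 : i ≠ 2 := fun h => hne ((Subgroup.card_eq_iff_eq_top _).1 (by rw [hcard, h, hL]))
    have hU : Subgroup.zpowers a ≤ U := Subgroup.zpowers_le.2 (Subgroup.subset_closure (by simp))
    have h1 : Subgroup.zpowers a = U := Subgroup.eq_of_le_of_card_ge hU (by
      rw [Nat.card_zpowers, ha, hcard]
      exact (Nat.pow_le_pow_right hs.pos (show i ≤ 1 by omega)).trans (le_of_eq (pow_one s)))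
    have hf' : f ∈ Subgroup.zpowers a := h1 ▸ Subgroup.subset_closure (by simp)
    exact hf (hle hf')
  have ha1 : a ≠ 1 := fun h => by rw [h, orderOf_one] at ha; exact hs.one_lt.ne ha
  let P := Σ x : {x : L // x ≠ 1}, {y : L // β x.1 y = β a f}
  have hP : Nat.card P ≤ (s ^ 2 - 1) * s := by
    haveI := Fintype.ofFinite {x : L // x ≠ 1}
    rw [show Nat.card P = ∑ x : {x : L // x ≠ 1}, Nat.card {y : L // β x.1 y = β a f} from Nat.card_sigma]
    refine (Finset.sum_le_card_nsmul _ _ s fun x _ => ?_).trans ?_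
    · rcases isEmpty_or_nonempty {y : L // β x.1 y = β a f} with h | ⟨⟨y0, hy0⟩⟩
      · simp
      refine le_trans (Nat.card_le_card_of_injective (β := (β x.1).ker)
        (fun y => ⟨y.1 * y0⁻¹, by simp [y.2, hy0]⟩) ?_) (hker _ x.2)
      intro y y' h
      exact Subtype.ext (mul_right_cancel (congrArg Subtype.val h))
    · rw [smul_eq_mul, Finset.card_univ, ← Nat.card_eq_fintype_card]
      refine Nat.mul_le_mul_right _ ?_
      have : Nat.card {x : L // x ≠ 1} + 1 = Nat.card L := by
        rw [← Finite.card_option]; exact Nat.card_congr (Equiv.optionSubtypeNe 1)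
      omega
  refine le_trans (Nat.card_le_card_of_injective (β := P)
    (fun b => ⟨⟨act b a, fun h => ha1 (hbij b (by rw [h, map_one]))⟩, ⟨act b f, hpres b a f⟩⟩) ?_) hP
  intro b b' h
  have h1 : act b a = act b' a := congrArg (fun z : P => z.1.1) h
  have h2 : act b f = act b' f := congrArg (fun z : P => z.2.1) h
  refine hact (MonoidHom.eq_of_eqOn_top fun x _ => ?_)
  have : (Subgroup.closure ({a, f} : Set L)) ≤ MonoidHom.eqLocus (act b) (act b') := by
    rw [Subgroup.closure_le]
    rintro z (rfl | rfl)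
    · exact h1
    · exact h2
  exact this (hgen ▸ Subgroup.mem_top x)

end CfsgLib.Core.ClassNumber
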