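import Cfsg.Agent.Lib.RegOrbit.Count
import Cfsg.Agent.Lib.Core.ClassNumber.Pairing

/-!
Numerical invariants of a primitive soluble linear group.
-/

set_option autoImplicit false
set_option linter.all false

namespace CfsgLib.RegOrbit

open MulAction

variable {V : Type*} [AddCommGroup V] [Finite V]
variable {p : ℕ} {G : Subgroup (AddMonoid.End V)ˣ}

local notation "E" => AddMonoid.End V

namespace Setup

variable (S : Setup p G)

instance charPK : CharP S.K p := (CharP.charP_iff_prime_eq_zero S.prim.prime).2 (Subtype.ext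
  (DFunLike.ext _ _ fun v => by
    rw [SubringClass.coe_natCast, AddMonoid.End.natCast_apply]; exact S.prim.hexp v))

@[reducible] noncomputable def modK : Module S.K V := Module.compHom V S.K.subtype

/-- The degree of the field over the prime field. -/
noncomputable def deg : ℕ :=
  haveI := S.fact
  letI := ZMod.algebra S.K p
  Module.finrank (ZMod p) S.K

/-- The dimension over the field. -/
noncomputable def dim : ℕ := letI := S.modK; Module.finrank S.K V

theorem card_K : Nat.card S.K = p ^ S.deg := by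
  haveI := S.fact
  letI := ZMod.algebra S.K p
  haveI : Module.Finite (ZMod p) S.K := Module.Finite.of_finite
  rw [Module.natCard_eq_pow_finrank (K := ZMod p), Nat.card_zmod]; rfl

theorem card_V : Nat.card V = (p ^ S.deg) ^ S.dim := by
  letI := S.modK
  haveI : Module.Finite S.K V := Module.Finite.of_finite
  rw [Module.natCard_eq_pow_finrank (K := S.K), card_K]; rfl

theorem deg_pos : 0 < S.deg := by
  rcases Nat.eq_zero_or_pos S.deg with h | h
  · have := S.card_K
    rw [h, pow_zero] at this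
    exact absurd this (Finite.one_lt_card (α := S.K)).ne'
  · exact h

theorem dim_pos : 0 < S.dim := by
  rcases Nat.eq_zero_or_pos S.dim with h | h
  · have h1 := S.card_V
    rw [h, pow_zero] at h1
    haveI := S.prim.hirr.1
    exact absurd h1 (Finite.one_lt_card (α := V)).ne'
  · exact h

/-- The centraliser of `Z`. -/
def cz : Subgroup G := Subgroup.centralizer (S.Z : Set G)

theorem mem_cz {g : G} : g ∈ S.cz ↔ ∀ z ∈ S.Z, g * z = z * g := by
  rw [cz, Subgroup.mem_centralizer_iff]
  exact ⟨fun h z hz => (h z hz).symm, fun h z hz => (h z hz).symm⟩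

theorem le_cz : S.F ≤ S.cz := fun f hf => S.mem_cz.2 fun z hz => S.fCentral f hf z hz

instance cz_normal : S.cz.Normal := by
  haveI := S.zNormal
  exact inferInstanceAs (Subgroup.centralizer (S.Z : Set G)).Normal

theorem index_cz_le : S.cz.index ≤ S.deg := by
  classical
  haveI := finiteGroup (G := G)
  haveI := S.fact
  letI := ZMod.algebra S.K p
  haveI : Module.Finite (ZMod p) S.K := Module.Finite.of_finite
  let σ : G → (S.K →ₐ[ZMod p] S.K) := fun g => { S.sig g with
    commutes' := fun r => by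
      show S.sig g (algebraMap (ZMod p) S.K r) = _
      exact RingHom.congr_fun (RingHom.ext_zmod ((S.sig g).comp (algebraMap (ZMod p) S.K)) (algebraMap (ZMod p) S.K)) r }
  have hbij : ∀ g, Function.Bijective (σ g) := fun g =>
    Finite.injective_iff_bijective.1 (S.sig g).injective
  let τ : G → (S.K ≃ₐ[ZMod p] S.K) := fun g => AlgEquiv.ofBijective (σ g) (hbij g)
  haveI : IsGalois (ZMod p) S.K := inferInstance
  haveI : Finite (S.K ≃ₐ[ZMod p] S.K) :=
    Finite.of_injective (fun f => (f : S.K → S.K)) DFunLike.coe_injective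
  have hτ : ∀ g h, τ g = τ h → g⁻¹ * h ∈ S.cz := by
    intro g h he
    refine S.mem_cz.2 fun z hz => ?_
    have h1 : S.sig g (S.scal z hz) = S.sig h (S.scal z hz) :=
      AlgEquiv.congr_fun he (S.scal z hz)
    rw [S.sig_scal, S.sig_scal] at h1
    have h2 : g * z * g⁻¹ = h * z * h⁻¹ := op_injective (congrArg Subtype.val h1)
    calc g⁻¹ * h * z = g⁻¹ * (h * z * h⁻¹) * h := by group
      _ = g⁻¹ * (g * z * g⁻¹) * h := by rw [h2]
      _ = z * (g⁻¹ * h) := by group
  rw [Subgroup.index_eq_card]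
  refine le_trans (Nat.card_le_card_of_injective (β := S.K ≃ₐ[ZMod p] S.K) (fun x => τ x.out) ?_)
    (le_of_eq (IsGalois.card_aut_eq_finrank (ZMod p) S.K))
  intro x y h
  rw [← Quotient.out_eq x, ← Quotient.out_eq y]
  exact QuotientGroup.eq.2 (hτ _ _ h)

theorem cz_eq_top (h : S.deg = 1) : S.cz = ⊤ := eq_top_iff.2 fun g _ =>
  S.mem_cz.2 fun z hz => S.central_of_prime (by rw [card_K, h, pow_one]) g z hz

theorem z_dvd : Nat.card S.Z ∣ Nat.card S.K - 1 := by
  classical
  haveI := finiteGroup (G := G)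
  let φ : S.Z →* S.Kˣ :=
    { toFun := fun z => Units.mk0 (S.scal z z.2) (S.scal_ne_zero _ z.2)
      map_one' := Units.ext (Subtype.ext (op_one (G := G)))
      map_mul' := fun a b => Units.ext (Subtype.ext (op_mul (a : G) b)) }
  have hφ : Function.Injective φ := fun a b h =>
    Subtype.ext (op_injective (congrArg Subtype.val (congrArg Units.val h)))
  have := Subgroup.card_dvd_of_injective φ hφ
  rwa [Nat.card_units] at this

instance zOf_normal : (S.Z.subgroupOf S.F).Normal := by
  haveI := S.zNormal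
  exact Subgroup.Normal.comap inferInstance _

instance quotCommGroup : CommGroup (S.F ⧸ S.Z.subgroupOf S.F) :=
  { (inferInstance : Group (S.F ⧸ S.Z.subgroupOf S.F)) with
    mul_comm := fun a b => by
      obtain ⟨a, rfl⟩ := QuotientGroup.mk_surjective a
      obtain ⟨b, rfl⟩ := QuotientGroup.mk_surjective b
      rw [← QuotientGroup.mk_mul, ← QuotientGroup.mk_mul, QuotientGroup.eq, Subgroup.mem_subgroupOf]
      have := S.cm_mem (inv_mem b.2) (inv_mem a.2)
      simpa [cm, mul_assoc] using this }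

instance zCommGroup : CommGroup S.Z :=
  { (inferInstance : Group S.Z) with
    mul_comm := fun a b => Subtype.ext (S.zComm _ a.2 _ b.2) }

/-- The commutator with a fixed element. -/
def cmWith (a : S.F) : S.F →* S.Z :=
  MonoidHom.mk' (fun b : S.F => (⟨cm (a : G) b, S.cm_mem a.2 b.2⟩ : S.Z))
    fun b c => Subtype.ext (S.cm_mul_right b.2 c.2 a.2)

theorem cmWith_z (a : S.F) : S.Z.subgroupOf S.F ≤ (S.cmWith a).ker := fun b hb => by
  refine MonoidHom.mem_ker.2 (Subtype.ext ?_)
  show cm (a : G) (b : G) = 1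
  have hb' : (b : G) ∈ S.Z := hb
  rw [← cm_inv (b : G) (a : G), S.cm_z_left hb' a.2, inv_one]

/-- The commutator with a fixed element, on the layer. -/
def pairAux (a : S.F) : (S.F ⧸ S.Z.subgroupOf S.F) →* S.Z :=
  QuotientGroup.lift _ (S.cmWith a) (S.cmWith_z a)

theorem pairAux_mk (a b : S.F) : (S.pairAux a b : G) = cm (a : G) b := rfl

/-- The commutator pairing as a map on `F`. -/
def pairHom : S.F →* ((S.F ⧸ S.Z.subgroupOf S.F) →* S.Z) :=
  MonoidHom.mk' S.pairAux fun a b => MonoidHom.ext fun c => by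
    obtain ⟨c, rfl⟩ := QuotientGroup.mk_surjective c
    refine Subtype.ext ?_
    rw [MonoidHom.mul_apply, Subgroup.coe_mul, pairAux_mk, pairAux_mk, pairAux_mk]
    exact S.cm_mul_left a.2 b.2 c.2

theorem pairHom_z : S.Z.subgroupOf S.F ≤ S.pairHom.ker := fun a ha => by
  refine MonoidHom.mem_ker.2 (MonoidHom.ext fun c => ?_)
  obtain ⟨c, rfl⟩ := QuotientGroup.mk_surjective c
  exact Subtype.ext (S.cm_z_left ha c.2)

/-- The commutator pairing. -/
def pair : (S.F ⧸ S.Z.subgroupOf S.F) →* (S.F ⧸ S.Z.subgroupOf S.F) →* S.Z :=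
  QuotientGroup.lift _ S.pairHom S.pairHom_z

theorem pair_mk (a b : S.F) : (S.pair a b : G) = cm (a : G) b := rfl

theorem pair_self (a : S.F ⧸ S.Z.subgroupOf S.F) : S.pair a a = 1 := by
  obtain ⟨a, rfl⟩ := QuotientGroup.mk_surjective a
  exact Subtype.ext (cm_self (a : G))

theorem pair_injective : Function.Injective S.pair := by
  rw [injective_iff_map_eq_one]
  intro a ha
  obtain ⟨a, rfl⟩ := QuotientGroup.mk_surjective a
  rw [QuotientGroup.eq_one_iff, Subgroup.mem_subgroupOf]
  refine S.cent a fun f hf => cm_eq_one_iff.1 ?_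
  have := congrArg Subtype.val (DFunLike.congr_fun ha ((⟨f, hf⟩ : S.F) : S.F ⧸ S.Z.subgroupOf S.F))
  exact this

/-- The square root of the index of `Z` in `F`. -/
noncomputable def rad : ℕ :=
  haveI := finiteGroup (G := G)
  haveI := S.isCyclicZ
  (Core.ClassNumber.exists_sq_eq_card (Nat.card (S.F ⧸ S.Z.subgroupOf S.F)) S.pair S.pair_injective
    S.pair_self rfl).choose

theorem card_layer : Nat.card (S.F ⧸ S.Z.subgroupOf S.F) = S.rad ^ 2 := by
  haveI := finiteGroup (G := G)
  haveI := S.isCyclicZ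
  exact (Core.ClassNumber.exists_sq_eq_card (Nat.card (S.F ⧸ S.Z.subgroupOf S.F)) S.pair S.pair_injective
    S.pair_self rfl).choose_spec

theorem card_F : Nat.card S.F = S.rad ^ 2 * Nat.card S.Z := by
  haveI := finiteGroup (G := G)
  rw [← S.card_layer, ← Nat.card_congr (Subgroup.subgroupOfEquivOfLe S.le).toEquiv]
  exact Subgroup.card_eq_card_quotient_mul_card_subgroup _

theorem rad_pos : 0 < S.rad := by
  haveI := finiteGroup (G := G)
  rcases Nat.eq_zero_or_pos S.rad with h | h
  · have := S.card_layer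
    rw [h] at this
    exact absurd this (by simpa using (Nat.card_pos (α := S.F ⧸ S.Z.subgroupOf S.F)).ne')
  · exact h

theorem prime_dvd_z {s : ℕ} (hs : s.Prime) (h : s ∣ S.rad) : s ∣ Nat.card S.Z := by
  haveI := finiteGroup (G := G)
  haveI := Fact.mk hs
  obtain ⟨a, ha⟩ := exists_prime_orderOf_dvd_card' (G := S.F ⧸ S.Z.subgroupOf S.F) s
    (S.card_layer ▸ dvd_pow h two_ne_zero)
  have h1 : S.pair a ≠ 1 := fun e => by
    have := S.pair_injective (e.trans (map_one S.pair).symm)
    rw [this, orderOf_one] at ha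
    exact hs.one_lt.ne ha
  obtain ⟨b, hb⟩ : ∃ b, S.pair a b ≠ 1 := by
    by_contra hc; push Not at hc; exact h1 (MonoidHom.ext hc)
  have h2 : S.pair a b ^ s = 1 := by
    rw [← MonoidHom.pow_apply, ← map_pow, ← ha, pow_orderOf_eq_one, map_one, MonoidHom.one_apply]
  rw [← orderOf_eq_prime h2 hb]
  exact orderOf_dvd_natCard _

/-- Conjugation on the layer. -/
def layAct (g : G) : (S.F ⧸ S.Z.subgroupOf S.F) →* (S.F ⧸ S.Z.subgroupOf S.F) :=
  QuotientGroup.map _ _
    ({ toFun := fun f => ⟨g * f * g⁻¹, S.fNormal.conj_mem f f.2 g⟩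
       map_one' := Subtype.ext (by simp)
       map_mul' := fun a b => Subtype.ext (by simp [mul_assoc]) } : S.F →* S.F)
    fun f hf => S.zNormal.conj_mem _ hf g

theorem layAct_mk (g : G) (f : S.F) :
    S.layAct g f = ((⟨g * f * g⁻¹, S.fNormal.conj_mem f f.2 g⟩ : S.F) : S.F ⧸ S.Z.subgroupOf S.F) := rfl

theorem layAct_mul (g h : G) (x : S.F ⧸ S.Z.subgroupOf S.F) :
    S.layAct (g * h) x = S.layAct g (S.layAct h x) := by
  obtain ⟨f, rfl⟩ := QuotientGroup.mk_surjective x
  rw [layAct_mk, layAct_mk, layAct_mk]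
  exact congrArg (QuotientGroup.mk (s := S.Z.subgroupOf S.F)) (Subtype.ext (by simp [mul_assoc]))

theorem layAct_one (x : S.F ⧸ S.Z.subgroupOf S.F) : S.layAct 1 x = x := by
  obtain ⟨f, rfl⟩ := QuotientGroup.mk_surjective x
  rw [layAct_mk]
  exact congrArg (QuotientGroup.mk (s := S.Z.subgroupOf S.F)) (Subtype.ext (by simp))

theorem pair_layAct {g : G} (hg : g ∈ S.cz) (a b : S.F ⧸ S.Z.subgroupOf S.F) :
    S.pair (S.layAct g a) (S.layAct g b) = S.pair a b := by
  obtain ⟨a, rfl⟩ := QuotientGroup.mk_surjective a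
  obtain ⟨b, rfl⟩ := QuotientGroup.mk_surjective b
  refine Subtype.ext ?_
  rw [layAct_mk, layAct_mk, pair_mk, pair_mk, ← conj_cm, S.mem_cz.1 hg _ (S.cm_mem a.2 b.2)]
  group

theorem mem_F_of_layAct {g : G} (hg : g ∈ S.cz) (h : ∀ x, S.layAct g x = x) : g ∈ S.F := by
  haveI := finiteGroup (G := G)
  have hcentral : ∀ z ∈ S.Z, g * z = z * g := S.mem_cz.1 hg
  have htriv : ∀ f ∈ S.F, g * f * g⁻¹ * f⁻¹ ∈ S.Z := by
    intro f hf
    have h1 := h ((⟨f, hf⟩ : S.F) : S.F ⧸ S.Z.subgroupOf S.F)
    rw [layAct_mk, QuotientGroup.eq, Subgroup.mem_subgroupOf] at h1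
    have h4 := S.zNormal.conj_mem _ (inv_mem h1) f
    simpa [mul_assoc] using h4
  let ψ : S.F →* S.Z := MonoidHom.mk' (fun f => ⟨g * f * g⁻¹ * (f : G)⁻¹, htriv f f.2⟩) fun a b => by
    refine Subtype.ext ?_
    show g * ((a : G) * b) * g⁻¹ * ((a : G) * b)⁻¹ = g * a * g⁻¹ * (a : G)⁻¹ * (g * b * g⁻¹ * (b : G)⁻¹)
    have h1 := S.fCentral _ (inv_mem a.2) _ (htriv b b.2)
    calc g * ((a : G) * b) * g⁻¹ * ((a : G) * b)⁻¹
        = g * a * g⁻¹ * ((g * b * g⁻¹ * (b : G)⁻¹) * (a : G)⁻¹) := by group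
      _ = g * a * g⁻¹ * ((a : G)⁻¹ * (g * b * g⁻¹ * (b : G)⁻¹)) := by rw [h1]
      _ = _ := by group
  obtain ⟨u, hu⟩ := S.exists_cm_eq_of S.F S.le le_rfl (fun a ha hc => S.cent a hc) ψ fun z hz =>
    Subtype.ext (by
      show g * (z : G) * g⁻¹ * (z : G)⁻¹ = 1
      rw [hcentral _ hz]; group)
  have hgu : g * u ∈ S.Z := by
    refine S.cent _ fun f hf => cm_eq_one_iff.1 ?_
    have h1 : g * f * g⁻¹ * f⁻¹ = cm f (u : G) := hu ⟨f, hf⟩
    have h2 : cm (u : G) f * g = g * cm (u : G) f := (hcentral _ (S.cm_mem u.2 hf)).symm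
    calc cm (g * (u : G)) f = g * (cm (u : G) f * f) * g⁻¹ * f⁻¹ := by simp [cm, mul_assoc]
      _ = cm (u : G) f * (g * f * g⁻¹ * f⁻¹) := by rw [← mul_assoc g, ← h2]; group
      _ = 1 := by rw [h1, ← cm_inv f (u : G), inv_mul_cancel]
  have := mul_mem (S.le hgu) (inv_mem u.2)
  simpa using this

/-- The index of `F` in the centraliser of `Z`. -/
noncomputable def outer : ℕ := S.F.relIndex S.cz

theorem card_cz : Nat.card S.cz = S.outer * (S.rad ^ 2 * Nat.card S.Z) := by
  haveI := finiteGroup (G := G)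
  rw [← S.card_F, outer, Subgroup.relIndex, ← Nat.card_congr (Subgroup.subgroupOfEquivOfLe S.le_cz).toEquiv]
  exact ((S.F.subgroupOf S.cz).index_mul_card).symm

/-- A bound for the index of `F` by a group of maps of the layer. -/
theorem outer_le {B : Type*} [Finite B] (f : S.cz → B)
    (hf : ∀ g h : S.cz, f g = f h → ∀ x, S.layAct g x = S.layAct h x) : S.outer ≤ Nat.card B := by
  haveI := finiteGroup (G := G)
  rw [outer, Subgroup.relIndex, Subgroup.index_eq_card]
  refine Nat.card_le_card_of_injective (fun x => f x.out) fun x y h => ?_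
  rw [← Quotient.out_eq x, ← Quotient.out_eq y]
  refine QuotientGroup.eq.2 (Subgroup.mem_subgroupOf.2 (S.mem_F_of_layAct ((x.out)⁻¹ * y.out).2 fun w => ?_))
  push_cast
  rw [layAct_mul, ← hf _ _ h, ← layAct_mul, inv_mul_cancel, layAct_one]

theorem outer_le_of_prime (h : S.rad.Prime) : S.outer ≤ (S.rad ^ 2 - 1) * S.rad := by
  haveI := finiteGroup (G := G)
  haveI := S.isCyclicZ
  haveI : Finite ((S.F ⧸ S.Z.subgroupOf S.F) →* (S.F ⧸ S.Z.subgroupOf S.F)) :=
    Finite.of_injective (fun φ => (φ : _ → _)) DFunLike.coe_injective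
  let A : Set ((S.F ⧸ S.Z.subgroupOf S.F) →* (S.F ⧸ S.Z.subgroupOf S.F)) := Set.range fun g : S.cz => S.layAct g
  refine (S.outer_le (B := A) (fun g => ⟨_, g, rfl⟩) fun g h e x =>
    DFunLike.congr_fun (congrArg Subtype.val e) x).trans ?_
  refine Core.ClassNumber.card_isometries_le S.pair S.pair_injective S.pair_self h S.card_layer
    (fun a : A => a.1) (fun a b e => Subtype.ext e) ?_ ?_
  · rintro ⟨_, g, rfl⟩ x y e
    have := congrArg (S.layAct (g : G)⁻¹) e
    rwa [← layAct_mul, ← layAct_mul, inv_mul_cancel, layAct_one, layAct_one] at this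
  · rintro ⟨_, g, rfl⟩ x y
    exact S.pair_layAct g.2 x y

theorem outer_eq_one (h : S.rad = 1) : S.outer = 1 := by
  haveI := finiteGroup (G := G)
  have hsub : Subsingleton (S.F ⧸ S.Z.subgroupOf S.F) :=
    (Nat.card_eq_one_iff_unique.1 (by rw [S.card_layer, h, one_pow])).1
  have h1 := S.outer_le (B := Unit) (fun _ => ()) fun g h e x => @Subsingleton.elim _ hsub _ _
  rw [Nat.card_unique] at h1
  have h2 : 0 < S.outer := Nat.pos_of_ne_zero fun h0 => by
    have := S.card_cz
    rw [h0, zero_mul] at this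
    exact Nat.card_pos.ne' this
  omega

/-- Representatives of the layer are independent. -/
theorem rad_le_dim : S.rad ≤ S.dim := by
  classical
  haveI := finiteGroup (G := G)
  haveI := Fintype.ofFinite (S.F ⧸ S.Z.subgroupOf S.F)
  letI := S.modK
  haveI : Module.Finite S.K V := Module.Finite.of_finite
  let r : S.F ⧸ S.Z.subgroupOf S.F → G := fun u => (u.out : S.F)
  have hr : ∀ u, r u ∈ S.F := fun u => (u.out : S.F).2
  have key : ∀ (T : Finset (S.F ⧸ S.Z.subgroupOf S.F)) (κ : S.F ⧸ S.Z.subgroupOf S.F → S.K),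
      (∀ v : V, ∑ u ∈ T, (κ u : E) (r u • v) = 0) → ∀ u ∈ T, κ u = 0 := by
    intro T
    induction T using Finset.induction_on with
    | empty => intro κ _ u hu; simp at hu
    | insert u' T hu' ih =>
      intro κ h
      have hk : ∀ u ∈ T, κ u = 0 := by
        intro u hu
        obtain ⟨f, hf, hne⟩ : ∃ f ∈ S.F, cm f (r u) ≠ cm f (r u') := by
          by_contra hc
          push Not at hc
          have h1 : u = u' := S.pair_injective (MonoidHom.ext fun w => by
            obtain ⟨w, rfl⟩ := QuotientGroup.mk_surjective w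
            refine Subtype.ext ?_
            rw [← Quotient.out_eq u, ← Quotient.out_eq u']
            show cm (r u) (w : G) = cm (r u') (w : G)
            rw [← cm_inv (w : G) (r u), ← cm_inv (w : G) (r u'), hc w w.2])
          exact hu' (h1 ▸ hu)
        let ψ : S.F ⧸ S.Z.subgroupOf S.F → S.K := fun w => S.scal (cm f (r w)) (S.cm_mem hf (hr w))
        have h2 : ∀ v : V, ∑ w ∈ insert u' T, ((ψ w * κ w : S.K) : E) (r w • v) = 0 := fun v => by
          have h3 := h (f⁻¹ • v)
          have e : ∀ w, f • ((κ w : E) (r w • f⁻¹ • v)) = ((ψ w * κ w : S.K) : E) (r w • v) := fun w => by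
            rw [S.smul_apply hf, show f • r w • f⁻¹ • v = cm f (r w) • r w • v by
              simp only [smul_smul, cm]; congr 1; group,
              ← S.scal_apply (cm f (r w)) (S.cm_mem hf (hr w)), ← S.mul_apply, mul_comm]
          have h4 := congrArg (fun x => f • x) h3
          simpa only [Finset.smul_sum, smul_zero, e] using h4
        have h5 : ∀ v : V, ∑ w ∈ T, (((ψ w - ψ u') * κ w : S.K) : E) (r w • v) = 0 := fun v => by
          have h6 : ∑ w ∈ insert u' T, (((ψ w - ψ u') * κ w : S.K) : E) (r w • v) = 0 := by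
            have e : ∀ w, (((ψ w - ψ u') * κ w : S.K) : E) (r w • v)
                = ((ψ w * κ w : S.K) : E) (r w • v) - (ψ u' : E) ((κ w : E) (r w • v)) := fun w => by
              rw [sub_mul]; rfl
            simp only [e, Finset.sum_sub_distrib, h2, ← map_sum, h, map_zero, sub_zero]
          rw [Finset.sum_insert hu', sub_self, zero_mul] at h6
          simpa using h6
        rcases mul_eq_zero.1 (ih _ h5 u hu) with h7 | h7
        · exact absurd (op_injective (congrArg Subtype.val (sub_eq_zero.1 h7))) hne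
        · exact h7
      intro u hu
      rcases Finset.mem_insert.1 hu with rfl | hu
      · obtain ⟨v, hv⟩ := @exists_ne V S.prim.hirr.1 0
        have h1 := h v
        rw [Finset.sum_insert hu', Finset.sum_eq_zero fun w hw => by rw [hk w hw]; rfl, add_zero] at h1
        exact S.eq_zero_of_apply (fun e => hv ((smul_eq_zero_iff_eq _).1 e)) h1
      · exact hk u hu
  let vec : S.F ⧸ S.Z.subgroupOf S.F → (V →ₗ[S.K] V) := fun u =>
    { toFun := fun v => r u • v
      map_add' := smul_add _
      map_smul' := fun κ v => S.smul_apply (hr u) κ v }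
  have hli : LinearIndependent S.K vec := by
    rw [Fintype.linearIndependent_iff]
    intro κ hκ u
    refine key Finset.univ κ (fun v => ?_) u (Finset.mem_univ u)
    have := LinearMap.congr_fun hκ v
    simp only [LinearMap.coe_sum, Finset.sum_apply, LinearMap.zero_apply] at this
    exact this
  have h := hli.fintype_card_le_finrank
  rw [Module.finrank_linearMap, ← Nat.card_eq_fintype_card, S.card_layer] at h
  exact Nat.pow_le_pow_iff_left two_ne_zero |>.1 (by rw [pow_two (S.dim)]; exact h)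

/-- The fusion of `Z` is bounded by a greatest common divisor. -/
theorem stab_le {g : G} {ζ : G} (hζ : ζ ∈ S.Z) (hg : g ∈ S.cz) {y : G} (hy : y ∈ S.cz)
    (h : y * g * y⁻¹ = ζ * g) : ζ ^ S.dim = 1 := by
  classical
  letI := S.modK
  haveI : Module.Finite S.K V := Module.Finite.of_finite
  have hc : ∀ a ∈ S.cz, ∀ κ : S.K, op G a * (κ : E) = (κ : E) * op G a := fun a ha κ =>
    commute_span (S.mem_cz.1 ha) _ κ.2
  let L : S.cz →* (V →ₗ[S.K] V) :=
    { toFun := fun a =>
        { toFun := fun v => (a : G) • v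
          map_add' := smul_add _
          map_smul' := fun κ v => DFunLike.congr_fun (hc a a.2 κ) v }
      map_one' := LinearMap.ext fun v => one_smul _ v
      map_mul' := fun a b => LinearMap.ext fun v => mul_smul (a : G) (b : G) v }
  have hζc : ζ ∈ S.cz := S.le_cz (S.le hζ)
  let φ : S.cz →* S.K := LinearMap.det.comp L
  have h1 : φ ⟨ζ, hζc⟩ = S.scal ζ hζ ^ S.dim := by
    show LinearMap.det (L ⟨ζ, hζc⟩) = _
    rw [show L ⟨ζ, hζc⟩ = (S.scal ζ hζ) • (LinearMap.id : V →ₗ[S.K] V) from
      LinearMap.ext fun v => rfl, LinearMap.det_smul, LinearMap.det_id, mul_one]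
    rfl
  have h2 : φ ⟨ζ, hζc⟩ * φ ⟨g, hg⟩ = φ ⟨g, hg⟩ := by
    rw [← map_mul]
    have : (⟨ζ, hζc⟩ * ⟨g, hg⟩ : S.cz) = ⟨y, hy⟩ * ⟨g, hg⟩ * (⟨y, hy⟩)⁻¹ := Subtype.ext h.symm
    rw [this, map_mul, map_mul, mul_comm (φ ⟨y, hy⟩), mul_assoc, ← map_mul φ, mul_inv_cancel, map_one,
      mul_one]
  have hne : φ ⟨g, hg⟩ ≠ 0 := fun e => by
    have : φ ⟨g, hg⟩ * φ (⟨g, hg⟩)⁻¹ = 1 := by rw [← map_mul, mul_inv_cancel, map_one]
    rw [e, zero_mul] at this
    exact zero_ne_one this
  rw [h1] at h2
  have h3 : S.scal ζ hζ ^ S.dim = 1 := (mul_eq_right₀ hne).1 h2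
  rw [S.scal_pow] at h3
  exact op_injective ((congrArg Subtype.val h3).trans op_one.symm)

theorem card_pow_eq_one (n : ℕ) :
    Nat.card {ζ : S.Z // ζ ^ n = 1} = Nat.gcd (Nat.card S.Z) n := by
  haveI := finiteGroup (G := G)
  haveI := S.isCyclicZ
  rw [← IsCyclic.card_powMonoidHom_ker S.Z n]
  exact Nat.card_congr (Equiv.refl _)

end Setup

end CfsgLib.RegOrbit
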