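import Cfsg.Agent.Lib.Core.ClassNumber.Components
import Cfsg.Agent.Lib.Core.ClassNumber.SetupData

/-!
The order of a soluble completely reducible linear group.
-/

set_option autoImplicit false
set_option linter.all false

universe u v

namespace CfsgLib.RegOrbit

namespace Setup

open MulAction

variable {V : Type u} [AddCommGroup V] [Finite V]
variable {p : ℕ} {G : Subgroup (AddMonoid.End V)ˣ} (S : Setup p G)

/-- The action on the layer, written additively. -/
@[reducible] def layerAction : DistribMulAction G (Additive (S.F ⧸ S.Z.subgroupOf S.F)) where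
  smul g w := Additive.ofMul (S.layAct g (Additive.toMul w))
  one_smul w := congrArg Additive.ofMul (S.layAct_one (Additive.toMul w))
  mul_smul g h w := congrArg Additive.ofMul (S.layAct_mul g h (Additive.toMul w))
  smul_zero g := congrArg Additive.ofMul (map_one (S.layAct g))
  smul_add g a b := congrArg Additive.ofMul (map_mul (S.layAct g) (Additive.toMul a) (Additive.toMul b))

theorem layer_compRed :
    letI := S.layerAction; CompRed G (Additive (S.F ⧸ S.Z.subgroupOf S.F)) := by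
  classical
  letI := S.layerAction
  haveI := finiteGroup (G := G)
  haveI := S.zNormal
  haveI := S.fNormal
  let N : Subgroup S.F := S.Z.subgroupOf S.F
  let W := S.F ⧸ N
  let θ : G → S.F → S.F := fun g f => ⟨g * f * g⁻¹, S.fNormal.conj_mem f f.2 g⟩
  have hsmul : ∀ (g : G) (f : S.F), g • Additive.ofMul (f : W) = Additive.ofMul ((θ g f : S.F) : W) :=
    fun g f => congrArg Additive.ofMul (S.layAct_mk g f)
  intro U hU
  let M : Subgroup G := ((AddSubgroup.toSubgroup' U).comap (QuotientGroup.mk' N)).map S.F.subtype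
  have hMF : M ≤ S.F := Subgroup.map_subtype_le _
  have hM : ∀ f : S.F, (f : G) ∈ M ↔ Additive.ofMul (f : W) ∈ U := fun f => by
    constructor
    · rintro ⟨f', hf', e⟩
      rw [← show f' = f from Subtype.ext e]
      exact hf'
    · exact fun h => ⟨f, h, rfl⟩
  have hZM : S.Z ≤ M := fun z hz => (hM ⟨z, S.le hz⟩).2 (by
    have : ((⟨z, S.le hz⟩ : S.F) : W) = 1 := (QuotientGroup.eq_one_iff _).2 hz
    rw [this]; exact U.zero_mem)
  haveI : M.Normal := ⟨fun a ha g => by
    have h1 := hU g _ ((hM ⟨a, hMF ha⟩).1 ha)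
    rw [hsmul] at h1
    exact (hM (θ g ⟨a, hMF ha⟩)).2 h1⟩
  obtain ⟨hMZ, hdec⟩ := S.exists_mul_cent M hZM hMF
  let P : Subgroup S.F := (Subgroup.centralizer (M : Set G)).subgroupOf S.F
  refine ⟨Subgroup.toAddSubgroup (P.map (QuotientGroup.mk' N)), ?_, ?_, ?_⟩
  · rintro g w ⟨f, hf, he⟩
    refine ⟨θ g f, ?_, ?_⟩
    · show g * f * g⁻¹ ∈ Subgroup.centralizer (M : Set G)
      exact (inferInstance : (Subgroup.centralizer (M : Set G)).Normal).conj_mem _ hf g
    · show ((θ g f : S.F) : W) = S.layAct g (Additive.toMul w)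
      rw [← he]; exact (S.layAct_mk g f).symm
  · refine (AddSubgroup.eq_bot_iff_forall _).2 ?_
    rintro w ⟨hw1, f, hf, he⟩
    have hwU : Additive.ofMul (f : W) ∈ U := by
      have : (Additive.ofMul (f : W)) = w := Additive.toMul.injective he
      rw [this]; exact hw1
    have hfZ : (f : G) ∈ S.Z := hMZ _ ((hM f).2 hwU) fun u hu =>
      (Subgroup.mem_centralizer_iff.1 hf u hu).symm
    refine Additive.toMul.injective ?_
    rw [← he]
    exact (QuotientGroup.eq_one_iff f).2 hfZ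
  · refine eq_top_iff.2 fun w _ => ?_
    obtain ⟨f, hf⟩ := QuotientGroup.mk_surjective (Additive.toMul w)
    obtain ⟨n, hn, hnc⟩ := hdec f f.2
    have hnF : n ∈ S.F := hMF hn
    have e : f = (⟨n, hnF⟩ : S.F) * ((⟨n, hnF⟩ : S.F)⁻¹ * f) := (mul_inv_cancel_left _ _).symm
    have e2 : w = Additive.ofMul ((⟨n, hnF⟩ : S.F) : W)
        + Additive.ofMul ((((⟨n, hnF⟩ : S.F)⁻¹ * f : S.F)) : W) := by
      refine Additive.toMul.injective ?_
      rw [← hf]
      conv_lhs => rw [e]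
      rfl
    rw [e2]
    refine add_mem (AddSubgroup.mem_sup_left ((hM _).1 hn)) (AddSubgroup.mem_sup_right ?_)
    refine ⟨(⟨n, hnF⟩ : S.F)⁻¹ * f, ?_, rfl⟩
    show n⁻¹ * f ∈ Subgroup.centralizer (M : Set G)
    exact Subgroup.mem_centralizer_iff.2 fun u hu => (hnc u hu).symm

end Setup

end CfsgLib.RegOrbit

namespace CfsgLib.Core.ClassNumber

open MulAction CfsgLib.RegOrbit

variable {G : Type v} {V : Type u} [Group G] [AddCommGroup V] [DistribMulAction G V]

/-- The operators of the group. -/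
abbrev opHom (G : Type v) (V : Type u) [Group G] [AddCommGroup V] [DistribMulAction G V] :
    G →* (AddMonoid.End V)ˣ :=
  (DistribMulAction.toAddMonoidEnd G V).toHomUnits

theorem opHom_smul (g : G) (v : V) : opHom G V g • v = g • v := rfl

theorem range_compRed (hcr : CompRed G V) : CompRed (opHom G V).range V := by
  intro U hU
  obtain ⟨W, hW, h1, h2⟩ := hcr U fun g v hv => hU ⟨opHom G V g, g, rfl⟩ v hv
  refine ⟨W, ?_, h1, h2⟩
  rintro ⟨_, g, rfl⟩ w hw
  exact hW g w hw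

/-- The bound `|G|¹² · 24⁴ ≤ |V|²⁷`. -/
def SmallGroup (n : ℕ) : Prop :=
  ∀ (V : Type u) [AddCommGroup V] [Finite V] [Nontrivial V] (G : Subgroup (AddMonoid.End V)ˣ),
    Group.IsSolvable G → CompRed G V → Nat.card V < n → Nat.card G ^ 12 * 24 ^ 4 ≤ Nat.card V ^ 27

theorem outer_pow_le_of [Finite V] {p : ℕ} {X : Subgroup (AddMonoid.End V)ˣ} (S : Setup p X) (n : ℕ)
    (ih : SmallGroup.{u} n) (he : 2 ≤ S.rad) (hn : S.rad ^ 2 < n) :
    S.outer ^ 12 * 24 ^ 4 ≤ S.rad ^ 54 := by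
  haveI := finiteGroup (G := X)
  haveI := S.prim.solv
  letI := S.layerAction
  haveI : Finite (Additive (S.F ⧸ S.Z.subgroupOf S.F)) := inferInstanceAs (Finite (S.F ⧸ S.Z.subgroupOf S.F))
  have hc : Nat.card (Additive (S.F ⧸ S.Z.subgroupOf S.F)) = S.rad ^ 2 := S.card_layer
  haveI : Nontrivial (Additive (S.F ⧸ S.Z.subgroupOf S.F)) :=
    Finite.one_lt_card_iff_nontrivial.1 (by rw [hc]; nlinarith)
  let φ := opHom X (Additive (S.F ⧸ S.Z.subgroupOf S.F))
  have h := ih _ φ.range (Group.isSolvable_of_surjective (f := φ.rangeRestrict) φ.rangeRestrict_surjective)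
    (range_compRed S.layer_compRed) (hc ▸ hn)
  rw [hc, ← pow_mul] at h
  haveI : Finite φ.range := Finite.of_surjective _ φ.rangeRestrict_surjective
  refine le_trans (Nat.mul_le_mul_right _ (Nat.pow_le_pow_left ?_ 12)) h
  refine S.outer_le (fun g => φ.rangeRestrict (g : X)) fun g h e x => ?_
  have := congrArg (fun y : φ.range => (y : (AddMonoid.End (Additive (S.F ⧸ S.Z.subgroupOf S.F)))ˣ) • Additive.ofMul x) e
  exact congrArg Additive.toMul this

theorem deg_le_half {p d : ℕ} (hp : 2 ≤ p) (hd : 1 ≤ d) : 2 * d ≤ p ^ d := by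
  calc 2 * d ≤ 2 * 2 ^ (d - 1) := Nat.mul_le_mul_left _ (by
        have := (Nat.lt_two_pow_self (n := d - 1)); omega)
    _ = 2 ^ d := by rw [← pow_succ']; congr 1; omega
    _ ≤ p ^ d := Nat.pow_le_pow_left hp d

theorem succ_pow_le {n e C X Y : ℕ} (he : 4 ≤ e) (hC : 5 ^ n ≤ 4 ^ n * C) (h : X * e ^ n ≤ Y) :
    X * (e + 1) ^ n ≤ C * Y := by
  refine Nat.le_of_mul_le_mul_left ?_ (pow_pos (show 0 < 4 by norm_num) n)
  calc 4 ^ n * (X * (e + 1) ^ n) = X * (4 * (e + 1)) ^ n := by rw [mul_pow]; ring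
    _ ≤ X * (5 * e) ^ n := Nat.mul_le_mul_left _ (Nat.pow_le_pow_left (by omega) _)
    _ = 5 ^ n * (X * e ^ n) := by rw [mul_pow]; ring
    _ ≤ (4 ^ n * C) * Y := Nat.mul_le_mul hC h
    _ = 4 ^ n * (C * Y) := by ring

theorem sq_lt_three_pow {e : ℕ} (he : 2 ≤ e) : e ^ 2 < 3 ^ e := by
  induction e, he using Nat.le_induction with
  | base => norm_num
  | succ e he ih => rw [pow_succ 3]; nlinarith

theorem pow_bound_three {e : ℕ} (he : 4 ≤ e) : 2 ^ 12 * e ^ 78 ≤ (3 ^ e) ^ 27 := by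
  rw [← pow_mul]
  induction e, he using Nat.le_induction with
  | base => norm_num
  | succ e he ih =>
    have hC : 5 ^ 78 ≤ 4 ^ 78 * 3 ^ 27 := by norm_num
    refine (succ_pow_le he hC ih).trans (le_of_eq ?_)
    rw [← pow_add]; congr 1; omega

theorem pow_bound_four {q e : ℕ} (hq : 4 ≤ q) (he : 4 ≤ e) :
    q ^ 24 * e ^ 78 ≤ 2 ^ 12 * (q ^ e) ^ 27 := by
  rw [← pow_mul]
  induction e, he using Nat.le_induction with
  | base =>
    rw [show 4 * 27 = 24 + 84 by rfl, pow_add, mul_left_comm]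
    have c : 4 ^ 78 ≤ 2 ^ 12 * 4 ^ 84 := by norm_num
    exact Nat.mul_le_mul_left _ (c.trans (Nat.mul_le_mul_left _ (Nat.pow_le_pow_left hq 84)))
  | succ e he ih =>
    have c : 5 ^ 78 ≤ 4 ^ 78 * 4 ^ 27 := by norm_num
    have hC : 5 ^ 78 ≤ 4 ^ 78 * q ^ 27 :=
      c.trans (Nat.mul_le_mul_left _ (Nat.pow_le_pow_left hq 27))
    refine (succ_pow_le he hC ih).trans (le_of_eq ?_)
    rw [mul_left_comm, ← pow_add]; congr 2; omega

theorem prim_bound_arith {p d D e b z : ℕ} (hp : 2 ≤ p) (hd : 1 ≤ d) (hz : z + 1 ≤ p ^ d)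
    (heD : e ≤ D) (he : 1 ≤ e) (hb1 : e = 1 → b = 1) (hb2 : e = 2 → b ≤ 6)
    (hb : 2 ≤ e → b ^ 12 * 24 ^ 4 ≤ e ^ 54) (hodd : 2 ≤ e → 3 ≤ p ^ d) (hq4 : e = 2 → p ^ d ≠ 4)
    (hq33 : e = 3 → p ^ d ≠ 3) :
    (d * (b * (e ^ 2 * z))) ^ 12 * 24 ^ 4 ≤ ((p ^ d) ^ D) ^ 27 := by
  have hdq := deg_le_half hp hd
  have hq2 : 2 ≤ p ^ d := le_trans hp (Nat.le_self_pow (by omega) p)
  generalize p ^ d = q at hz hodd hq4 hq33 hdq hq2 ⊢
  refine le_trans ?_ (Nat.pow_le_pow_left (Nat.pow_le_pow_right (show 0 < q by omega) heD) 27)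
  have hsmall : ∀ Q, q ≤ Q → d * z ≤ Q / 2 * (Q - 1) := fun Q hQ =>
    Nat.mul_le_mul (by omega) (by omega)
  have h2 : 2 * (d * z) ≤ q * q := by
    calc 2 * (d * z) = (2 * d) * z := by ring
      _ ≤ q * q := Nat.mul_le_mul hdq (by omega)
  have hup : (2 : ℕ) ^ 12 * (d * z) ^ 12 ≤ q ^ 24 := by
    rw [← mul_pow]
    exact (Nat.pow_le_pow_left h2 12).trans (le_of_eq (by rw [← pow_two, ← pow_mul]))
  have hpos : (0 : ℕ) < 2 ^ 12 := by norm_num
  rcases Nat.lt_or_ge e 2 with he1 | he2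
  · obtain rfl : e = 1 := by omega
    rw [hb1 rfl, one_pow, one_mul, one_mul, pow_one]
    rcases Nat.lt_or_ge q 5 with h5 | h5
    · have := hsmall q le_rfl
      refine le_trans (Nat.mul_le_mul_right _ (Nat.pow_le_pow_left this 12)) ?_
      interval_cases q <;> norm_num
    · refine Nat.le_of_mul_le_mul_left ?_ hpos
      have c : 24 ^ 4 ≤ 2 ^ 12 * 5 ^ 3 := by norm_num
      have c' := c.trans (Nat.mul_le_mul_left _ (Nat.pow_le_pow_left h5 3))
      rw [← mul_assoc, show 27 = 24 + 3 by rfl, pow_add, mul_left_comm (2 ^ 12)]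
      exact Nat.mul_le_mul hup c'
  have hb' := hb he2
  have hq3 := hodd he2
  have key : (d * (b * (e ^ 2 * z))) ^ 12 * 24 ^ 4 ≤ (d * z) ^ 12 * e ^ 78 := by
    calc (d * (b * (e ^ 2 * z))) ^ 12 * 24 ^ 4 = (d * z) ^ 12 * e ^ 24 * (b ^ 12 * 24 ^ 4) := by
          simp only [mul_pow, ← pow_mul]; ring
      _ ≤ (d * z) ^ 12 * e ^ 24 * e ^ 54 := Nat.mul_le_mul_left _ hb'
      _ = _ := by rw [mul_assoc, ← pow_add]
  rcases Nat.lt_or_ge q 4 with h4 | h4
  · obtain rfl : q = 3 := by omega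
    have hdz : d * z ≤ 2 := hsmall 3 le_rfl
    rcases (show e = 2 ∨ e = 3 ∨ 4 ≤ e by omega) with rfl | rfl | he4
    · have : d * (b * (2 ^ 2 * z)) ≤ 48 := by
        calc d * (b * (2 ^ 2 * z)) = d * z * (4 * b) := by ring
          _ ≤ 2 * 24 := Nat.mul_le_mul hdz (by have := hb2 rfl; omega)
      have c : (48 : ℕ) ^ 12 * 24 ^ 4 ≤ (3 ^ 2) ^ 27 := by norm_num
      exact le_trans (Nat.mul_le_mul_right _ (Nat.pow_le_pow_left this 12)) c
    · exact absurd rfl (hq33 rfl)
    · exact key.trans (le_trans (Nat.mul_le_mul_right _ (Nat.pow_le_pow_left hdz 12)) (pow_bound_three he4))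
  · refine key.trans (Nat.le_of_mul_le_mul_left ?_ hpos)
    rw [← mul_assoc]
    refine (Nat.mul_le_mul_right _ hup).trans ?_
    rcases (show e = 2 ∨ e = 3 ∨ 4 ≤ e by omega) with rfl | rfl | he4
    · have h5 : 5 ≤ q := by have := hq4 rfl; omega
      have c : 2 ^ 78 ≤ 2 ^ 12 * 5 ^ 30 := by norm_num
      rw [← pow_mul, show 2 * 27 = 24 + 30 by rfl, pow_add, mul_left_comm (2 ^ 12)]
      exact Nat.mul_le_mul_left _ (c.trans (Nat.mul_le_mul_left _ (Nat.pow_le_pow_left h5 30)))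
    · have c : 3 ^ 78 ≤ 2 ^ 12 * 4 ^ 57 := by norm_num
      rw [← pow_mul, show 3 * 27 = 24 + 57 by rfl, pow_add, mul_left_comm (2 ^ 12)]
      exact Nat.mul_le_mul_left _ (c.trans (Nat.mul_le_mul_left _ (Nat.pow_le_pow_left h4 57)))
    · exact pow_bound_four h4 he4

theorem card_eq_deg_mul [Finite V] {p : ℕ} {X : Subgroup (AddMonoid.End V)ˣ} (S : Setup p X) :
    Nat.card X ≤ S.deg * (S.outer * (S.rad ^ 2 * Nat.card S.Z)) := by
  haveI := finiteGroup (G := X)
  rw [← S.cz.index_mul_card, S.card_cz]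
  exact Nat.mul_le_mul_right _ S.index_cz_le

theorem prim_bound [Finite V] {p : ℕ} {X : Subgroup (AddMonoid.End V)ˣ} (hX : IsPrim p X) (n : ℕ)
    (ih : SmallGroup.{u} n) (hn : Nat.card V ≤ n) : Nat.card X ^ 12 * 24 ^ 4 ≤ Nat.card V ^ 27 := by
  obtain ⟨S⟩ := exists_setup hX
  haveI := finiteGroup (G := X)
  have hq2 : 2 ≤ p ^ S.deg := le_trans hX.prime.two_le (Nat.le_self_pow S.deg_pos.ne' p)
  have hz1 : Nat.card S.Z ∣ p ^ S.deg - 1 := S.card_K ▸ S.z_dvd
  have hz : Nat.card S.Z + 1 ≤ p ^ S.deg := by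
    have := Nat.le_of_dvd (by omega) hz1; omega
  have hdiv : ∀ s : ℕ, s.Prime → s ∣ S.rad → s ∣ p ^ S.deg - 1 := fun s hs h =>
    (S.prime_dvd_z hs h).trans hz1
  have hodd : 2 ≤ S.rad → 3 ≤ p ^ S.deg := fun he => by
    obtain ⟨s, hs, hse⟩ := Nat.exists_prime_and_dvd (show S.rad ≠ 1 by omega)
    have := Nat.le_of_dvd (by omega) (hdiv s hs hse)
    have := hs.two_le
    omega
  refine le_trans (Nat.mul_le_mul_right _ (Nat.pow_le_pow_left (card_eq_deg_mul S) 12)) ?_
  rw [S.card_V] at hn ⊢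
  refine prim_bound_arith hX.prime.two_le S.deg_pos hz S.rad_le_dim S.rad_pos S.outer_eq_one
    (fun h => (S.outer_le_of_prime (h ▸ Nat.prime_two)).trans (by rw [h]; norm_num)) (fun he => ?_) hodd
    (fun h h4 => ?_) (fun h h3 => ?_)
  · refine outer_pow_le_of S n ih he (lt_of_lt_of_le ?_ hn)
    calc S.rad ^ 2 < 3 ^ S.rad := sq_lt_three_pow he
      _ ≤ (p ^ S.deg) ^ S.rad := Nat.pow_le_pow_left (hodd he) _
      _ ≤ _ := Nat.pow_le_pow_right (by omega) S.rad_le_dim
  · have := hdiv 2 Nat.prime_two (h ▸ dvd_rfl)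
    rw [h4] at this
    norm_num at this
  · have := hdiv 3 Nat.prime_three (h ▸ dvd_rfl)
    rw [h3] at this
    norm_num at this

theorem smallGroup (n : ℕ) : SmallGroup.{u} n := by
  induction n using Nat.strong_induction_on with
  | _ n ih =>
    intro V _ _ _ G hsolv hcr hlt
    classical
    haveI := hsolv
    haveI := finiteGroup (G := G)
    have IH : SmallGroup.{u} (Nat.card V) := ih _ hlt
    by_cases hirr : Irred G V
    · obtain ⟨v, hv⟩ := exists_ne (0 : V)
      · obtain ⟨p, hp, hexp⟩ := exists_exponent hirr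
        obtain ⟨m, D, a, hcard, hX⟩ := exists_primitive_component hirr hp hexp
        haveI : FaithfulSMul G V := ⟨fun {g h} e => Subtype.ext (Units.ext (DFunLike.ext _ _ e))⟩
        obtain ⟨s, A, ⟨hs, -⟩, hG, -, hA⟩ := card_le_mul_k hirr D a ⊤ ⊥ fun c hc z _ => by
          rw [Subgroup.mem_bot.1 hc, one_mul, mul_one]
        have hm : 1 ≤ m := a.pos
        haveI : Nontrivial (D.W a) := (AddSubgroup.nontrivial_iff_ne_bot _).2 (D.ne_bot a)
        have h1 := prim_bound hX (Nat.card V) IH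
          (hcard ▸ Nat.le_self_pow (by omega) _)
        rw [Subgroup.index_top, one_pow, mul_one] at hG
        rw [Subgroup.card_top] at hA
        have hG' : Nat.card G ≤ s * Nat.card (compGroup D a) ^ m := hG.trans (Nat.mul_le_mul_left _ hA)
        calc Nat.card G ^ 12 * 24 ^ 4 ≤ (s * Nat.card (compGroup D a) ^ m) ^ 12 * 24 ^ 4 :=
              Nat.mul_le_mul_right _ (Nat.pow_le_pow_left hG' 12)
          _ = (s ^ 3 * 24) ^ 4 * (Nat.card (compGroup D a) ^ 12) ^ m := by
              rw [← pow_mul, mul_comm 12 m, pow_mul]; ring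
          _ ≤ (24 ^ m) ^ 4 * (Nat.card (compGroup D a) ^ 12) ^ m :=
              Nat.mul_le_mul_right _ (Nat.pow_le_pow_left hs 4)
          _ = (Nat.card (compGroup D a) ^ 12 * 24 ^ 4) ^ m := by
              rw [mul_pow, ← pow_mul, ← pow_mul 24 4, mul_comm 4 m, mul_comm]
          _ ≤ (Nat.card (D.W a) ^ 27) ^ m := Nat.pow_le_pow_left h1 m
          _ = Nat.card V ^ 27 := by rw [hcard, ← pow_mul, ← pow_mul, mul_comm]
    · unfold Irred at hirr
      push Not at hirr
      obtain ⟨U, hU, hU0, hU1⟩ := hirr ‹_›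
      obtain ⟨W, hW, hi, hs⟩ := hcr U fun g v hv => hU g v hv
      have hW0 : W ≠ ⊥ := fun h => hU1 (by rwa [h, sup_bot_eq] at hs)
      have hcard : Nat.card U * Nat.card W = Nat.card V := by
        rw [← Nat.card_prod]
        refine Nat.card_congr (Equiv.ofBijective (fun x : U × W => (x.1 : V) + x.2) ⟨?_, ?_⟩)
        · rintro ⟨a, b⟩ ⟨a', b'⟩ e
          have e' : (a : V) - a' = (b' : V) - b := by
            simp only at e
            rw [sub_eq_sub_iff_add_eq_add, e, add_comm]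
          have hw : (a : V) - a' ∈ W := by rw [e']; exact sub_mem b'.2 b.2
          have : (a : V) - a' ∈ U ⊓ W := AddSubgroup.mem_inf.2 ⟨sub_mem a.2 a'.2, hw⟩
          rw [hi, AddSubgroup.mem_bot] at this
          rw [Prod.mk.injEq]
          exact ⟨Subtype.ext (sub_eq_zero.1 this),
            Subtype.ext (sub_eq_zero.1 (e'.symm.trans this)).symm⟩
        · intro v
          obtain ⟨a, ha, b, hb, e⟩ := AddSubgroup.mem_sup.1 (hs ▸ AddSubgroup.mem_top v : v ∈ U ⊔ W)
          exact ⟨(⟨a, ha⟩, ⟨b, hb⟩), e⟩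
      letI aU := subAction (G := G) U hU
      letI aW := subAction (G := G) W hW
      haveI : Nontrivial U := (AddSubgroup.nontrivial_iff_ne_bot _).2 hU0
      haveI : Nontrivial W := (AddSubgroup.nontrivial_iff_ne_bot _).2 hW0
      have h2U : 2 ≤ Nat.card U := Finite.one_lt_card
      have h2W : 2 ≤ Nat.card W := Finite.one_lt_card
      let φ := opHom G U
      let ψ := opHom G W
      haveI : Finite φ.range := Finite.of_surjective _ φ.rangeRestrict_surjective
      haveI : Finite ψ.range := Finite.of_surjective _ ψ.rangeRestrict_surjective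
      have hbU := IH U φ.range (Group.isSolvable_of_surjective (f := φ.rangeRestrict) φ.rangeRestrict_surjective)
        (range_compRed (compRed_sub hcr U hU)) (by rw [← hcard]; nlinarith)
      have hbW := IH W ψ.range (Group.isSolvable_of_surjective (f := ψ.rangeRestrict) ψ.rangeRestrict_surjective)
        (range_compRed (compRed_sub hcr W hW)) (by rw [← hcard]; nlinarith)
      have hle : Nat.card G ≤ Nat.card φ.range * Nat.card ψ.range := by
        rw [← Nat.card_prod]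
        refine Nat.card_le_card_of_injective (fun g => (φ.rangeRestrict g, ψ.rangeRestrict g)) fun g h e => ?_
        refine Subtype.ext (Units.ext (DFunLike.ext _ _ fun v => ?_))
        obtain ⟨a, ha, b, hb, rfl⟩ := AddSubgroup.mem_sup.1 (hs ▸ AddSubgroup.mem_top v : v ∈ U ⊔ W)
        have e1 : g • a = h • a := congrArg (fun x : φ.range × ψ.range => (((x.1 : (AddMonoid.End U)ˣ) • (⟨a, ha⟩ : U) : U) : V)) e
        have e2 : g • b = h • b := congrArg (fun x : φ.range × ψ.range => (((x.2 : (AddMonoid.End W)ˣ) • (⟨b, hb⟩ : W) : W) : V)) e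
        show g • (a + b) = h • (a + b)
        rw [smul_add, smul_add, e1, e2]
      calc Nat.card G ^ 12 * 24 ^ 4 ≤ (Nat.card φ.range * Nat.card ψ.range) ^ 12 * 24 ^ 4 :=
            Nat.mul_le_mul_right _ (Nat.pow_le_pow_left hle 12)
        _ ≤ (Nat.card φ.range ^ 12 * 24 ^ 4) * (Nat.card ψ.range ^ 12 * 24 ^ 4) := by
            rw [mul_pow]; nlinarith [Nat.zero_le (Nat.card φ.range ^ 12 * Nat.card ψ.range ^ 12)]
        _ ≤ Nat.card U ^ 27 * Nat.card W ^ 27 := Nat.mul_le_mul hbU hbW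
        _ = Nat.card V ^ 27 := by rw [← mul_pow, hcard]

/-- A soluble completely reducible linear group is at most a fixed power of the space. -/
theorem solvable_linear_bound [Finite V] [Nontrivial V] [Group.IsSolvable G] (hcr : CompRed G V) :
    Nat.card (opHom G V).range ^ 12 * 24 ^ 4 ≤ Nat.card V ^ 27 :=
  smallGroup (Nat.card V + 1) V _
    (Group.isSolvable_of_surjective (f := (opHom G V).rangeRestrict) (opHom G V).rangeRestrict_surjective)
    (range_compRed hcr) (Nat.lt_succ_self _)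

theorem outer_pow_le [Finite V] {p : ℕ} {X : Subgroup (AddMonoid.End V)ˣ} (S : Setup p X)
    (he : 2 ≤ S.rad) : S.outer ^ 12 * 24 ^ 4 ≤ S.rad ^ 54 :=
  outer_pow_le_of S (S.rad ^ 2 + 1) (smallGroup _) he (Nat.lt_succ_self _)

end CfsgLib.Core.ClassNumber
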