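import Cfsg.Agent.Lib.Core.ClassNumber.SmallQuotient
import Cfsg.Agent.Lib.Core.ClassNumber.LinearBound

/-!
Classes of a primitive soluble linear group over the prime field.
-/

set_option autoImplicit false
set_option linter.all false

namespace CfsgLib.RegOrbit

namespace Setup

open MulAction Core.ClassNumber

universe u

variable {V : Type u} [AddCommGroup V] [Finite V]
variable {p : ℕ} {G : Subgroup (AddMonoid.End V)ˣ} (S : Setup p G)

theorem z_central (h1 : S.deg = 1) : ∀ ζ ∈ S.Z, ∀ x : G, ζ * x = x * ζ := fun ζ hζ x =>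
  (S.central_of_prime (by rw [card_K, h1, pow_one]) x ζ hζ).symm

theorem card_eq (h1 : S.deg = 1) : Nat.card G = S.outer * (S.rad ^ 2 * Nat.card S.Z) := by
  rw [← S.card_cz, S.cz_eq_top h1, Subgroup.card_top]

/-- The layer as a subgroup of the quotient by `Z`. -/
abbrev lay [S.Z.Normal] : Subgroup (G ⧸ S.Z) := S.F.map (QuotientGroup.mk' S.Z)

theorem card_lay [S.Z.Normal] : Nat.card S.lay = S.rad ^ 2 := by
  haveI := finiteGroup (G := G)
  haveI : Finite (G ⧸ S.Z) := inferInstance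
  rw [← S.card_layer]
  let f : S.F →* S.lay := (QuotientGroup.mk' S.Z).subgroupMap S.F
  have hs : Function.Surjective f := MonoidHom.subgroupMap_surjective _ _
  have hk : f.ker = S.Z.subgroupOf S.F := by
    ext x
    rw [MonoidHom.mem_ker, Subgroup.mem_subgroupOf, ← QuotientGroup.eq_one_iff]
    exact ⟨fun h => congrArg Subtype.val h, fun h => Subtype.ext h⟩
  rw [← hk]
  exact (Nat.card_congr (QuotientGroup.quotientKerEquivOfSurjective f hs).toEquiv).symm

theorem lay_comm [S.Z.Normal] : ∀ a ∈ S.lay, ∀ b ∈ S.lay, a * b = b * a := by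
  rintro _ ⟨a, ha, rfl⟩ _ ⟨b, hb, rfl⟩
  rw [← map_mul, ← map_mul]
  refine (QuotientGroup.eq.2 ?_).symm
  have := S.fComm _ (inv_mem ha) _ (inv_mem hb)
  simpa [mul_assoc] using this

theorem card_quot (h1 : S.deg = 1) [S.Z.Normal] : Nat.card (G ⧸ S.Z) = S.outer * S.rad ^ 2 := by
  haveI := finiteGroup (G := G)
  have h := Subgroup.card_eq_card_quotient_mul_card_subgroup S.Z
  rw [S.card_eq h1, ← mul_assoc] at h
  exact (Nat.eq_of_mul_eq_mul_right Nat.card_pos h).symm

theorem index_lay (h1 : S.deg = 1) [S.Z.Normal] : S.lay.index = S.outer := by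
  haveI := finiteGroup (G := G)
  haveI : Finite (G ⧸ S.Z) := inferInstance
  have h := S.lay.index_mul_card
  rw [S.card_lay, S.card_quot h1] at h
  exact Nat.eq_of_mul_eq_mul_right (pow_pos S.rad_pos 2) h

theorem stab_ncard_le (h1 : S.deg = 1) (x : G) :
    (stab S.Z x).ncard ≤ Nat.gcd (Nat.card S.Z) S.dim := by
  haveI := finiteGroup (G := G)
  rw [← S.card_pow_eq_one, ← Nat.card_coe_set_eq]
  refine Nat.card_le_card_of_injective (fun ζ => ⟨⟨ζ.1, ζ.2.1⟩, Subtype.ext ?_⟩) fun a b h => Subtype.ext ?_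
  · obtain ⟨y, hy⟩ := isConj_iff.1 ζ.2.2
    show (ζ.1 : G) ^ S.dim = 1
    exact S.stab_le ζ.2.1 (g := x) (by rw [S.cz_eq_top h1]; trivial) (by rw [S.cz_eq_top h1]; trivial) hy
  · exact congrArg (fun u : {ζ : S.Z // ζ ^ S.dim = 1} => ((u.1 : S.Z) : G)) h

/-- Classes of the group from classes modulo `Z`. -/
theorem k_bound (h1 : S.deg = 1) [S.Z.Normal] {kb : ℕ} (hkb : kb + 1 ≤ k (G ⧸ S.Z)) :
    Nat.card S.Z + (kb * Nat.card S.Z + Nat.gcd (Nat.card S.Z) S.dim - 1) / Nat.gcd (Nat.card S.Z) S.dim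
      ≤ k G := by
  haveI := finiteGroup (G := G)
  have h := card_add_le_mul_k S.Z (S.z_central h1) _ (S.stab_ncard_le h1)
  have hg : 0 < Nat.gcd (Nat.card S.Z) S.dim := Nat.gcd_pos_of_pos_left _ Nat.card_pos
  obtain ⟨g, hgdef⟩ : ∃ g, g = Nat.gcd (Nat.card S.Z) S.dim := ⟨_, rfl⟩
  rw [← hgdef] at h hg ⊢
  have h2 : Nat.card S.Z * (g + kb) ≤ g * k G :=
    le_trans (Nat.mul_le_mul_left _ (by omega)) h
  have h3 : g * Nat.card S.Z ≤ g * k G := le_trans (by rw [mul_comm]; exact Nat.mul_le_mul_left _ (by omega)) h2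
  have h4 := Nat.le_of_mul_le_mul_left h3 hg
  obtain ⟨r, hr⟩ : ∃ r, k G = Nat.card S.Z + r := ⟨_, (Nat.add_sub_cancel' h4).symm⟩
  rw [hr, mul_add, mul_add, mul_comm g (Nat.card S.Z), mul_comm (Nat.card S.Z) kb] at h2
  rw [hr]
  refine Nat.add_le_add_left (Nat.lt_succ_iff.1 ((Nat.div_lt_iff_lt_mul hg).2 ?_)) _
  rw [Nat.succ_mul, mul_comm r g]; omega

theorem five_le_k_quot (h1 : S.deg = 1) [S.Z.Normal] (he : 3 ≤ S.rad) : 5 ≤ k (G ⧸ S.Z) := by
  haveI := finiteGroup (G := G)
  haveI := S.fNormal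
  haveI : S.lay.Normal := S.fNormal.map _ (QuotientGroup.mk'_surjective _)
  exact five_le_k S.lay S.lay_comm (by rw [S.card_lay]; nlinarith)

theorem six_le_k_quot (h1 : S.deg = 1) [S.Z.Normal] (he : S.rad = 4) : 6 ≤ k (G ⧸ S.Z) := by
  haveI := finiteGroup (G := G)
  haveI := S.fNormal
  haveI : S.lay.Normal := S.fNormal.map _ (QuotientGroup.mk'_surjective _)
  refine six_le_k S.lay S.lay_comm (by rw [S.card_lay, he]; norm_num) ?_
  rw [S.index_lay h1]
  have h := outer_pow_le S (by omega)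
  rw [he] at h
  by_contra hc
  exact absurd ((Nat.mul_le_mul_right _ (Nat.pow_le_pow_left (show 178 ≤ S.outer by omega) 12)).trans h)
    (by norm_num)

/-- In dimension two an element with non-scalar square has trivial fusion. -/
theorem stab_trivial (h1 : S.deg = 1) (h2 : S.dim = 2) (hp : p ≠ 2) {g : G} (hg : g * g ∉ S.Z) :
    (stab S.Z g).ncard ≤ 1 := by
  classical
  haveI := finiteGroup (G := G)
  refine (Set.ncard_le_one (Set.toFinite _)).2 ?_
  suffices h : ∀ ζ ∈ stab S.Z g, ζ = 1 by intro a ha b hb; rw [h a ha, h b hb]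
  rintro ζ ⟨hζ, hconj⟩
  obtain ⟨y, hy⟩ := isConj_iff.1 hconj
  by_contra hne
  letI := S.modK
  haveI : Module.Finite S.K V := Module.Finite.of_finite
  have hsq : ζ ^ 2 = 1 := h2 ▸ S.stab_le hζ (g := g) (by rw [S.cz_eq_top h1]; trivial)
    (by rw [S.cz_eq_top h1]; trivial) hy
  have hs1 : S.scal ζ hζ = -1 := by
    have h3 : S.scal ζ hζ ^ 2 = 1 := by
      rw [S.scal_pow]
      exact Subtype.ext ((congrArg (op G) hsq).trans op_one)
    exact (sq_eq_one_iff.1 h3).resolve_left fun e => hne (op_injective ((congrArg Subtype.val e).trans op_one.symm))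
  have h20 : (2 : S.K) ≠ 0 := Ring.two_ne_zero (by
    rw [ringChar.eq S.K p]; exact hp)
  have hc : ∀ a : G, ∀ κ : S.K, op G a * (κ : AddMonoid.End V) = (κ : AddMonoid.End V) * op G a := fun a κ =>
    commute_span (S.mem_cz.1 (by rw [S.cz_eq_top h1]; trivial)) _ κ.2
  let L : G →* (V →ₗ[S.K] V) :=
    { toFun := fun a =>
        { toFun := fun v => a • v
          map_add' := smul_add _
          map_smul' := fun κ v => DFunLike.congr_fun (hc a κ) v }
      map_one' := LinearMap.ext fun v => one_smul _ v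
      map_mul' := fun a b => LinearMap.ext fun v => mul_smul a b v }
  let bas := (Module.finBasis S.K V).reindex (finCongr h2)
  let M := LinearMap.toMatrixAlgEquiv bas
  have hLζ : L ζ = (S.scal ζ hζ) • (1 : V →ₗ[S.K] V) := LinearMap.ext fun v => rfl
  have htr : (M (L g)).trace = -(M (L g)).trace := by
    have e : L (y * g * y⁻¹) = -(L g) := by
      rw [hy, map_mul, hLζ, hs1, smul_mul_assoc, one_mul, neg_smul, one_smul]
    have e2 : (M (L g)).trace = (M (L (y * g * y⁻¹))).trace := by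
      rw [map_mul L, map_mul L, map_mul M, map_mul M, Matrix.trace_mul_comm, ← mul_assoc, ← map_mul M,
        ← map_mul L, inv_mul_cancel, map_one, map_one, one_mul]
    rw [e, map_neg, Matrix.trace_neg] at e2
    exact e2
  have h0 : M (L g) 0 0 + M (L g) 1 1 = 0 := by
    rw [Matrix.trace_fin_two] at htr
    have : (2 : S.K) * (M (L g) 0 0 + M (L g) 1 1) = 0 := by linear_combination htr
    exact (mul_eq_zero.1 this).resolve_left h20
  have hsc : M (L (g * g)) = M ((-(M (L g)).det) • (1 : V →ₗ[S.K] V)) := by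
    rw [map_mul L, map_mul M, map_smul, map_one]
    have h11 : M (L g) 1 1 = - M (L g) 0 0 := by linear_combination h0
    ext i j
    fin_cases i <;> fin_cases j <;>
      simp only [Matrix.mul_apply, Fin.sum_univ_two, Matrix.det_fin_two, Matrix.smul_apply, smul_eq_mul,
        Matrix.one_apply, Fin.zero_eta, Fin.mk_one, Fin.isValue, h11, zero_ne_one, one_ne_zero, if_true,
        if_false] <;> ring
  have hop : ∀ v : V, (g * g) • v = ((-(M (L g)).det : S.K) : AddMonoid.End V) v := fun v =>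
    LinearMap.congr_fun (M.injective hsc) v
  refine hg (S.cent _ fun f hf => op_injective (DFunLike.ext _ _ fun v => ?_))
  show (g * g * f) • v = (f * (g * g)) • v
  rw [mul_smul (g * g) f v, mul_smul f (g * g) v, hop, hop, S.smul_apply hf]

theorem lay_sq [S.Z.Normal] (he : S.rad = 2) : ∀ w ∈ S.lay, w * w = 1 := by
  haveI := finiteGroup (G := G)
  have key : ∀ x : S.F ⧸ S.Z.subgroupOf S.F, x * x = 1 := by
    intro x
    have hd : orderOf x ∣ 4 := by
      have := orderOf_dvd_natCard x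
      rwa [S.card_layer, he] at this
    by_contra hx
    have h4 : orderOf x = 4 := by
      have h1 : orderOf x ≠ 1 := fun e => hx (by rw [orderOf_eq_one_iff.1 e, one_mul])
      have h2 : orderOf x ≠ 2 := fun e => hx (by rw [← pow_two, ← e, pow_orderOf_eq_one])
      have := Nat.le_of_dvd (by norm_num) hd
      interval_cases h : orderOf x <;> norm_num at *
    have htop : Subgroup.zpowers x = ⊤ := by
      rw [← Subgroup.card_eq_iff_eq_top, Nat.card_zpowers, h4, S.card_layer, he]; norm_num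
    have hp1 : S.pair x = S.pair 1 := by
      rw [map_one]
      refine MonoidHom.ext fun w => ?_
      obtain ⟨i, rfl⟩ := Subgroup.mem_zpowers_iff.1 (htop ▸ Subgroup.mem_top w : w ∈ Subgroup.zpowers x)
      rw [map_zpow, S.pair_self, one_zpow, MonoidHom.one_apply]
    exact hx (by rw [S.pair_injective hp1, one_mul])
  rintro _ ⟨f, hf, rfl⟩
  rw [← map_mul]
  refine (QuotientGroup.eq_one_iff _).2 ?_
  have := (QuotientGroup.eq_one_iff (N := S.Z.subgroupOf S.F) (⟨f, hf⟩ * ⟨f, hf⟩ : S.F)).1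
    (by rw [QuotientGroup.mk_mul]; exact key _)
  exact this

theorem lay_cent (h1 : S.deg = 1) [S.Z.Normal] :
    ∀ y : G ⧸ S.Z, (∀ w ∈ S.lay, y * w = w * y) → y ∈ S.lay := by
  intro y hy
  obtain ⟨g, rfl⟩ := QuotientGroup.mk_surjective y
  refine ⟨g, S.mem_F_of_layAct (by rw [S.cz_eq_top h1]; trivial) fun x => ?_, rfl⟩
  obtain ⟨f, rfl⟩ := QuotientGroup.mk_surjective x
  rw [layAct_mk, QuotientGroup.eq, Subgroup.mem_subgroupOf]
  have h := hy _ ⟨(f : G), f.2, rfl⟩
  have h' : ((g * f * g⁻¹ : G) : G ⧸ S.Z) = ((f : G) : G ⧸ S.Z) := by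
    rw [QuotientGroup.mk_mul, QuotientGroup.mk_mul, QuotientGroup.mk_inv]
    exact mul_inv_eq_iff_eq_mul.2 h
  exact QuotientGroup.eq.1 h'

/-- Classes in dimension two. -/
theorem k_bound_two (h1 : S.deg = 1) (h2 : S.dim = 2) (he : S.rad = 2) (hp : p ≠ 2) [S.Z.Normal] :
    (S.rad ^ 2 * S.outer ≤ 12 ∧ 5 * Nat.card S.Z ≤ 2 * k G) ∨
      (S.rad ^ 2 * S.outer = 24 ∧ 8 * Nat.card S.Z ≤ 2 * k G) := by
  classical
  haveI := finiteGroup (G := G)
  haveI := S.fNormal
  haveI : S.lay.Normal := S.fNormal.map _ (QuotientGroup.mk'_surjective _)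
  have hW4 : Nat.card S.lay = 4 := by rw [S.card_lay, he]; norm_num
  have hb := index_dvd_six S.lay hW4 S.lay_comm (S.lay_cent h1)
  rw [S.index_lay h1] at hb
  have hg : ∀ x : G, (stab S.Z x).ncard ≤ 2 := fun x =>
    (S.stab_ncard_le h1 x).trans (by rw [h2]; exact Nat.le_of_dvd two_pos (Nat.gcd_dvd_right _ _))
  have hle := Nat.le_of_dvd (by norm_num) hb
  rcases Nat.lt_or_ge S.outer 4 with h | h
  · refine Or.inl ⟨by rw [he]; omega, ?_⟩
    have := card_add_le_mul_k S.Z (S.z_central h1) 2 hg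
    have h4 := four_le_k S.lay hW4 S.lay_comm
    rw [mul_comm 5]
    exact le_trans (Nat.mul_le_mul_left _ (by omega)) this
  · have h6 : S.outer = 6 := by
      interval_cases h : S.outer <;> norm_num at *
    refine Or.inr ⟨by rw [he, h6]; norm_num, ?_⟩
    haveI : Fintype (ConjClasses (G ⧸ S.Z)) := Fintype.ofFinite _
    obtain ⟨w, hsum, hw⟩ := exists_weights S.lay hW4 (S.lay_sq he)
      (by rw [S.card_quot h1, h6, he]; norm_num) (S.lay_cent h1)
    rw [mul_comm 8]
    refine le_trans (Nat.mul_le_mul_left _ hsum) (mul_sum_le_k S.Z (S.z_central h1) 2 w fun c => ?_)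
    obtain ⟨hw2, hwx⟩ := hw c
    rcases Nat.lt_or_ge (w c) 2 with hc | hc
    · obtain ⟨y, rfl⟩ := Quotient.exists_rep c
      obtain ⟨x, rfl⟩ := QuotientGroup.mk_surjective y
      exact ⟨x, rfl, le_trans (Nat.mul_le_mul (show w _ ≤ 1 by omega) (hg x)) (by norm_num)⟩
    · obtain ⟨y, rfl, hy⟩ := hwx hc
      rcases hy with rfl | hy
      · exact ⟨1, rfl, by rw [stab_one, mul_one]; exact hw2⟩
      · obtain ⟨x, rfl⟩ := QuotientGroup.mk_surjective y
        refine ⟨x, rfl, le_trans (Nat.mul_le_mul hw2 (S.stab_trivial h1 h2 hp ?_)) (by norm_num)⟩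
        intro hxx
        exact hy (by rw [← QuotientGroup.mk_mul]; exact (QuotientGroup.eq_one_iff _).2 hxx)

end Setup

end CfsgLib.RegOrbit
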