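import Mathlib
import Cfsg.Agent.Lib.Perm.ExtremelyPrimitiveSolvable

/-!
The order of a soluble permutation group of degree `n` is at most `24 ^ ((n - 1) / 3)`.
-/

set_option autoImplicit false
set_option linter.all false

namespace CfsgLib.Core.ClassNumber

open MulAction

universe u v

/-- The order of the affine group against the bound. -/
theorem affine_le {r j : ℕ} (hr : r.Prime) (hj : 1 ≤ j) :
    (r ^ j * ∏ i : Fin j, (r ^ j - r ^ (i : ℕ))) ^ 3 * 24 ≤ 24 ^ (r ^ j) := by
  set m := r ^ j with hm
  have hm2 : 2 ≤ m := by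
    calc 2 ≤ r := hr.two_le
      _ = r ^ 1 := (pow_one r).symm
      _ ≤ r ^ j := Nat.pow_le_pow_right hr.pos hj
  rcases le_or_gt 32 m with h32 | h32
  · have hg : ∏ i : Fin j, (m - r ^ (i : ℕ)) ≤ m ^ j :=
      (Finset.prod_le_prod' (g := fun _ : Fin j => m) fun i _ => Nat.sub_le m (r ^ (i : ℕ))).trans
        (le_of_eq (by simp))
    set L := Nat.log 2 m with hL
    have hL5 : 5 ≤ L := Nat.le_log_of_pow_le one_lt_two (by simpa using h32)
    have hjL : j ≤ L := Nat.le_log_of_pow_le one_lt_two (hm ▸ Nat.pow_le_pow_left hr.two_le j)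
    have hmL : 2 ^ L ≤ m := Nat.pow_log_le_self 2 (by omega)
    have hkey : ∀ t : ℕ, 5 ≤ t → 3 * (t + 1) ^ 2 + 4 ≤ 4 * 2 ^ t := by
      intro t ht
      induction t, ht using Nat.le_induction with
      | base => norm_num
      | succ t ht ih =>
        rw [pow_succ 2 t]
        nlinarith
    have h1 : m ≤ 2 ^ (L + 1) := (Nat.lt_pow_succ_log_self one_lt_two m).le
    obtain ⟨m', hm'⟩ : ∃ m', m = m' + 1 := ⟨m - 1, by omega⟩
    calc (m * ∏ i : Fin j, (m - r ^ (i : ℕ))) ^ 3 * 24 ≤ (m * m ^ j) ^ 3 * 24 := by gcongr
      _ = m ^ (3 * (j + 1)) * 24 := by ring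
      _ ≤ m ^ (3 * (L + 1)) * 24 :=
          Nat.mul_le_mul_right _ (Nat.pow_le_pow_right (by omega) (by omega))
      _ ≤ (2 ^ (L + 1)) ^ (3 * (L + 1)) * 24 := Nat.mul_le_mul_right _ (Nat.pow_le_pow_left h1 _)
      _ = 2 ^ (3 * (L + 1) ^ 2) * 24 := by rw [← pow_mul]; ring
      _ ≤ 2 ^ (4 * m') * 24 := by
          refine Nat.mul_le_mul_right _ (Nat.pow_le_pow_right two_pos ?_)
          have := hkey L hL5
          omega
      _ ≤ 24 ^ m' * 24 := by
          rw [pow_mul]; exact Nat.mul_le_mul_right _ (Nat.pow_le_pow_left (by norm_num) _)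
      _ = 24 ^ m := by rw [hm', pow_succ]
  · have hr32 : r < 32 := lt_of_le_of_lt (Nat.le_self_pow (by omega) r) (hm ▸ h32)
    have hj5 : j < 5 := by
      by_contra hc
      have : 2 ^ 5 ≤ m :=
        hm ▸ (Nat.pow_le_pow_right two_pos (by omega)).trans (Nat.pow_le_pow_left hr.two_le j)
      omega
    clear hm2
    rw [hm] at h32 ⊢
    clear_value m
    have := hr.two_le
    interval_cases r <;> first | (exfalso; norm_num at hr; done) |
      (interval_cases j <;> first | (exfalso; norm_num at h32; done) |
        norm_num [Fin.prod_univ_succ])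

/-- Automorphisms of an elementary abelian group. -/
theorem card_aut_le {r : ℕ} [Fact r.Prime] {M : Type u} [AddCommGroup M] [Finite M]
    (hexp : ∀ x : M, r • x = 0) :
    ∃ j : ℕ, Nat.card M = r ^ j ∧ ∀ {B : Type v} [Finite B] (f : B → M →+ M),
      Function.Injective f → (∀ b, Function.Injective (f b)) →
      Nat.card B ≤ ∏ i : Fin j, (r ^ j - r ^ (i : ℕ)) := by
  classical
  letI : Module (ZMod r) M := AddCommGroup.zmodModule (n := r) hexp
  haveI : Module.Finite (ZMod r) M := Module.Finite.of_finite
  set j := Module.finrank (ZMod r) M with hj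
  refine ⟨j, by rw [Module.natCard_eq_pow_finrank (K := ZMod r), Nat.card_zmod], fun {B} _ f hf hinj => ?_⟩
  let bas := Module.finBasis (ZMod r) M
  have hu : ∀ b, IsUnit ((f b).toZModLinearMap r : M →ₗ[ZMod r] M) := fun b =>
    (Module.End.isUnit_iff _).2 (Finite.injective_iff_bijective.1 (hinj b))
  let φ : B → GL (Fin j) (ZMod r) := fun b =>
    Units.map (LinearMap.toMatrixAlgEquiv bas).toAlgHom.toRingHom.toMonoidHom (hu b).unit
  have hφ : Function.Injective φ := by
    intro b b' h
    refine hf ?_
    have h1 := congrArg Units.val h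
    have h2 : ((hu b).unit : M →ₗ[ZMod r] M) = ((hu b').unit : M →ₗ[ZMod r] M) :=
      (LinearMap.toMatrixAlgEquiv bas).injective h1
    rw [IsUnit.unit_spec, IsUnit.unit_spec] at h2
    exact AddMonoidHom.ext fun x => LinearMap.congr_fun h2 x
  refine (Nat.card_le_card_of_injective φ hφ).trans (le_of_eq ?_)
  rw [Matrix.card_GL_field]
  simp [ZMod.card]

/-- A group preserving the parts of a partition. -/
theorem card_le_prod_fibres {S : Type u} [Group S] [Finite S] {Ω : Type v} [MulAction S Ω] [FaithfulSMul S Ω]
    {Q : Type v} [Fintype Q] (q : Ω → Q) [Finite Ω] (hq : ∀ (g : S) x, q (g • x) = q x) (B : Q → ℕ)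
    (hB : ∀ (b : Q) (φ : S →* Equiv.Perm {x // q x = b}), Nat.card φ.range ≤ B b) :
    Nat.card S ≤ ∏ b, B b := by
  classical
  let φ : (b : Q) → S →* Equiv.Perm {x // q x = b} := fun b =>
    { toFun := fun g =>
        { toFun := fun x => ⟨g • (x : Ω), by rw [hq]; exact x.2⟩
          invFun := fun x => ⟨g⁻¹ • (x : Ω), by rw [hq]; exact x.2⟩
          left_inv := fun x => Subtype.ext (inv_smul_smul g _)
          right_inv := fun x => Subtype.ext (smul_inv_smul g _) }
      map_one' := Equiv.ext fun x => Subtype.ext (one_smul S (x : Ω))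
      map_mul' := fun g h => Equiv.ext fun x => Subtype.ext (mul_smul g h (x : Ω)) }
  refine (Nat.card_le_card_of_injective (β := (b : Q) → (φ b).range)
    (fun g b => ⟨φ b g, g, rfl⟩) ?_).trans ?_
  · intro g h e
    refine FaithfulSMul.eq_of_smul_eq_smul (α := Ω) fun x => ?_
    have := congrArg (fun z => ((z (q x)).1 ⟨x, rfl⟩ : Ω)) e
    exact this
  · rw [Nat.card_pi]
    exact Finset.prod_le_prod' fun b _ => hB b (φ b)

/-- The order bound. -/
theorem solvable_perm_bound_aux : ∀ (n : ℕ) (Ω : Type v) [Finite Ω] [Nonempty Ω]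
    (S : Subgroup (Equiv.Perm Ω)) [Group.IsSolvable S],
    Nat.card Ω = n → Nat.card S ^ 3 * 24 ≤ 24 ^ n := by
  intro n
  induction n using Nat.strong_induction_on with
  | _ n ih =>
    intro Ω _ _ S _ hn
    classical
    haveI : FaithfulSMul S Ω := ⟨fun {a b} h => Subtype.ext (Equiv.ext h)⟩
    have red : ∀ (Q : Type v) [Finite Q] [MulAction S Q] (q : Ω → Q), Function.Surjective q →
        (∀ (g : S) x, q (g • x) = g • q x) → 2 ≤ Nat.card Q → Nat.card Q < n →
        Nat.card S ^ 3 * 24 ≤ 24 ^ n := by
      intro Q _ _ q hs hq h2 hlt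
      haveI := Fintype.ofFinite Q
      haveI : Nonempty Q := ⟨q (Classical.arbitrary Ω)⟩
      let π := MulAction.toPermHom S Q
      haveI : Group.IsSolvable π.range :=
        Group.isSolvable_of_surjective (f := π.rangeRestrict) π.rangeRestrict_surjective
      have hR := ih _ hlt Q π.range rfl
      let K := π.ker
      haveI : FaithfulSMul K Ω :=
        ⟨fun {a b} h => Subtype.ext (FaithfulSMul.eq_of_smul_eq_smul h)⟩
      have hKq : ∀ (g : K) x, q (g • x) = q x := fun g x => by
        rw [Subgroup.smul_def, hq]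
        exact Equiv.congr_fun (MonoidHom.mem_ker.1 g.2) (q x)
      let f : Q → ℕ := fun b => Nat.card {x // q x = b}
      have hf : ∀ b, 0 < f b := fun b => by
        obtain ⟨x, hx⟩ := hs b
        haveI : Nonempty {x // q x = b} := ⟨⟨x, hx⟩⟩
        exact Nat.card_pos
      have hsum : ∑ b, f b = n := by rw [← hn, ← Nat.card_sigma]; exact Nat.card_congr (Equiv.sigmaFiberEquiv q)
      have hK3 : ∀ (b : Q) (φ : K →* Equiv.Perm {x // q x = b}),
          Nat.card φ.range ^ 3 * 24 ≤ 24 ^ f b := by
        intro b φ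
        haveI : Group.IsSolvable K :=
          Group.isSolvable_of_isSolvable_injective (f := K.subtype) K.subtype_injective
        haveI : Group.IsSolvable φ.range :=
          Group.isSolvable_of_surjective (f := φ.rangeRestrict) φ.rangeRestrict_surjective
        obtain ⟨x, hx⟩ := hs b
        haveI : Nonempty {x // q x = b} := ⟨⟨x, hx⟩⟩
        refine ih (f b) ?_ _ φ.range rfl
        have h3 : f b + ∑ c ∈ Finset.univ.erase b, f c = n := by
          rw [Finset.add_sum_erase _ _ (Finset.mem_univ b), hsum]
        have h4 : (Finset.univ.erase b).card • 1 ≤ ∑ c ∈ Finset.univ.erase b, f c :=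
          Finset.card_nsmul_le_sum _ _ _ fun c _ => hf c
        rw [Finset.card_erase_of_mem (Finset.mem_univ b), Finset.card_univ, ← Nat.card_eq_fintype_card,
          smul_eq_mul, mul_one] at h4
        omega
      let B : Q → ℕ := fun b => Nat.findGreatest (fun t => t ^ 3 * 24 ≤ 24 ^ f b) (24 ^ f b)
      have hB : ∀ (b : Q) (φ : K →* Equiv.Perm {x // q x = b}), Nat.card φ.range ≤ B b := fun b φ =>
        Nat.le_findGreatest (P := fun t => t ^ 3 * 24 ≤ 24 ^ f b)
          (le_trans (le_trans (Nat.le_self_pow (by norm_num) _) (Nat.le_mul_of_pos_right _ (by norm_num))) (hK3 b φ))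
          (hK3 b φ)
      have hBspec : ∀ b, B b ^ 3 * 24 ≤ 24 ^ f b := fun b =>
        Nat.findGreatest_spec (P := fun t => t ^ 3 * 24 ≤ 24 ^ f b) (m := 0) (Nat.zero_le _) (by simp)
      have hK := card_le_prod_fibres q hKq B hB
      have hSK : Nat.card S = Nat.card π.range * Nat.card K := by
        rw [← Subgroup.index_ker, Subgroup.index_mul_card]
      have hprod : Nat.card K ^ 3 * 24 ^ Nat.card Q ≤ 24 ^ n := by
        calc Nat.card K ^ 3 * 24 ^ Nat.card Q ≤ (∏ b, B b) ^ 3 * 24 ^ Nat.card Q :=
              Nat.mul_le_mul_right _ (Nat.pow_le_pow_left hK 3)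
          _ = ∏ b, (B b ^ 3 * 24) := by
              rw [Finset.prod_mul_distrib, Finset.prod_const, Finset.card_univ, Nat.card_eq_fintype_card,
                Finset.prod_pow]
          _ ≤ ∏ b, 24 ^ f b := Finset.prod_le_prod' fun b _ => hBspec b
          _ = 24 ^ n := by rw [Finset.prod_pow_eq_pow_sum, hsum]
      calc Nat.card S ^ 3 * 24 = Nat.card π.range ^ 3 * 24 * Nat.card K ^ 3 := by rw [hSK]; ring
        _ ≤ 24 ^ Nat.card Q * Nat.card K ^ 3 := Nat.mul_le_mul_right _ hR
        _ = Nat.card K ^ 3 * 24 ^ Nat.card Q := mul_comm _ _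
        _ ≤ 24 ^ n := hprod
    rcases subsingleton_or_nontrivial S with hS | hS
    · rw [Nat.card_eq_one_iff_unique.2 ⟨hS, ⟨1⟩⟩, one_pow, one_mul]
      calc 24 = 24 ^ 1 := rfl
        _ ≤ 24 ^ n := Nat.pow_le_pow_right (by norm_num) (by rw [← hn]; exact Nat.card_pos)
    by_cases htr : IsPretransitive S Ω
    · by_cases hprim : IsPreprimitive S Ω
      · obtain ⟨α⟩ := ‹Nonempty Ω›
        obtain ⟨N, hNn, hN1, hNc, ⟨r, hr, -, hexp⟩, hbij, -, hfaith⟩ :=
          CfsgLib.Perm.ExtremelyPrimitive.exists_regular_normal hprim α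
        haveI := hNn
        haveI := Fact.mk hr
        letI : CommGroup N := { (inferInstance : Group N) with mul_comm := hNc.is_comm.comm }
        haveI : Finite (Additive N) := inferInstanceAs (Finite N)
        obtain ⟨j, hj, hB⟩ := card_aut_le (r := r) (M := Additive N) (fun x => by
          refine Additive.toMul.injective ?_
          show (Additive.toMul x) ^ r = 1
          exact Subtype.ext (by simpa using hexp _ (Additive.toMul x).2))
        have hNn' : Nat.card N = n := by rw [← hn]; exact Nat.card_congr (Equiv.ofBijective _ hbij)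
        have hnj : n = r ^ j := by
          rw [← hNn', ← hj]; exact (Nat.card_congr Additive.toMul).symm
        have hA : Nat.card (stabilizer S α) ≤ ∏ i : Fin j, (r ^ j - r ^ (i : ℕ)) := by
          refine hB (fun h => MonoidHom.toAdditive (MulAut.conjNormal (H := N) (h : S)).toMonoidHom) ?_ ?_
          · intro g h e
            have : ((g : S))⁻¹ * h = 1 := hfaith _ (mul_mem (inv_mem g.2) h.2) fun x hx => by
              have h1 : MulAut.conjNormal (H := N) (g : S) ⟨x, hx⟩ = MulAut.conjNormal (H := N) (h : S) ⟨x, hx⟩ :=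
                congrArg Additive.toMul (DFunLike.congr_fun e (Additive.ofMul ⟨x, hx⟩))
              have h2 := congrArg Subtype.val h1
              rw [MulAut.conjNormal_apply, MulAut.conjNormal_apply] at h2
              calc (g : S)⁻¹ * h * x = (g : S)⁻¹ * (h * x * (h : S)⁻¹) * h := by group
                _ = (g : S)⁻¹ * (g * x * (g : S)⁻¹) * h := by rw [h2]
                _ = x * ((g : S)⁻¹ * h) := by group
            exact Subtype.ext (inv_mul_eq_one.1 this)
          · intro h x y e
            exact Additive.toMul.injective ((MulAut.conjNormal (H := N) (h : S)).injective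
              (congrArg Additive.toMul e))
        have hj1 : 1 ≤ j := by
          by_contra hc
          rw [show j = 0 by omega, pow_zero] at hnj
          exact hN1 (Subgroup.card_eq_one.1 (hNn'.trans hnj))
        have hcard : Nat.card S = n * Nat.card (stabilizer S α) := by
          rw [← (stabilizer S α).index_mul_card, MulAction.index_stabilizer_of_transitive, hn]
        rw [hcard, hnj]
        exact le_trans (by gcongr) (affine_le hr hj1)
      · obtain ⟨α⟩ := ‹Nonempty Ω›
        rcases subsingleton_or_nontrivial Ω with hΩ | hΩ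
        · exfalso
          obtain ⟨g, hg⟩ := exists_ne (1 : S)
          exact hg (FaithfulSMul.eq_of_smul_eq_smul (α := Ω) fun x => Subsingleton.elim _ _)
        rw [← isCoatom_stabilizer_iff_preprimitive S α] at hprim
        have hne : stabilizer S α ≠ ⊤ := fun h => by
          obtain ⟨b, hb⟩ := exists_ne α
          obtain ⟨g, hg⟩ := exists_smul_eq S α b
          have : g ∈ stabilizer S α := h ▸ Subgroup.mem_top g
          exact hb (hg.symm.trans this)
        obtain ⟨K, hK, hKtop⟩ : ∃ K, stabilizer S α < K ∧ K ≠ ⊤ := by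
          by_contra hc
          push Not at hc
          exact hprim ⟨hne, hc⟩
        choose t ht using fun i : Ω => exists_smul_eq S α i
        have hst : (stabilizer S α).index = n := by rw [MulAction.index_stabilizer_of_transitive, hn]
        have hQ : Nat.card (S ⧸ K) < n := by
          rw [← Subgroup.index_eq_card, ← hst]
          exact Subgroup.index_strictAnti hK
        refine red (S ⧸ K) (fun i => ((t i : S) : S ⧸ K)) ?_ ?_ ?_ hQ
        · intro x
          obtain ⟨g, rfl⟩ := QuotientGroup.mk_surjective x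
          refine ⟨g • α, QuotientGroup.eq.2 (hK.le ?_)⟩
          rw [mem_stabilizer_iff, mul_smul, inv_smul_eq_iff, ht]
        · intro g x
          refine QuotientGroup.eq.2 (hK.le ?_)
          show (t (g • x))⁻¹ * (g * t x) ∈ stabilizer S α
          rw [mem_stabilizer_iff, mul_smul, mul_smul, ht, inv_smul_eq_iff, ht]
        · rw [← Subgroup.index_eq_card]
          have h0 : K.index ≠ 0 := Subgroup.index_ne_zero_of_finite
          have h1 : K.index ≠ 1 := fun e => hKtop (Subgroup.index_eq_one.1 e)
          omega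
    · let Q := orbitRel.Quotient S Ω
      letI : MulAction S Q :=
        { smul := fun _ b => b, one_smul := fun _ => rfl, mul_smul := fun _ _ _ => rfl }
      refine red Q (fun x => Quotient.mk'' x) Quotient.mk''_surjective ?_ ?_ ?_
      · intro g x
        exact Quotient.sound' ⟨g, rfl⟩
      · haveI : Nontrivial Q := by
          by_contra hc
          haveI := not_nontrivial_iff_subsingleton.1 hc
          exact htr ⟨fun x y => by
            obtain ⟨g, hg⟩ := Quotient.exact' (Subsingleton.elim (Quotient.mk'' y : Q) (Quotient.mk'' x))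
            exact ⟨g, hg⟩⟩
        exact Finite.one_lt_card
      · rw [← hn]
        refine lt_of_le_of_ne (Nat.card_le_card_of_surjective _ Quotient.mk''_surjective) fun e => ?_
        have hinj : Function.Injective (Quotient.mk'' : Ω → Q) :=
          ((Nat.bijective_iff_surjective_and_card _).2 ⟨Quotient.mk''_surjective, e.symm⟩).1
        obtain ⟨g, hg⟩ := exists_ne (1 : S)
        exact hg (FaithfulSMul.eq_of_smul_eq_smul (α := Ω) fun x => by
          rw [one_smul]; exact hinj (Quotient.sound' ⟨g, rfl⟩))

/-- The order bound for a soluble group acting faithfully. -/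
theorem solvable_perm_bound {S : Type u} [Group S] [Group.IsSolvable S] {Ω : Type v} [MulAction S Ω]
    [FaithfulSMul S Ω] [Finite Ω] [Nonempty Ω] :
    Nat.card S ^ 3 * 24 ≤ 24 ^ Nat.card Ω := by
  haveI : Group.IsSolvable (MulAction.toPermHom S Ω).range :=
    Group.isSolvable_of_surjective (f := (MulAction.toPermHom S Ω).rangeRestrict)
      (MulAction.toPermHom S Ω).rangeRestrict_surjective
  rw [Nat.card_congr (MonoidHom.ofInjective (f := MulAction.toPermHom S Ω) MulAction.toPerm_injective).toEquiv]
  exact solvable_perm_bound_aux _ Ω _ rfl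

end CfsgLib.Core.ClassNumber
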