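import Cfsg.Agent.Lib.RegOrbit.Structure
import Cfsg.Agent.Lib.Core.ClassNumber.Basic
import Cfsg.Agent.Lib.Core.ClassNumber.PermBound

/-!
Irreducible soluble linear groups as subgroups of wreath products with primitive components.
-/

set_option autoImplicit false
set_option linter.all false

namespace CfsgLib.Core.ClassNumber

open MulAction CfsgLib.RegOrbit

variable {G V : Type*} [Group G] [AddCommGroup V] [DistribMulAction G V]

/-- The operators of the stabiliser of a component. -/
noncomputable def compHom {I : Type*} [Fintype I] (D : System G V I) (a : I) :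
    letI := D.mulAction
    stabilizer G a →* (AddMonoid.End (D.W a))ˣ :=
  letI := D.mulAction
  letI := D.compAction a
  (DistribMulAction.toAddMonoidEnd (stabilizer G a) (D.W a)).toHomUnits

theorem compHom_apply {I : Type*} [Fintype I] (D : System G V I) (a : I) :
    letI := D.mulAction
    ∀ (g : stabilizer G a) (w : D.W a), (((compHom D a g) • w : D.W a) : V) = (g : G) • (w : V) := by
  intro g w
  rfl

/-- The image on a component. -/
noncomputable abbrev compGroup {I : Type*} [Fintype I] (D : System G V I) (a : I) :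
    Subgroup (AddMonoid.End (D.W a))ˣ :=
  letI := D.mulAction
  (compHom D a).range

/-- A finest system of imprimitivity. -/
theorem exists_primitive_component [Finite V] [Group.IsSolvable G] (hirr : Irred G V) {p : ℕ}
    (hp : p.Prime) (hexp : ∀ v : V, p • v = 0) :
    ∃ (m : ℕ) (D : System G V (Fin m)) (a : Fin m), Nat.card V = Nat.card (D.W a) ^ m ∧
      IsPrim p (compGroup D a) := by
  classical
  haveI := hirr.1
  let P : ℕ → Prop := fun m => 0 < m ∧ Nonempty (System G V (Fin m))
  have hone : P 1 := ⟨one_pos, ⟨⟨fun _ => ⊤, fun _ => top_ne_bot, ⟨fun f f' h => by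
      funext i
      obtain rfl : i = 0 := Subsingleton.elim _ _
      refine Subtype.ext ?_
      simpa using h, fun v => ⟨fun _ => ⟨v, AddSubgroup.mem_top v⟩, by simp⟩⟩,
      fun g i => ⟨i, fun w _ => AddSubgroup.mem_top _⟩⟩⟩⟩
  have hcardV : ∀ (m : ℕ) (D : System G V (Fin m)), Nat.card V = ∏ i, Nat.card (D.W i) := fun m D => by
    rw [← Nat.card_pi]; exact (Nat.card_congr (Equiv.ofBijective _ D.decomp)).symm
  have hbound : ∀ m, P m → m ≤ Nat.card V := by
    rintro m ⟨-, ⟨D⟩⟩
    rw [hcardV m D]
    calc m ≤ 2 ^ m := Nat.lt_two_pow_self.le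
      _ = ∏ _i : Fin m, 2 := by simp
      _ ≤ ∏ i, Nat.card (D.W i) := Finset.prod_le_prod' fun i _ => by
        haveI := (AddSubgroup.nontrivial_iff_ne_bot _).2 (D.ne_bot i)
        exact Finite.one_lt_card
  let m := Nat.findGreatest P (Nat.card V)
  obtain ⟨hm0, ⟨D⟩⟩ : P m := Nat.findGreatest_spec (hbound 1 hone) hone
  have hmax : ∀ m', P m' → m' ≤ m := fun m' h => Nat.le_findGreatest (hbound m' h) h
  let a : Fin m := ⟨0, hm0⟩
  letI := D.mulAction
  letI := D.compAction a
  choose t ht using fun i => D.transitive hirr a i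
  have ht' : ∀ i, t i • a = i := ht
  have hmem : ∀ i (w : D.W a), t i • (w : V) ∈ D.W i := fun i w => by
    simpa [ht i] using D.smul_mem (t i) w.2
  have hmem' : ∀ i (v : D.W i), (t i)⁻¹ • (v : V) ∈ D.W a := fun i v => by
    have h := D.smul_mem (t i)⁻¹ v.2
    change _ ∈ D.W ((t i)⁻¹ • i) at h
    rwa [inv_smul_eq_iff.2 (ht' i).symm] at h
  let e : ∀ i, D.W a ≃ D.W i := fun i =>
    { toFun := fun w => ⟨_, hmem i w⟩
      invFun := fun v => ⟨_, hmem' i v⟩
      left_inv := fun w => Subtype.ext (inv_smul_smul _ _)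
      right_inv := fun v => Subtype.ext (smul_inv_smul _ _) }
  have hcard : Nat.card V = Nat.card (D.W a) ^ m := by
    rw [hcardV m D, Finset.prod_congr rfl fun i _ => (Nat.card_congr (e i)).symm]
    simp
  refine ⟨m, D, a, hcard, hp, fun w => Subtype.ext (by simpa using hexp w), ?_, ?_, ?_⟩
  · obtain ⟨h1, h2⟩ := D.irred_comp hirr a
    refine ⟨h1, fun U hU => h2 U fun g u hu => ?_⟩
    exact hU ⟨compHom D a g, g, rfl⟩ u hu
  · intro n hn
    refine ⟨fun D' => ?_⟩
    let W' : Fin m × Fin n → AddSubgroup V := fun il =>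
      ((D'.W il.2).map (D.W a).subtype).map (DistribMulAction.toAddMonoidHom V (t il.1))
    have hW' : ∀ il v, v ∈ W' il ↔ ∃ w : D.W a, w ∈ D'.W il.2 ∧ t il.1 • (w : V) = v := by
      intro il v
      constructor
      · rintro ⟨_, ⟨w, hw, rfl⟩, rfl⟩; exact ⟨w, hw, rfl⟩
      · rintro ⟨w, hw, rfl⟩; exact ⟨_, ⟨w, hw, rfl⟩, rfl⟩
    have hsum : ∀ (F : (il : Fin m × Fin n) → W' il) (w : (il : Fin m × Fin n) → D'.W il.2),
        (∀ il, t il.1 • ((w il : D.W a) : V) = (F il : V)) →
        ∑ il, (F il : V) = ∑ i, ((e i (∑ l, (w (i, l) : D.W a)) : D.W i) : V) := by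
      intro F w hw
      rw [Fintype.sum_prod_type]
      refine Finset.sum_congr rfl fun i _ => ?_
      show _ = t i • ((∑ l, (w (i, l) : D.W a) : D.W a) : V)
      rw [AddSubgroup.val_finsetSum, Finset.smul_sum]
      exact Finset.sum_congr rfl fun l _ => (hw (i, l)).symm
    have hD2 : Nonempty (System G V (Fin m × Fin n)) := by
      refine ⟨⟨W', fun il h => ?_, ⟨fun F F' hFF => ?_, fun v => ?_⟩, fun g il => ?_⟩⟩
      · obtain ⟨w, hw, hw0⟩ := (D'.W il.2).bot_or_exists_ne_zero.resolve_left (D'.ne_bot il.2)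
        have : t il.1 • (w : V) ∈ W' il := (hW' il _).2 ⟨w, hw, rfl⟩
        rw [h, AddSubgroup.mem_bot, smul_eq_zero_iff_eq] at this
        exact hw0 (Subtype.ext this)
      · choose w hw hwF using fun il => (hW' il _).1 (F il).2
        choose w' hw' hwF' using fun il => (hW' il _).1 (F' il).2
        simp only at hFF
        rw [hsum F (fun il => ⟨w il, hw il⟩) hwF, hsum F' (fun il => ⟨w' il, hw' il⟩) hwF'] at hFF
        have h1 := D.decomp.1 hFF
        funext il
        obtain ⟨i, l⟩ := il
        have h2 := (e i).injective (congrFun h1 i)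
        have h3 := congrFun (D'.decomp.1 (a₁ := fun l => ⟨w (i, l), hw (i, l)⟩)
          (a₂ := fun l => ⟨w' (i, l), hw' (i, l)⟩) h2) l
        refine Subtype.ext ?_
        rw [← hwF, ← hwF']
        exact congrArg (fun x : D'.W l => t i • ((x : D.W a) : V)) h3
      · obtain ⟨f, rfl⟩ := D.decomp.2 v
        choose u hu using fun i => D'.decomp.2 ((e i).symm (f i))
        refine ⟨fun il => ⟨_, (hW' il _).2 ⟨u il.1 il.2, (u il.1 il.2).2, rfl⟩⟩, ?_⟩
        simp only at hu ⊢
        refine (hsum (fun il => ⟨_, (hW' il _).2 ⟨u il.1 il.2, (u il.1 il.2).2, rfl⟩⟩) (fun il => u il.1 il.2) fun il => rfl).trans ?_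
        simp only [hu, Equiv.apply_symm_apply]
      · obtain ⟨i, l⟩ := il
        have hs : (t (g • i))⁻¹ * g * t i ∈ stabilizer G a := by
          rw [mem_stabilizer_iff, mul_smul, mul_smul, ht', inv_smul_eq_iff, ht']
        obtain ⟨l', hl'⟩ := D'.perm ⟨compHom D a ⟨_, hs⟩, _, rfl⟩ l
        refine ⟨(g • i, l'), fun v hv => ?_⟩
        obtain ⟨w, hw, rfl⟩ := (hW' (i, l) v).1 hv
        refine (hW' (g • i, l') _).2 ⟨_, hl' w hw, ?_⟩
        show t (g • i) • (((t (g • i))⁻¹ * g * t i) • (w : V)) = g • t i • (w : V)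
        rw [mul_smul, mul_smul, smul_inv_smul]
    obtain ⟨D2⟩ := hD2
    let eq := (finProdFinEquiv : Fin m × Fin n ≃ Fin (m * n))
    have h := hmax (m * n) ⟨Nat.mul_pos hm0 (by omega), ⟨⟨fun i => D2.W (eq.symm i), fun i => D2.ne_bot _, ?_, ?_⟩⟩⟩
    · have h2 : m * 2 ≤ m * n := Nat.mul_le_mul_left _ hn
      omega
    · have h3 : (fun f : (i : Fin (m * n)) → D2.W (eq.symm i) => ∑ i, (f i : V))
          = (fun f : (b : Fin m × Fin n) → D2.W b => ∑ b, (f b : V)) ∘
            (Equiv.piCongrLeft (fun b => D2.W b) eq.symm) := by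
        funext f
        simp only [Function.comp]
        rw [← Equiv.sum_comp eq.symm]
        simp
      rw [h3]
      exact D2.decomp.comp (Equiv.bijective _)
    · intro g i
      obtain ⟨j, hj⟩ := D2.perm g (eq.symm i)
      exact ⟨eq j, fun w hw => by rw [Equiv.symm_apply_apply]; exact hj w hw⟩
  · exact Group.isSolvable_of_surjective (f := (compHom D a).rangeRestrict)
      (compHom D a).rangeRestrict_surjective

variable [Finite V] [Finite G] [FaithfulSMul G V] {m : ℕ}

/-- Order and classes against the indices in the components. -/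
theorem card_le_mul_k (hirr : Irred G V) [Group.IsSolvable G] (D : System G V (Fin m)) (a : Fin m)
    (Z C : Subgroup (compGroup D a)) (hZC : ∀ c ∈ C, ∀ z ∈ Z, c * z = z * c) :
    ∃ s A : ℕ, (s ^ 3 * 24 ≤ 24 ^ m ∧ s ≤ m.factorial) ∧ Nat.card G ≤ s * Z.index ^ m * A ∧
      A ≤ s * C.index ^ m * k G ∧ A ≤ Nat.card Z ^ m := by
  classical
  letI := D.mulAction
  let π := MulAction.toPermHom G (Fin m)
  haveI : Group.IsSolvable π.range :=
    Group.isSolvable_of_surjective (f := π.rangeRestrict) π.rangeRestrict_surjective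
  haveI : FaithfulSMul π.range (Fin m) := ⟨fun {a b} h => Subtype.ext (Equiv.ext h)⟩
  haveI : Nonempty (Fin m) := ⟨a⟩
  have hs := solvable_perm_bound (S := π.range) (Ω := Fin m)
  rw [Nat.card_fin] at hs
  choose t ht using fun i => D.transitive hirr a i
  have ht' : ∀ i, t i • a = i := ht
  have hst : ∀ (g : π.ker) i, (t i)⁻¹ * g * t i ∈ stabilizer G a := fun g i => by
    rw [mem_stabilizer_iff, mul_smul, mul_smul, ht',
      show (g : G) • i = i from Equiv.congr_fun (MonoidHom.mem_ker.1 g.2) i, inv_smul_eq_iff, ht']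
  let φ : π.ker →* (Fin m → compGroup D a) := MonoidHom.mk'
    (fun g i => ⟨compHom D a ⟨_, hst g i⟩, _, rfl⟩) fun g h => by
      funext i
      refine Subtype.ext ?_
      show compHom D a ⟨_, hst (g * h) i⟩ = compHom D a ⟨_, hst g i⟩ * compHom D a ⟨_, hst h i⟩
      rw [← map_mul]
      congr 1
      refine Subtype.ext ?_
      show (t i)⁻¹ * ((g : G) * h) * t i = (t i)⁻¹ * g * t i * ((t i)⁻¹ * h * t i)
      group
  have hφ : Function.Injective φ := by
    rw [injective_iff_map_eq_one]
    intro g hg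
    refine Subtype.ext (FaithfulSMul.eq_of_smul_eq_smul (α := V) fun v => ?_)
    obtain ⟨f, rfl⟩ := D.decomp.2 v
    simp only [OneMemClass.coe_one, one_smul, Finset.smul_sum]
    refine Finset.sum_congr rfl fun i _ => ?_
    have hw : (t i)⁻¹ • (f i : V) ∈ D.W a := by
      have h := D.smul_mem (t i)⁻¹ (f i).2
      change _ ∈ D.W ((t i)⁻¹ • i) at h
      rwa [inv_smul_eq_iff.2 (ht' i).symm] at h
    have h1 := congrArg (fun x : compGroup D a =>
      ((((x : (AddMonoid.End (D.W a))ˣ)) • (⟨_, hw⟩ : D.W a) : D.W a) : V)) (congrFun hg i)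
    change ((t i)⁻¹ * (g : G) * t i) • (t i)⁻¹ • (f i : V) = (((1 : (AddMonoid.End (D.W a))ˣ) • (⟨_, hw⟩ : D.W a) : D.W a) : V) at h1
    rw [one_smul] at h1
    rwa [mul_smul, mul_smul, smul_inv_smul, smul_left_cancel_iff] at h1
  let pr : Subgroup (compGroup D a) → Subgroup π.ker := fun K => (Subgroup.pi Set.univ fun _ => K).comap φ
  have hidx : ∀ K : Subgroup (compGroup D a), (pr K).index ≤ K.index ^ m := by
    intro K
    have : K.index ^ m = Nat.card (Fin m → compGroup D a ⧸ K) := by
      rw [Nat.card_fun, Nat.card_fin, Subgroup.index_eq_card]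
    rw [this, Subgroup.index_eq_card]
    refine Nat.card_le_card_of_injective (fun x i => ((φ x.out i : compGroup D a) : compGroup D a ⧸ K)) ?_
    intro x y h
    rw [← Quotient.out_eq x, ← Quotient.out_eq y]
    refine QuotientGroup.eq.2 ?_
    show φ ((x.out)⁻¹ * y.out) ∈ Subgroup.pi Set.univ fun _ => K
    rw [Subgroup.mem_pi]
    intro i _
    rw [map_mul, map_inv]
    exact QuotientGroup.eq.1 (congrFun h i)
  let A : Subgroup G := (pr Z).map π.ker.subtype
  let C' : Subgroup G := (pr C).map π.ker.subtype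
  refine ⟨Nat.card π.range, Nat.card A, ⟨hs, (Subgroup.card_le_card_group _).trans (le_of_eq (by rw [Nat.card_perm, Nat.card_fin]))⟩, ?_, ?_, ?_⟩
  · rw [show Nat.card A = Nat.card (pr Z) from
      (Nat.card_congr ((pr Z).equivMapOfInjective _ π.ker.subtype_injective).toEquiv).symm,
      ← π.ker.index_mul_card, Subgroup.index_ker, ← (pr Z).index_mul_card, ← mul_assoc]
    exact Nat.mul_le_mul_right _ (Nat.mul_le_mul_left _ (hidx Z))
  · have hC : C' ≤ Subgroup.centralizer (A : Set G) := by
      rintro _ ⟨c, hc, rfl⟩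
      rw [Subgroup.mem_centralizer_iff]
      rintro _ ⟨z, hz, rfl⟩
      show (z : G) * (c : G) = (c : G) * z
      refine congrArg Subtype.val (hφ ?_ : z * c = c * z)
      rw [map_mul, map_mul]
      funext i
      exact (hZC _ ((Subgroup.mem_pi _).1 hc i (Set.mem_univ i)) _
        ((Subgroup.mem_pi _).1 hz i (Set.mem_univ i))).symm
    refine (card_le_index_centralizer_mul A C' hC).trans (Nat.mul_le_mul_right _ ?_)
    show ((pr C).map π.ker.subtype).index ≤ _
    rw [Subgroup.index_map_subtype, mul_comm, Subgroup.index_ker]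
    exact Nat.mul_le_mul_left _ (hidx C)
  · rw [show Nat.card A = Nat.card (pr Z) from
      (Nat.card_congr ((pr Z).equivMapOfInjective _ π.ker.subtype_injective).toEquiv).symm,
      show Nat.card Z ^ m = Nat.card (Fin m → Z) by rw [Nat.card_fun, Nat.card_fin]]
    refine Nat.card_le_card_of_injective
      (fun x i => ⟨φ (x : π.ker) i, (Subgroup.mem_pi _).1 x.2 i (Set.mem_univ i)⟩) fun x y h => ?_
    exact Subtype.ext (hφ (funext fun i => congrArg Subtype.val (congrFun h i)))

omit [FaithfulSMul G V] in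
/-- Classes of the component group. -/
theorem k_comp_le (hirr : Irred G V) (D : System G V (Fin m)) (a : Fin m) :
    k (compGroup D a) ≤ m * k G := by
  letI := D.mulAction
  haveI : IsPretransitive G (Fin m) := ⟨fun x y => D.transitive hirr x y⟩
  refine (k_le_of_surjective _ (compHom D a).rangeRestrict_surjective).trans ?_
  refine (k_subgroup_le (stabilizer G a)).trans (le_of_eq ?_)
  rw [MulAction.index_stabilizer_of_transitive, Nat.card_fin]

omit [FaithfulSMul G V] [Finite G] in
/-- Orbits from the orbit types of the components. -/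
theorem multichoose_le_orbits (hirr : Irred G V) (D : System G V (Fin m)) (a : Fin m) :
    (Nat.card (orbitRel.Quotient (compGroup D a) (D.W a))).multichoose m ≤
      Nat.card (orbitRel.Quotient G V) := by
  classical
  letI := D.mulAction
  let T := orbitRel.Quotient (compGroup D a) (D.W a)
  haveI : Finite T := Quotient.finite _
  haveI := Fintype.ofFinite T
  haveI : Finite (orbitRel.Quotient G V) := Quotient.finite _
  choose t ht using fun i => D.transitive hirr a i
  have ht' : ∀ i, t i • a = i := ht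
  let dec : V → (i : Fin m) → D.W i := fun v => (Equiv.ofBijective _ D.decomp).symm v
  have hdec : ∀ v, ∑ i, (dec v i : V) = v := fun v => (Equiv.ofBijective _ D.decomp).apply_symm_apply v
  have hw : ∀ v i, (t i)⁻¹ • (dec v i : V) ∈ D.W a := fun v i => by
    have h := D.smul_mem (t i)⁻¹ (dec v i).2
    change _ ∈ D.W ((t i)⁻¹ • i) at h
    rwa [inv_smul_eq_iff.2 (ht' i).symm] at h
  let ty : V → Fin m → T := fun v i => Quotient.mk'' (⟨_, hw v i⟩ : D.W a)
  let μ : V → Sym T m := fun v => ⟨(Finset.univ : Finset (Fin m)).val.map (ty v), by simp⟩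
  have hμ : ∀ (g : G) v, μ (g • v) = μ v := by
    intro g v
    have hg : ∀ i, dec (g • v) (g • i) = ⟨g • (dec v i : V), D.smul_mem g (dec v i).2⟩ := by
      intro i
      let f' : (l : Fin m) → D.W l := fun l => ⟨g • (dec v (g⁻¹ • l) : V), by
        have := D.smul_mem g (dec v (g⁻¹ • l)).2
        change _ ∈ D.W (g • g⁻¹ • l) at this
        rwa [smul_inv_smul] at this⟩
      have h1 : dec (g • v) = f' := D.decomp.1 (by
        simp only [f']
        rw [hdec]
        conv_lhs => rw [← hdec v, Finset.smul_sum]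
        exact Fintype.sum_equiv (MulAction.toPerm g) _ _ (fun l =>
          congrArg (fun j => g • (dec v j : V)) (inv_smul_smul g l).symm))
      rw [h1]
      exact Subtype.ext (congrArg (fun j => g • (dec v j : V)) (inv_smul_smul g i))
    have hty : ∀ i, ty (g • v) (g • i) = ty v i := by
      intro i
      have hs : (t (g • i))⁻¹ * g * t i ∈ stabilizer G a := by
        rw [mem_stabilizer_iff, mul_smul, mul_smul, ht', inv_smul_eq_iff, ht']
      refine Quotient.sound' ⟨⟨compHom D a ⟨_, hs⟩, _, rfl⟩, Subtype.ext ?_⟩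
      show ((t (g • i))⁻¹ * g * t i) • (t i)⁻¹ • (dec v i : V) = (t (g • i))⁻¹ • (dec (g • v) (g • i) : V)
      rw [hg, mul_smul, mul_smul, smul_inv_smul]
    refine Subtype.ext ?_
    show (Finset.univ : Finset (Fin m)).val.map (ty (g • v)) = (Finset.univ : Finset (Fin m)).val.map (ty v)
    have hperm : (Finset.univ : Finset (Fin m)).val.map (MulAction.toPerm g) = (Finset.univ : Finset (Fin m)).val := by
      exact Multiset.map_univ_val_equiv (MulAction.toPerm g : Equiv.Perm (Fin m))
    conv_lhs => rw [← hperm, Multiset.map_map]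
    exact Multiset.map_congr rfl fun i _ => hty i
  have hsurj : Function.Surjective μ := by
    rintro ⟨S, hS⟩
    obtain ⟨L, rfl⟩ := Quot.exists_rep S
    have hL : L.length = m := hS
    let w : Fin m → D.W a := fun i => (L.get (i.cast hL.symm)).out
    have hmem : ∀ i, t i • (w i : V) ∈ D.W i := fun i => by simpa [ht i] using D.smul_mem (t i) (w i).2
    let v := ∑ i, t i • (w i : V)
    have hv : ∀ i, (dec v i : V) = t i • (w i : V) := fun i => by
      have h1 : dec v = fun l => ⟨_, hmem l⟩ := D.decomp.1 (by simp only; rw [hdec])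
      rw [h1]
    refine ⟨v, Subtype.ext ?_⟩
    show (Finset.univ : Finset (Fin m)).val.map (ty v) = (L : Multiset T)
    have hty : ∀ i, ty v i = L.get (i.cast hL.symm) := fun i => by
      show Quotient.mk'' (⟨_, hw v i⟩ : D.W a) = _
      conv_rhs => rw [← Quotient.out_eq' (L.get (i.cast hL.symm))]
      congr 1
      exact Subtype.ext (by show (t i)⁻¹ • (dec v i : V) = (w i : V); rw [hv, inv_smul_smul])
    rw [Multiset.map_congr rfl fun i _ => hty i, Fin.univ_val_map]
    refine congrArg _ (List.ext_getElem (by simp [hL]) fun n h1 h2 => by simp)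
  rw [show Nat.card T = Fintype.card T from Nat.card_eq_fintype_card, ← Sym.card_sym_eq_multichoose,
    ← Nat.card_eq_fintype_card]
  refine Nat.card_le_card_of_surjective
    (Quotient.lift μ fun u v (h : u ∈ orbit G v) => by obtain ⟨g, rfl⟩ := h; exact hμ g v) fun S => ?_
  obtain ⟨v, hv⟩ := hsurj S
  exact ⟨Quotient.mk'' v, hv⟩

end CfsgLib.Core.ClassNumber
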