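import Mathlib

/-!
Numerical lemmas for the class number of a soluble group against a prime dividing the index of
the Fitting subgroup.
-/

set_option autoImplicit false
set_option linter.all false

namespace CfsgLib.Core.ClassNumber.FittingIndex

open Real

theorem le_mul_logb {p c : ℕ} (hp : 0 < p) (h : 2 ^ p ≤ p ^ c) :
    (p : ℝ) ≤ c * logb 2 p := by
  have h1 : ((2 : ℝ) ^ p) ≤ (p : ℝ) ^ c := by exact_mod_cast h
  have h2 := logb_le_logb_of_le (one_lt_two : (1 : ℝ) < 2) (by positivity) h1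
  rwa [logb_pow, logb_pow, logb_self_eq_one one_lt_two, mul_one] at h2

theorem mul_logb_le {p c : ℕ} (hp : 0 < p) (h : p ^ c ≤ 2 ^ p) :
    (c : ℝ) * logb 2 p ≤ p := by
  have h1 : (p : ℝ) ^ c ≤ (2 : ℝ) ^ p := by exact_mod_cast h
  have h2 := logb_le_logb_of_le (one_lt_two : (1 : ℝ) < 2) (by positivity) h1
  rwa [logb_pow, logb_pow, logb_self_eq_one one_lt_two, mul_one] at h2

theorem natCast_le_logb {p c : ℕ} (h : 2 ^ c ≤ p) : (c : ℝ) ≤ logb 2 p := by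
  have h1 : (2 : ℝ) ^ c ≤ p := by exact_mod_cast h
  have h2 := logb_le_logb_of_le (one_lt_two : (1 : ℝ) < 2) (by positivity) h1
  rwa [logb_pow, logb_self_eq_one one_lt_two, mul_one] at h2

theorem logb_natCast_le {p c : ℕ} (hp : 0 < p) (h : p ≤ 2 ^ c) : logb 2 (p : ℝ) ≤ c := by
  have h1 : (p : ℝ) ≤ (2 : ℝ) ^ c := by exact_mod_cast h
  have h2 := logb_le_logb_of_le (one_lt_two : (1 : ℝ) < 2) (by exact_mod_cast hp) h1
  rwa [logb_pow, logb_self_eq_one one_lt_two, mul_one] at h2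

/-- A positive linear function against an exponential. -/
theorem growth {L x t : ℝ} (hL : 0 < L) (hx : L ≤ x) (ht : 1 ≤ t * log 2 * L) :
    x ≤ L * (2 : ℝ) ^ (t * (x - L)) := by
  rw [rpow_def_of_pos two_pos]
  refine le_trans ?_ (mul_le_mul_of_nonneg_left (add_one_le_exp _) hL.le)
  nlinarith [mul_le_mul_of_nonneg_right ht (sub_nonneg.2 hx)]

theorem growth_pow {L x : ℝ} {n : ℕ} (hn : 0 < n) (hL : 0 < L) (hx : L ≤ x)
    (h : (n : ℝ) ≤ log 2 * L) : x ^ n ≤ L ^ n * (2 : ℝ) ^ (x - L) := by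
  have hn' : (0 : ℝ) < n := by exact_mod_cast hn
  have h1 := growth (t := 1 / n) hL hx (by field_simp; exact h)
  have h2 := pow_le_pow_left₀ (hL.le.trans hx) h1 n
  rw [mul_pow, ← rpow_natCast ((2 : ℝ) ^ (1 / (n : ℝ) * (x - L))) n, ← rpow_mul two_pos.le] at h2
  refine h2.trans (le_of_eq ?_)
  congr 2
  field_simp

theorem two_rpow_logb {p : ℕ} (hp : 0 < p) : (2 : ℝ) ^ logb 2 (p : ℝ) = p :=
  rpow_logb two_pos (by norm_num) (by exact_mod_cast hp)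

theorem five_le_logb {p : ℕ} (hp : 53 ≤ p) : (5 : ℝ) ≤ logb 2 p :=
  natCast_le_logb (c := 5) (by omega)

/-- The field degree, squared. -/
theorem sq_bound {p q d : ℕ} (hp : 53 ≤ p) (hq : p ^ 2 ≤ q) (hd : 2 ^ d ≤ q) :
    (d : ℝ) ^ 2 * (p : ℝ) ^ 2 ≤ 4 * logb 2 p ^ 2 * q := by
  have hL := five_le_logb hp
  have hq' : (p : ℝ) ^ 2 ≤ q := by exact_mod_cast hq
  have hd' : (2 : ℝ) ^ d ≤ q := by exact_mod_cast hd
  rcases le_total (d : ℝ) (2 * logb 2 p) with h | h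
  · have h1 : (d : ℝ) ^ 2 ≤ 4 * logb 2 p ^ 2 := by nlinarith [Nat.cast_nonneg (α := ℝ) d]
    exact mul_le_mul h1 hq' (by positivity) (by positivity)
  · have h1 := growth_pow (n := 2) two_pos (by linarith) h
      (by push_cast; nlinarith [log_two_gt_d9])
    have h2 : (2 : ℝ) ^ (2 * logb 2 (p : ℝ)) = (p : ℝ) ^ 2 := by
      rw [mul_comm, rpow_mul two_pos.le, two_rpow_logb (by omega)]; norm_num
    rw [rpow_sub two_pos, h2, rpow_natCast] at h1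
    have hp0 : (0 : ℝ) < (p : ℝ) ^ 2 := by
      have : 0 < p := by omega
      positivity
    rw [← le_div_iff₀ hp0]
    refine h1.trans (le_of_eq_of_le ?_ (div_le_div_of_nonneg_right
      (mul_le_mul_of_nonneg_left hd' (by positivity : 0 ≤ 4 * logb 2 (p : ℝ) ^ 2)) hp0.le))
    ring

/-- The field degree, cubed. -/
theorem cube_bound {p q d : ℕ} (hp : 53 ≤ p) (hq : p ≤ q) (hd : 2 ^ d ≤ q) :
    (d : ℝ) ^ 3 * p ≤ logb 2 p ^ 3 * q := by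
  have hL := five_le_logb hp
  have hq' : (p : ℝ) ≤ q := by exact_mod_cast hq
  have hd' : (2 : ℝ) ^ d ≤ q := by exact_mod_cast hd
  rcases le_total (d : ℝ) (logb 2 p) with h | h
  · exact mul_le_mul (pow_le_pow_left₀ (by positivity) h 3) hq' (by positivity) (by positivity)
  · have h1 := growth_pow (n := 3) (by norm_num) (by linarith) h
      (by push_cast; nlinarith [log_two_gt_d9])
    rw [rpow_sub two_pos, two_rpow_logb (by omega), rpow_natCast] at h1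
    have hp0 : (0 : ℝ) < p := by
      have : 0 < p := by omega
      positivity
    rw [← le_div_iff₀ hp0]
    refine h1.trans (le_of_eq_of_le ?_ (div_le_div_of_nonneg_right
      (mul_le_mul_of_nonneg_left hd' (by positivity : 0 ≤ logb 2 (p : ℝ) ^ 3)) hp0.le))
    ring

theorem logb_cube_le {p : ℕ} (hp : 64 ≤ p) : 8 * logb 2 (p : ℝ) ^ 3 ≤ 27 * p := by
  have h6 : (6 : ℝ) ≤ logb 2 p := natCast_le_logb (c := 6) (by omega)
  have h := growth_pow (n := 3) (L := 6) (by norm_num) (by norm_num) h6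
    (by push_cast; nlinarith [log_two_gt_d9])
  rw [rpow_sub two_pos, two_rpow_logb (by omega)] at h
  norm_num at h
  linarith

theorem pow_nine_le {p : ℕ} (hp : 53 ≤ p) : p ^ 9 ≤ 2 ^ p := by
  induction p, hp using Nat.le_induction with
  | base => norm_num
  | succ n hn ih =>
    have h1 : (53 * (n + 1)) ^ 9 ≤ (54 * n) ^ 9 := Nat.pow_le_pow_left (by omega) 9
    rw [mul_pow, mul_pow] at h1
    norm_num at h1
    rw [pow_succ 2 n]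
    linarith [Nat.zero_le (2 ^ n)]

/-- The layer against the field. -/
theorem layer_le_pow {q e D o : ℕ} (hq : 53 ≤ q) (he : 1 ≤ e) (heD : e ≤ D) (h1 : e = 1 → o = 1)
    (h : 2 ≤ e → o ^ 12 * 24 ^ 4 ≤ e ^ 54) : e ^ 2 * o ≤ q ^ (D - 1) := by
  refine le_trans ?_ (Nat.pow_le_pow_right (by omega) (show e - 1 ≤ D - 1 by omega))
  rcases Nat.eq_or_lt_of_le he with rfl | he2
  · simp [h1 rfl]
  have key : ∀ e, 2 ≤ e → e ^ 78 ≤ 24 ^ 4 * q ^ (12 * (e - 1)) := by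
    intro e he
    induction e, he using Nat.le_induction with
    | base => exact le_trans (by norm_num) (Nat.mul_le_mul_left _ (Nat.pow_le_pow_left hq (12 * (2 - 1))))
    | succ n hn ih =>
      have h1 : (2 * (n + 1)) ^ 78 ≤ (3 * n) ^ 78 := Nat.pow_le_pow_left (by omega) 78
      have h2 : 3 ^ 78 ≤ 2 ^ 78 * q ^ 12 := le_trans (by norm_num)
        (Nat.mul_le_mul_left _ (Nat.pow_le_pow_left hq 12))
      rw [mul_pow, mul_pow] at h1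
      refine Nat.le_of_mul_le_mul_left ?_ (show 0 < 2 ^ 78 by positivity)
      rw [show 12 * (n + 1 - 1) = 12 * (n - 1) + 12 by omega, pow_add]
      calc 2 ^ 78 * (n + 1) ^ 78 ≤ 3 ^ 78 * n ^ 78 := h1
        _ ≤ (2 ^ 78 * q ^ 12) * (24 ^ 4 * q ^ (12 * (n - 1))) := Nat.mul_le_mul h2 ih
        _ = _ := by ring
  refine (Nat.pow_le_pow_iff_left (show 12 ≠ 0 by norm_num)).1 ?_
  refine Nat.le_of_mul_le_mul_right ?_ (show 0 < 24 ^ 4 by norm_num)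
  calc (e ^ 2 * o) ^ 12 * 24 ^ 4 = e ^ 24 * (o ^ 12 * 24 ^ 4) := by ring
    _ ≤ e ^ 24 * e ^ 54 := Nat.mul_le_mul_left _ (h he2)
    _ ≤ 24 ^ 4 * q ^ (12 * (e - 1)) := le_of_eq_of_le (by ring) (key e he2)
    _ = _ := by rw [← pow_mul, mul_comm (e - 1)]; ring

theorem perm_sq_le {s m : ℕ} (h : s ^ 3 * 24 ≤ 24 ^ m) (hm : 1 ≤ m) :
    s ^ 3 ≤ 24 ^ (m - 1) ∧ s ^ 2 ≤ 9 ^ (m - 1) := by
  obtain ⟨i, rfl⟩ : ∃ i, m = i + 1 := ⟨m - 1, by omega⟩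
  rw [pow_succ] at h
  have h1 := Nat.le_of_mul_le_mul_right h (by norm_num)
  refine ⟨h1, (Nat.pow_le_pow_iff_left (show 3 ≠ 0 by norm_num)).1 ?_⟩
  simp only [Nat.add_sub_cancel]
  calc (s ^ 2) ^ 3 = (s ^ 3) ^ 2 := by ring
    _ ≤ (24 ^ i) ^ 2 := Nat.pow_le_pow_left h1 2
    _ = (24 ^ 2) ^ i := by rw [← pow_mul, ← pow_mul, mul_comm]
    _ ≤ (9 ^ 3) ^ i := Nat.pow_le_pow_left (by norm_num) i
    _ = _ := by rw [← pow_mul, ← pow_mul, mul_comm]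

/-- A large field. -/
theorem wide_case {p q d m s u w n : ℕ} (hp : 53 ≤ p) (hd0 : 0 < d) (hq : p ^ 2 ≤ q) (hd : 2 ^ d ≤ q)
    (hm : 1 ≤ m) (hs : s ^ 3 * 24 ≤ 24 ^ m) (hn : u + w ≤ n)
    (h : q ^ m ≤ 2 * w * u * s ^ 2 * (d ^ 2) ^ m) : (p : ℝ) ≤ 3 * logb 2 p * n := by
  have hL := five_le_logb hp
  have h9 := mul_logb_le (c := 9) (p := p) (by omega) (pow_nine_le hp)
  push_cast at h9
  have hsb := sq_bound hp hq hd
  obtain ⟨i, rfl⟩ : ∃ i, m = i + 1 := ⟨m - 1, by omega⟩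
  have hs9 : (s : ℝ) ^ 2 ≤ 9 ^ i := by exact_mod_cast (perm_sq_le hs hm).2
  have hh : (q : ℝ) ^ (i + 1) ≤ 2 * w * u * s ^ 2 * ((d : ℝ) ^ 2) ^ (i + 1) := by exact_mod_cast h
  have hd' : (0 : ℝ) < (d : ℝ) ^ 2 := by positivity
  have hW : 9 * (d : ℝ) ^ 2 ≤ q := by
    refine le_of_mul_le_mul_left ?_ (show (0 : ℝ) < logb 2 p ^ 2 by positivity)
    nlinarith [mul_le_mul_of_nonneg_left (pow_le_pow_left₀ (by positivity) h9 2) hd'.le]
  have h1 : (q : ℝ) * (9 * (d : ℝ) ^ 2) ^ i ≤ 2 * w * u * (d : ℝ) ^ 2 * (9 * (d : ℝ) ^ 2) ^ i := by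
    refine le_trans (mul_le_mul_of_nonneg_left (pow_le_pow_left₀ (by positivity) hW i) (by positivity)) ?_
    rw [← pow_succ']
    refine hh.trans ?_
    rw [mul_pow 9, pow_succ' ((d : ℝ) ^ 2) i]
    nlinarith [mul_le_mul_of_nonneg_left hs9
      (by positivity : (0 : ℝ) ≤ 2 * w * u * ((d : ℝ) ^ 2 * ((d : ℝ) ^ 2) ^ i))]
  have h2 := le_of_mul_le_mul_right h1 (by positivity)
  have hn' : (u : ℝ) + w ≤ n := by exact_mod_cast hn
  have h3 : 4 * ((u : ℝ) * w) ≤ (n : ℝ) ^ 2 := by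
    nlinarith [sq_nonneg ((u : ℝ) - w), Nat.cast_nonneg (α := ℝ) u, Nat.cast_nonneg (α := ℝ) w]
  have h4 : (p : ℝ) ^ 2 ≤ (3 * logb 2 p * n) ^ 2 := by
    refine le_of_mul_le_mul_left ?_ hd'
    calc (d : ℝ) ^ 2 * (p : ℝ) ^ 2 ≤ 4 * logb 2 p ^ 2 * q := hsb
      _ ≤ 4 * logb 2 p ^ 2 * (2 * w * u * (d : ℝ) ^ 2) := by gcongr
      _ = 2 * (d : ℝ) ^ 2 * logb 2 p ^ 2 * (4 * ((u : ℝ) * w)) := by ring
      _ ≤ 2 * (d : ℝ) ^ 2 * logb 2 p ^ 2 * (n : ℝ) ^ 2 := by gcongr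
      _ ≤ _ := by nlinarith [mul_nonneg hd'.le (sq_nonneg (logb 2 (p : ℝ) * n))]
  exact (pow_le_pow_iff_left₀ (by positivity) (by positivity) two_ne_zero).1 h4

theorem pow_eighteen_ge : ∀ p : ℕ, 53 ≤ p → p ≤ 113 → 2 ^ p ≤ p ^ 18 := by decide +kernel

/-- A field generated by an element of order `p`. -/
theorem narrow_case {p q d m j s u w n : ℕ} (hp : 53 ≤ p) (hd0 : 0 < d) (hpq : p ≤ q) (hq : q < p ^ 2)
    (hd : 2 ^ d ≤ q) (hm : 1 ≤ m) (hj : 1 ≤ j) (hjm : j ≤ m) (hs : s ^ 3 * 24 ≤ 24 ^ m)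
    (hn : u + w ≤ n) (hz : p ≤ d * m * u) (hw : m ≤ w) (hA : p ^ j ≤ s * d ^ j * u)
    (h : q ^ m ≤ 2 * w * u * s ^ 2 * (d ^ j) ^ 2) : (p : ℝ) ≤ 3 * logb 2 p * n := by
  have hL := five_le_logb hp
  have hd2 : (d : ℝ) ≤ 2 * logb 2 p := by
    have : (d : ℝ) ≤ logb 2 ((p ^ 2 : ℕ) : ℝ) := natCast_le_logb (hd.trans hq.le)
    rwa [Nat.cast_pow, logb_pow] at this
  have hu : (0 : ℝ) ≤ u := Nat.cast_nonneg u
  have hw0 : (0 : ℝ) ≤ w := Nat.cast_nonneg w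
  have hn' : (u : ℝ) + w ≤ n := by exact_mod_cast hn
  have hz' : (p : ℝ) ≤ d * m * u := by exact_mod_cast hz
  rcases Nat.eq_or_lt_of_le hm with rfl | hm2
  · push_cast at hz'
    nlinarith [mul_le_mul_of_nonneg_right hd2 hu, mul_nonneg (show (0 : ℝ) ≤ logb 2 p by linarith) hw0]
  rcases Nat.lt_or_ge p 114 with h114 | h114
  · have h18 := le_mul_logb (p := p) (c := 18) (by omega) (pow_eighteen_ge p hp (by omega))
    push_cast at h18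
    have hw' : (m : ℝ) ≤ w := by exact_mod_cast hw
    have h1 : 4 * (p : ℝ) ≤ 2 * logb 2 p * (n : ℝ) ^ 2 := by
      calc 4 * (p : ℝ) ≤ 4 * (d * w * u) := by nlinarith [mul_nonneg (Nat.cast_nonneg (α := ℝ) d) hu]
        _ = d * (4 * u * w) := by ring
        _ ≤ d * (n : ℝ) ^ 2 := by gcongr; nlinarith [sq_nonneg ((u : ℝ) - w)]
        _ ≤ _ := by gcongr
    have h2 : (p : ℝ) ^ 2 ≤ (3 * logb 2 p * n) ^ 2 := by
      calc (p : ℝ) ^ 2 ≤ 18 * logb 2 p * p := by rw [pow_two]; gcongr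
        _ ≤ _ := by nlinarith
    exact (pow_le_pow_iff_left₀ (by positivity) (by positivity) two_ne_zero).1 h2
  obtain ⟨i, rfl⟩ : ∃ i, m = i + 2 := ⟨m - 2, by omega⟩
  have hs24 : (s : ℝ) ^ 3 ≤ 24 ^ (i + 1) := by
    exact_mod_cast (perm_sq_le hs hm).1
  have hA' : (p : ℝ) ^ j ≤ s * (d : ℝ) ^ j * u := by exact_mod_cast hA
  have h' : (q : ℝ) ^ (i + 2) ≤ 2 * w * u * s ^ 2 * ((d : ℝ) ^ j) ^ 2 := by exact_mod_cast h
  have hq' : (p : ℝ) ≤ q := by exact_mod_cast hpq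
  have hp' : (114 : ℝ) ≤ p := by exact_mod_cast h114
  have hc := cube_bound (by omega : 53 ≤ p) hpq hd
  have hlc := logb_cube_le (p := p) (by omega)
  have hL0 : (0 : ℝ) ≤ logb 2 p := by linarith
  -- the product
  have hprod : (p : ℝ) ^ j * (q : ℝ) ^ (i + 2) ≤
      8 / 27 * (n : ℝ) ^ 3 * 24 ^ (i + 1) * ((d : ℝ) ^ 3) ^ j := by
    have hamgm : (u : ℝ) ^ 2 * w ≤ 4 / 27 * (n : ℝ) ^ 3 := by
      nlinarith [pow_le_pow_left₀ (by positivity) hn' 3, mul_nonneg hu (sq_nonneg ((u : ℝ) - 2 * w)),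
        mul_nonneg hw0 (sq_nonneg ((u : ℝ) - 2 * w))]
    calc (p : ℝ) ^ j * (q : ℝ) ^ (i + 2)
        ≤ (s * (d : ℝ) ^ j * u) * (2 * w * u * s ^ 2 * ((d : ℝ) ^ j) ^ 2) :=
          mul_le_mul hA' h' (by positivity) (by positivity)
      _ = 2 * ((u : ℝ) ^ 2 * w) * (s : ℝ) ^ 3 * ((d : ℝ) ^ 3) ^ j := by
          rw [← pow_mul (d : ℝ) 3 j, mul_comm 3 j, pow_mul]; ring
      _ ≤ 2 * (4 / 27 * (n : ℝ) ^ 3) * 24 ^ (i + 1) * ((d : ℝ) ^ 3) ^ j := by gcongr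
      _ = _ := by ring
  -- the comparison
  have hF : 8 * 24 ^ (i + 1) * (p : ℝ) ^ 3 * ((d : ℝ) ^ 3) ^ j ≤
      729 * logb 2 p ^ 3 * ((p : ℝ) ^ j * (q : ℝ) ^ (i + 2)) := by
    rcases le_total ((d : ℝ) ^ 3) p with hdp | hdp
    · obtain ⟨j', rfl⟩ : ∃ j', j = j' + 1 := ⟨j - 1, by omega⟩
      have h1 : ((d : ℝ) ^ 3) ^ j' ≤ (p : ℝ) ^ j' := pow_le_pow_left₀ (by positivity) hdp j'
      have h2 : (24 : ℝ) ^ i ≤ (q : ℝ) ^ i := pow_le_pow_left₀ (by norm_num) (by linarith) i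
      have h3 : 192 * (p : ℝ) ^ 2 * (d : ℝ) ^ 3 ≤ 729 * logb 2 p ^ 3 * (q : ℝ) ^ 2 := by
        calc 192 * (p : ℝ) ^ 2 * (d : ℝ) ^ 3 = 192 * p * ((d : ℝ) ^ 3 * p) := by ring
          _ ≤ 729 * q * (logb 2 p ^ 3 * q) :=
            mul_le_mul (by linarith) hc (by positivity) (by positivity)
          _ = _ := by ring
      calc 8 * 24 ^ (i + 1) * (p : ℝ) ^ 3 * ((d : ℝ) ^ 3) ^ (j' + 1)
          = (192 * (p : ℝ) ^ 2 * (d : ℝ) ^ 3) * 24 ^ i * p * ((d : ℝ) ^ 3) ^ j' := by ring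
        _ ≤ (729 * logb 2 p ^ 3 * (q : ℝ) ^ 2) * (q : ℝ) ^ i * p * (p : ℝ) ^ j' := by gcongr
        _ = _ := by ring
    · obtain ⟨l, hl⟩ : ∃ l, i + 2 = j + l := ⟨i + 2 - j, by omega⟩
      have h1 : (p : ℝ) ^ l ≤ ((d : ℝ) ^ 3) ^ l := pow_le_pow_left₀ (by positivity) hdp l
      have hb : 24 * (d : ℝ) ^ 3 ≤ p * q := by
        refine le_of_mul_le_mul_right ?_ (show (0 : ℝ) < p by linarith)
        calc 24 * (d : ℝ) ^ 3 * p = 24 * ((d : ℝ) ^ 3 * p) := by ring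
          _ ≤ 24 * (logb 2 p ^ 3 * q) := by gcongr
          _ = 24 * logb 2 p ^ 3 * q := by ring
          _ ≤ (p * p) * q := mul_le_mul_of_nonneg_right (by nlinarith) (by positivity)
          _ = _ := by ring
      have h3 : 192 * (p : ℝ) ^ 3 * ((d : ℝ) ^ 3) ^ 2 ≤ 729 * logb 2 p ^ 3 * ((p : ℝ) * q) ^ 2 := by
        calc 192 * (p : ℝ) ^ 3 * ((d : ℝ) ^ 3) ^ 2 = 192 * p * ((d : ℝ) ^ 3 * p) ^ 2 := by ring
          _ ≤ 192 * p * (logb 2 p ^ 3 * q) ^ 2 := by gcongr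
          _ = 192 * p * (q : ℝ) ^ 2 * logb 2 p ^ 3 * logb 2 p ^ 3 := by ring
          _ ≤ 192 * p * (q : ℝ) ^ 2 * logb 2 p ^ 3 * (27 / 8 * p) := by gcongr; linarith
          _ ≤ _ := by nlinarith [mul_nonneg (pow_nonneg hL0 3) (sq_nonneg ((p : ℝ) * q))]
      refine le_of_mul_le_mul_right ?_ (show (0 : ℝ) < (p : ℝ) ^ l by positivity)
      calc 8 * 24 ^ (i + 1) * (p : ℝ) ^ 3 * ((d : ℝ) ^ 3) ^ j * (p : ℝ) ^ l
          ≤ 8 * 24 ^ (i + 1) * (p : ℝ) ^ 3 * ((d : ℝ) ^ 3) ^ j * ((d : ℝ) ^ 3) ^ l := by gcongr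
        _ = (192 * (p : ℝ) ^ 3 * ((d : ℝ) ^ 3) ^ 2) * (24 * (d : ℝ) ^ 3) ^ i := by
            rw [mul_assoc _ (((d : ℝ) ^ 3) ^ j), ← pow_add, ← hl]; ring
        _ ≤ (729 * logb 2 p ^ 3 * ((p : ℝ) * q) ^ 2) * ((p : ℝ) * q) ^ i := by gcongr
        _ = 729 * logb 2 p ^ 3 * ((p : ℝ) ^ (i + 2) * (q : ℝ) ^ (i + 2)) := by ring
        _ = _ := by rw [hl, pow_add (p : ℝ)]; ring
  have h4 : (p : ℝ) ^ 3 ≤ (3 * logb 2 p * n) ^ 3 := by
    refine le_of_mul_le_mul_left ?_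
      (show (0 : ℝ) < 8 * 24 ^ (i + 1) * ((d : ℝ) ^ 3) ^ j by positivity)
    calc 8 * 24 ^ (i + 1) * ((d : ℝ) ^ 3) ^ j * (p : ℝ) ^ 3
        ≤ 729 * logb 2 p ^ 3 * ((p : ℝ) ^ j * (q : ℝ) ^ (i + 2)) := le_of_eq_of_le (by ring) hF
      _ ≤ 729 * logb 2 p ^ 3 * (8 / 27 * (n : ℝ) ^ 3 * 24 ^ (i + 1) * ((d : ℝ) ^ 3) ^ j) := by gcongr
      _ = _ := by ring
  exact (pow_le_pow_iff_left₀ (by positivity) (by positivity) (by norm_num)).1 h4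

end CfsgLib.Core.ClassNumber.FittingIndex
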