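import Cfsg.Agent.Lib.Core.ClassNumber.LinearBound
import Cfsg.Agent.Lib.Core.ClassNumber.FittingIndexArith
import Cfsg.Agent.Lib.RegOrbit.Point

/-!
Classes and orbits of an irreducible soluble linear group with a normal subgroup of exponent `p`.
-/

set_option autoImplicit false
set_option linter.all false

universe u v

namespace CfsgLib.Core.ClassNumber.FittingIndex

open MulAction CfsgLib.RegOrbit CfsgLib.Core.ClassNumber

/-- Few coordinates detect every element of a finite `p`-group inside a product. -/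
theorem exists_detecting {A I X : Type*} [Group A] [Finite A] [Group X] [Fintype I] {p : ℕ} [hp : Fact p.Prime]
    (hA : IsPGroup p A) (f : A →* (I → X)) (hf : Function.Injective f) :
    ∃ J : Finset I, p ^ J.card ≤ Nat.card A ∧ ∀ a : A, (∀ i ∈ J, f a i = 1) → a = 1 := by
  classical
  suffices H : ∀ (n : ℕ) (M : Subgroup A), Nat.card M = n →
      ∃ J : Finset I, p ^ J.card ≤ Nat.card M ∧ ∀ a ∈ M, (∀ i ∈ J, f a i = 1) → a = 1 by
    obtain ⟨J, h1, h2⟩ := H _ ⊤ rfl
    exact ⟨J, Subgroup.card_top (G := A) ▸ h1, fun a => h2 a (Subgroup.mem_top a)⟩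
  intro n
  induction n using Nat.strong_induction_on with
  | _ n ih =>
    intro M hn
    rcases M.bot_or_exists_ne_one with rfl | ⟨x, hx, hx1⟩
    · exact ⟨∅, by simp, fun a ha _ => Subgroup.mem_bot.1 ha⟩
    obtain ⟨i, hi⟩ : ∃ i, f x i ≠ 1 := by
      by_contra h
      push Not at h
      exact hx1 (hf ((funext h).trans (map_one f).symm))
    let M' : Subgroup A := M ⊓ ((Pi.evalMonoidHom (fun _ : I => X) i).comp f).ker
    have hlt : M' < M := lt_of_le_of_ne inf_le_left fun e => hi (MonoidHom.mem_ker.1 (e.symm ▸ hx : x ∈ M').2)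
    obtain ⟨b, hb⟩ := IsPGroup.iff_card.1 (hA.to_subgroup M')
    obtain ⟨c, hc⟩ := IsPGroup.iff_card.1 (hA.to_subgroup M)
    have hcard : Nat.card M' < Nat.card M := by
      by_contra h
      exact hlt.ne (Subgroup.eq_of_le_of_card_ge hlt.le (not_lt.1 h))
    have hbc : b < c := (Nat.pow_lt_pow_iff_right hp.out.one_lt).1 (by rw [← hb, ← hc]; exact hcard)
    obtain ⟨J, hJ1, hJ2⟩ := ih _ (hn ▸ hcard) M' rfl
    refine ⟨insert i J, ?_, fun a ha h => hJ2 a ⟨ha, h i (Finset.mem_insert_self i J)⟩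
      fun l hl => h l (Finset.mem_insert_of_mem hl)⟩
    have h1 : J.card ≤ b := (Nat.pow_le_pow_iff_right hp.out.one_lt).1 (hb ▸ hJ1)
    rw [hc]
    exact Nat.pow_le_pow_right hp.out.pos (le_trans (Finset.card_insert_le i J) (by omega))

variable {G V : Type*} [Group G] [AddCommGroup V] [DistribMulAction G V]
variable [Finite V] [Finite G] [FaithfulSMul G V] {m : ℕ}

/-- The count through the components in which a normal subgroup of exponent `p` is detected. -/
theorem kernel_count (hirr : Irred G V) [Group.IsSolvable G] (D : System G V (Fin m)) (a : Fin m)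
    (Z C : Subgroup (compGroup D a)) (hZC : ∀ c ∈ C, ∀ z ∈ Z, c * z = z * c) (hle : Z ≤ C)
    {p : ℕ} [hp : Fact p.Prime] (N0 : Subgroup G) [N0.Normal] (hexp : ∀ x ∈ N0, x ^ p = 1) (hne : N0 ≠ ⊥)
    (hfix : letI := D.mulAction; ∀ x ∈ N0, ∀ i : Fin m, x • i = i)
    (hN : letI := D.mulAction; ∀ g : stabilizer G a, (g : G) ∈ N0 → (compHom D a).rangeRestrict g ∈ Z)
    (hfaith : ∀ c : compGroup D a, ∀ ζ ∈ Z, ζ ≠ 1 → ζ ^ p = 1 → c * ζ = ζ * c → c ∈ C) :
    ∃ s A j : ℕ, (1 ≤ j ∧ j ≤ m) ∧ s ^ 3 * 24 ≤ 24 ^ m ∧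
      Nat.card G ≤ s * C.index ^ j * (Z.relIndex C) ^ m * A ∧
      A ≤ s * C.index ^ j * k G ∧ p ^ j ≤ A := by
  classical
  letI := D.mulAction
  let π := MulAction.toPermHom G (Fin m)
  haveI : Group.IsSolvable π.range :=
    Group.isSolvable_of_surjective (f := π.rangeRestrict) π.rangeRestrict_surjective
  haveI : FaithfulSMul π.range (Fin m) := ⟨fun {a b} h => Subtype.ext (Equiv.ext h)⟩
  haveI : Nonempty (Fin m) := ⟨a⟩
  have hs := solvable_perm_bound (S := π.range) (Ω := Fin m)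
  rw [Nat.card_fin] at hs
  choose t ht using fun i => D.transitive hirr a i
  have ht' : ∀ i, t i • a = i := ht
  have hst : ∀ (g : π.ker) i, (t i)⁻¹ * g * t i ∈ stabilizer G a := fun g i => by
    rw [mem_stabilizer_iff, mul_smul, mul_smul, ht',
      show (g : G) • i = i from Equiv.congr_fun (MonoidHom.mem_ker.1 g.2) i, inv_smul_eq_iff, ht']
  let φ : π.ker →* (Fin m → compGroup D a) := MonoidHom.mk'
    (fun g i => ⟨compHom D a ⟨_, hst g i⟩, _, rfl⟩) fun g h => by
      funext i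
      refine Subtype.ext ?_
      show compHom D a ⟨_, hst (g * h) i⟩ = compHom D a ⟨_, hst g i⟩ * compHom D a ⟨_, hst h i⟩
      rw [← map_mul]
      congr 1
      refine Subtype.ext ?_
      show (t i)⁻¹ * ((g : G) * h) * t i = (t i)⁻¹ * g * t i * ((t i)⁻¹ * h * t i)
      group
  have hφ : Function.Injective φ := by
    rw [injective_iff_map_eq_one]
    intro g hg
    refine Subtype.ext (FaithfulSMul.eq_of_smul_eq_smul (α := V) fun v => ?_)
    obtain ⟨f, rfl⟩ := D.decomp.2 v
    simp only [OneMemClass.coe_one, one_smul, Finset.smul_sum]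
    refine Finset.sum_congr rfl fun i _ => ?_
    have hw : (t i)⁻¹ • (f i : V) ∈ D.W a := by
      have h := D.smul_mem (t i)⁻¹ (f i).2
      change _ ∈ D.W ((t i)⁻¹ • i) at h
      rwa [inv_smul_eq_iff.2 (ht' i).symm] at h
    have h1 := congrArg (fun x : compGroup D a =>
      ((((x : (AddMonoid.End (D.W a))ˣ)) • (⟨_, hw⟩ : D.W a) : D.W a) : V)) (congrFun hg i)
    change ((t i)⁻¹ * (g : G) * t i) • (t i)⁻¹ • (f i : V) = (((1 : (AddMonoid.End (D.W a))ˣ) • (⟨_, hw⟩ : D.W a) : D.W a) : V) at h1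
    rw [one_smul] at h1
    rwa [mul_smul, mul_smul, smul_inv_smul, smul_left_cancel_iff] at h1
  have hker : ∀ x ∈ N0, x ∈ π.ker := fun x hx => MonoidHom.mem_ker.2 (Equiv.ext fun i => hfix x hx i)
  let ι : N0 →* π.ker := Subgroup.inclusion hker
  have hιZ : ∀ (x : N0) i, φ (ι x) i ∈ Z := fun x i =>
    hN ⟨_, hst (ι x) i⟩ (by
      show (t i)⁻¹ * (x : G) * t i ∈ N0
      simpa using (inferInstance : N0.Normal).conj_mem _ x.2 (t i)⁻¹)
  -- every coordinate sees `N0`
  have hsee : ∀ i, ∃ x : N0, φ (ι x) i ≠ 1 := by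
    obtain ⟨x, hx, hx1⟩ := N0.bot_or_exists_ne_one.resolve_left hne
    obtain ⟨i0, hi0⟩ : ∃ i0, φ (ι ⟨x, hx⟩) i0 ≠ 1 := by
      by_contra h
      push Not at h
      exact hx1 (congrArg Subtype.val (hφ ((funext h).trans (map_one φ).symm)))
    intro i
    refine ⟨⟨t i * (t i0)⁻¹ * x * (t i * (t i0)⁻¹)⁻¹, (inferInstance : N0.Normal).conj_mem x hx _⟩, ?_⟩
    intro h
    refine hi0 (Eq.trans (Subtype.ext ?_) h)
    refine congrArg (compHom D a) (Subtype.ext ?_)
    show (t i0)⁻¹ * x * t i0 = (t i)⁻¹ * (t i * (t i0)⁻¹ * x * (t i * (t i0)⁻¹)⁻¹) * t i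
    group
  have hN0p : IsPGroup p N0 := fun x => ⟨1, Subtype.ext (by
    rw [pow_one, Subgroup.coe_pow]; exact hexp _ x.2)⟩
  obtain ⟨J, hJ1, hJ2⟩ := exists_detecting hN0p (φ.comp ι)
    (hφ.comp (Subgroup.inclusion_injective hker))
  have hJ0 : 1 ≤ J.card := by
    by_contra h
    obtain rfl : J = ∅ := Finset.card_eq_zero.1 (by omega)
    exact hne ((Subgroup.eq_bot_iff_forall _).2 fun x hx =>
      congrArg Subtype.val (hJ2 ⟨x, hx⟩ fun i hi => absurd hi (Finset.notMem_empty i)))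
  let pr : Subgroup (compGroup D a) → Subgroup π.ker := fun K => (Subgroup.pi Set.univ fun _ => K).comap φ
  -- the centraliser
  let C0 : Subgroup π.ker := (Subgroup.pi (J : Set (Fin m)) fun _ => C).comap φ
  have hC0 : C0 ≤ pr C := by
    intro g hg
    refine (Subgroup.mem_pi _).2 fun i _ => ?_
    obtain ⟨x, hx⟩ := hsee i
    have hcomm : g * ι x = ι x * g := by
      let y : N0 := ⟨(g : G) * x * (g : G)⁻¹, (inferInstance : N0.Normal).conj_mem x x.2 g⟩
      have hy : ι y = g * ι x * g⁻¹ := Subtype.ext rfl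
      have h1 : y * x⁻¹ = 1 := hJ2 _ fun l hl => by
        show φ (ι (y * x⁻¹)) l = 1
        rw [map_mul, map_inv, hy, map_mul, map_mul, map_mul, map_inv, map_inv]
        simp only [Pi.mul_apply, Pi.inv_apply]
        rw [hZC _ ((Subgroup.mem_pi _).1 hg l hl) _ (hιZ x l), mul_inv_cancel_right, mul_inv_cancel]
      rw [mul_inv_eq_one] at h1
      rw [h1] at hy
      exact (eq_mul_inv_iff_mul_eq.1 hy).symm
    have h2 := congrFun (congrArg φ hcomm) i
    rw [map_mul, map_mul] at h2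
    exact hfaith _ _ (hιZ x i) hx (by
      rw [← Pi.pow_apply, ← map_pow, ← map_pow,
        show x ^ p = 1 from Subtype.ext (by rw [Subgroup.coe_pow]; exact hexp _ x.2), map_one, map_one]
      rfl) h2
  have hidxC : (pr C).index ≤ C.index ^ J.card := by
    refine le_trans (Nat.le_of_dvd (Nat.pos_of_ne_zero Subgroup.index_ne_zero_of_finite)
      (Subgroup.index_dvd_of_le hC0)) ?_
    have : C.index ^ J.card = Nat.card (J → compGroup D a ⧸ C) := by
      rw [Nat.card_fun, Nat.card_eq_finsetCard, Subgroup.index_eq_card]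
    rw [this, Subgroup.index_eq_card]
    refine Nat.card_le_card_of_injective (fun x i => ((φ x.out i.1 : compGroup D a) : compGroup D a ⧸ C)) ?_
    intro x y h
    rw [← Quotient.out_eq x, ← Quotient.out_eq y]
    refine QuotientGroup.eq.2 ?_
    show φ ((x.out)⁻¹ * y.out) ∈ Subgroup.pi (J : Set (Fin m)) fun _ => C
    rw [Subgroup.mem_pi]
    intro i hi
    rw [map_mul, map_inv]
    exact QuotientGroup.eq.1 (congrFun h ⟨i, hi⟩)
  have hrel : (pr Z).relIndex (pr C) ≤ (Z.relIndex C) ^ m := by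
    have : (Z.relIndex C) ^ m = Nat.card (Fin m → C ⧸ Z.subgroupOf C) := by
      rw [Nat.card_fun, Nat.card_fin, Subgroup.relIndex, Subgroup.index_eq_card]
    rw [this, Subgroup.relIndex, Subgroup.index_eq_card]
    refine Nat.card_le_card_of_injective
      (fun x i => ((⟨φ (x.out : π.ker) i, (Subgroup.mem_pi _).1 x.out.2 i (Set.mem_univ i)⟩ : C) :
        C ⧸ Z.subgroupOf C)) ?_
    intro x y h
    rw [← Quotient.out_eq x, ← Quotient.out_eq y]
    refine QuotientGroup.eq.2 (Subgroup.mem_subgroupOf.2 ?_)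
    show φ (((x.out)⁻¹ * y.out : pr C) : π.ker) ∈ Subgroup.pi Set.univ fun _ => Z
    rw [Subgroup.mem_pi]
    intro i _
    rw [Subgroup.coe_mul, Subgroup.coe_inv, map_mul, map_inv]
    have h' := congrFun h i
    simp only at h'
    exact Subgroup.mem_subgroupOf.1 (QuotientGroup.eq.1 h')
  have hprle : pr Z ≤ pr C := fun g hg =>
    (Subgroup.mem_pi _).2 fun i hi => hle ((Subgroup.mem_pi _).1 hg i hi)
  let A : Subgroup G := (pr Z).map π.ker.subtype
  let C' : Subgroup G := (pr C).map π.ker.subtype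
  refine ⟨Nat.card π.range, Nat.card A, J.card,
    ⟨hJ0, (Finset.card_le_univ J).trans (le_of_eq (Fintype.card_fin m))⟩, hs, ?_, ?_, ?_⟩
  · rw [show Nat.card A = Nat.card (pr Z) from
      (Nat.card_congr ((pr Z).equivMapOfInjective _ π.ker.subtype_injective).toEquiv).symm,
      ← π.ker.index_mul_card, Subgroup.index_ker, ← (pr Z).index_mul_card, ← mul_assoc]
    refine Nat.mul_le_mul_right _ ?_
    rw [mul_assoc]
    refine Nat.mul_le_mul_left _ ?_
    rw [← Subgroup.relIndex_mul_index hprle, mul_comm]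
    exact Nat.mul_le_mul hidxC hrel
  · have hC : C' ≤ Subgroup.centralizer (A : Set G) := by
      rintro _ ⟨c, hc, rfl⟩
      rw [Subgroup.mem_centralizer_iff]
      rintro _ ⟨z, hz, rfl⟩
      show (z : G) * (c : G) = (c : G) * z
      refine congrArg Subtype.val (hφ ?_ : z * c = c * z)
      rw [map_mul, map_mul]
      funext i
      exact (hZC _ ((Subgroup.mem_pi _).1 hc i (Set.mem_univ i)) _
        ((Subgroup.mem_pi _).1 hz i (Set.mem_univ i))).symm
    refine (card_le_index_centralizer_mul A C' hC).trans (Nat.mul_le_mul_right _ ?_)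
    show ((pr C).map π.ker.subtype).index ≤ _
    rw [Subgroup.index_map_subtype, mul_comm, Subgroup.index_ker]
    exact Nat.mul_le_mul_left _ hidxC
  · refine hJ1.trans (Nat.card_le_card_of_injective (fun x : N0 => (⟨(x : G), ⟨ι x,
      (Subgroup.mem_pi _).2 fun i _ => hιZ x i, rfl⟩⟩ : A)) fun x y h => ?_)
    exact Subtype.ext (congrArg (fun z : A => (z : G)) h)

/-- An element fixing a root of unity generating the field centralises `Z`. -/
theorem mem_cz_of_comm {W : Type*} [AddCommGroup W] [Finite W] {r : ℕ} {X : Subgroup (AddMonoid.End W)ˣ}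
    (S : Setup r X) {p : ℕ} (hp : p.Prime) (hlt : Nat.card S.K < p ^ 2) {g ζ : X} (hζ : ζ ∈ S.Z)
    (h1 : ζ ≠ 1) (hζp : ζ ^ p = 1) (hg : g * ζ = ζ * g) : g ∈ S.cz := by
  classical
  let F : Subfield S.K := (S.sig g).eqLocusField (RingHom.id S.K)
  have hmem : S.scal ζ hζ ∈ F := by
    show S.sig g (S.scal ζ hζ) = S.scal ζ hζ
    rw [S.sig_scal]
    have e : g * ζ * g⁻¹ = ζ := by rw [hg, mul_inv_cancel_right]
    exact Subtype.ext (show op X (g * ζ * g⁻¹) = op X ζ by rw [e])
  have hK : Nat.card S.K = Nat.card F ^ Module.finrank F S.K :=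
    Module.natCard_eq_pow_finrank (K := F)
  have hbig : p < Nat.card F := by
    let x : Fˣ := Units.mk0 ⟨_, hmem⟩ fun e => S.scal_ne_zero ζ hζ (congrArg Subtype.val e)
    have hx : orderOf x = p := by
      haveI := Fact.mk hp
      refine orderOf_eq_prime (Units.ext (Subtype.ext ?_)) fun e => h1 ?_
      · show S.scal ζ hζ ^ p = 1
        rw [S.scal_pow]
        exact Subtype.ext (show op X (ζ ^ p) = 1 by rw [hζp, op_one])
      · have := congrArg Subtype.val (congrArg Units.val e)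
        exact op_injective ((congrArg Subtype.val this).trans op_one.symm)
    have h2 := hx ▸ orderOf_dvd_natCard x
    rw [Nat.card_units] at h2
    have h3 : 1 < Nat.card F := Finite.one_lt_card
    have := Nat.le_of_dvd (by omega) h2
    omega
  have hfin : Module.finrank F S.K ≤ 1 := by
    by_contra hc
    have : Nat.card F ^ 2 ≤ Nat.card F ^ Module.finrank F S.K :=
      Nat.pow_le_pow_right (by omega) (by omega)
    have := Nat.pow_le_pow_left hbig.le 2
    omega
  have htop : ∀ κ : S.K, κ ∈ F := by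
    intro κ
    have hcard : Nat.card S.K ≤ Nat.card F := by
      rw [hK]
      exact le_trans (Nat.pow_le_pow_right (by omega) hfin) (le_of_eq (pow_one _))
    obtain ⟨y, hy⟩ := ((Nat.bijective_iff_injective_and_card _).2
      ⟨(Subtype.val_injective : Function.Injective (fun y : F => (y : S.K))),
        le_antisymm (Nat.card_le_card_of_injective _ Subtype.val_injective) hcard⟩).2 κ
    exact hy ▸ y.2
  refine S.mem_cz.2 fun z hz => ?_
  have h2 : S.sig g (S.scal z hz) = S.scal z hz := htop _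
  rw [S.sig_scal] at h2
  exact mul_inv_eq_iff_eq_mul.1 (op_injective (congrArg Subtype.val h2))

/-- Classes and orbits against the prime. -/
theorem linear_fitting {V : Type u} [AddCommGroup V] [Finite V] {H : Type v} [Group H] [Finite H]
    [Group.IsSolvable H] [DistribMulAction H V] [FaithfulSMul H V] {r : ℕ} (hr : r.Prime)
    (hexp : ∀ v : V, r • v = 0) (hirr : Irred H V) {p : ℕ} [hp : Fact p.Prime] (h53 : 53 ≤ p)
    (N0 : Subgroup H) [N0.Normal] (hcomm : ∀ x ∈ N0, ∀ y ∈ N0, x * y = y * x)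
    (hexp0 : ∀ x ∈ N0, x ^ p = 1) (hne : N0 ≠ ⊥) {n : ℕ}
    (hn : k H + Nat.card (orbitRel.Quotient H V) ≤ n + 1) :
    (p : ℝ) ≤ 3 * Real.logb 2 p * n := by
  classical
  haveI : Finite (orbitRel.Quotient H V) := Quotient.finite _
  haveI : Nonempty (orbitRel.Quotient H V) := ⟨Quotient.mk'' 0⟩
  have ho : 1 ≤ Nat.card (orbitRel.Quotient H V) := Nat.card_pos
  have hVo := card_le_orbits_mul (H := H) (0 : V) smul_zero
  obtain ⟨m, D, a, hcard, hX⟩ := exists_primitive_component hirr hr hexp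
  letI := D.mulAction
  obtain ⟨S⟩ := exists_setup hX
  haveI := finiteGroup (G := compGroup D a)
  haveI := S.zNormal
  have hm : 1 ≤ m := a.pos
  obtain ⟨o1, ho1⟩ : ∃ o1, Nat.card (orbitRel.Quotient H V) = o1 + 1 :=
    ⟨_, (Nat.sub_add_cancel ho).symm⟩
  have hn' : k H + o1 ≤ n := by omega
  have hW := S.card_V
  haveI : Nontrivial (D.W a) := (AddSubgroup.nontrivial_iff_ne_bot _).2 (D.ne_bot a)
  -- orbits against components
  have hmw : m ≤ o1 := by
    have hR : 2 ≤ Nat.card (orbitRel.Quotient (compGroup D a) (D.W a)) := by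
      haveI : Finite (orbitRel.Quotient (compGroup D a) (D.W a)) := Quotient.finite _
      haveI : Nontrivial (orbitRel.Quotient (compGroup D a) (D.W a)) := by
        obtain ⟨w, hw⟩ := exists_ne (0 : D.W a)
        refine ⟨Quotient.mk'' w, Quotient.mk'' 0, fun e => hw ?_⟩
        obtain ⟨g, hg⟩ := Quotient.exact' e
        rw [← hg]; exact smul_zero g
      exact Finite.one_lt_card
    have h1 : m + 1 ≤ (Nat.card (orbitRel.Quotient (compGroup D a) (D.W a))).multichoose m := by
      rw [Nat.multichoose_eq]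
      exact le_trans (le_of_eq (Nat.choose_succ_self_right m).symm) (Nat.choose_le_choose m (by omega))
    have := h1.trans (multichoose_le_orbits hirr D a)
    omega
  have hL := five_le_logb h53
  by_cases hmp : p ≤ m
  · have h1 : (p : ℝ) ≤ n := by exact_mod_cast (by omega : p ≤ n)
    nlinarith [Nat.cast_nonneg (α := ℝ) n]
  -- the size of the space
  obtain ⟨q, hq⟩ : ∃ q, q = r ^ S.deg := ⟨_, rfl⟩
  have hq2 : 2 ^ S.deg ≤ q := hq ▸ Nat.pow_le_pow_left hr.two_le _
  have hq0 : 1 ≤ q := le_trans Nat.one_le_two_pow hq2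
  rw [← hq] at hW
  rw [hcard, hW, ho1, Nat.add_sub_cancel] at hVo
  have hV2 : (q ^ S.dim) ^ m ≤ 2 * o1 * Nat.card H := by
    have : 1 ≤ o1 * Nat.card H := Nat.mul_pos (hm.trans hmw) Nat.card_pos
    rw [mul_assoc]; omega
  have cancel : ∀ X : ℕ, 53 ≤ q → Nat.card H ≤ X * (S.rad ^ 2 * S.outer) ^ m → q ^ m ≤ 2 * o1 * X := by
    intro X hq53 hX'
    have hw : S.rad ^ 2 * S.outer ≤ q ^ (S.dim - 1) :=
      layer_le_pow hq53 S.rad_pos S.rad_le_dim S.outer_eq_one (outer_pow_le S)
    have hpos : 0 < S.rad ^ 2 * S.outer := Nat.pos_of_ne_zero fun e => by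
      have h := S.card_cz
      rw [← mul_assoc, mul_comm S.outer, e, zero_mul] at h
      exact absurd h Nat.card_pos.ne'
    refine Nat.le_of_mul_le_mul_right ?_ (pow_pos hpos m)
    calc q ^ m * (S.rad ^ 2 * S.outer) ^ m ≤ q ^ m * (q ^ (S.dim - 1)) ^ m :=
          Nat.mul_le_mul_left _ (Nat.pow_le_pow_left hw m)
      _ = (q ^ S.dim) ^ m := by
          rw [← mul_pow, ← pow_succ', Nat.sub_add_cancel S.dim_pos]
      _ ≤ 2 * o1 * Nat.card H := hV2
      _ ≤ 2 * o1 * (X * (S.rad ^ 2 * S.outer) ^ m) := Nat.mul_le_mul_left _ hX'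
      _ = _ := by ring
  rcases Nat.lt_or_ge q (p ^ 2) with hqp | hqp
  swap
  · -- a large field
    obtain ⟨s, A, ⟨hs3, -⟩, hG, hA, -⟩ :=
      card_le_mul_k hirr D a S.Z S.cz fun c hc z hz => S.mem_cz.1 hc z hz
    have hzpos : 0 < Nat.card S.Z := Nat.card_pos
    have hZidx : S.Z.index ≤ S.deg * (S.rad ^ 2 * S.outer) := by
      refine Nat.le_of_mul_le_mul_right ?_ hzpos
      rw [S.Z.index_mul_card]
      exact (card_eq_deg_mul S).trans (le_of_eq (by ring))
    have hH : Nat.card H ≤ s ^ 2 * (S.deg ^ 2) ^ m * k H * (S.rad ^ 2 * S.outer) ^ m := by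
      calc Nat.card H ≤ s * S.Z.index ^ m * (s * S.cz.index ^ m * k H) :=
            hG.trans (Nat.mul_le_mul_left _ hA)
        _ ≤ s * (S.deg * (S.rad ^ 2 * S.outer)) ^ m * (s * S.deg ^ m * k H) :=
            Nat.mul_le_mul (Nat.mul_le_mul_left _ (Nat.pow_le_pow_left hZidx m))
              (Nat.mul_le_mul_right _ (Nat.mul_le_mul_left _ (Nat.pow_le_pow_left S.index_cz_le m)))
        _ = _ := by simp only [mul_pow, ← pow_mul]; ring
    refine wide_case h53 S.deg_pos hqp hq2 hm hs3 hn' ((cancel _ (by nlinarith) hH).trans (le_of_eq ?_))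
    ring
  -- the field is generated by an element of order `p`
  have hfix : ∀ x ∈ N0, ∀ i : Fin m, x • i = i := by
    intro x hx i
    have h1 : MulAction.toPermHom H (Fin m) x ^ p = 1 := by rw [← map_pow, hexp0 x hx, map_one]
    by_cases h2 : MulAction.toPermHom H (Fin m) x = 1
    · exact Equiv.congr_fun h2 i
    exfalso
    have h3 := orderOf_eq_prime h1 h2 ▸ orderOf_dvd_natCard (MulAction.toPermHom H (Fin m) x)
    rw [Nat.card_perm, Nat.card_fin] at h3
    exact hmp (hp.out.dvd_factorial.1 h3)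
  have hst : N0 ≤ stabilizer H a := fun x hx => mem_stabilizer_iff.2 (hfix x hx a)
  let N : Subgroup (compGroup D a) := (N0.subgroupOf (stabilizer H a)).map (compHom D a).rangeRestrict
  haveI hNn : N.Normal := Subgroup.Normal.map inferInstance _ (compHom D a).rangeRestrict_surjective
  have hNmem : ∀ g : stabilizer H a, (g : H) ∈ N0 → (compHom D a).rangeRestrict g ∈ N :=
    fun g hg => ⟨g, Subgroup.mem_subgroupOf.2 hg, rfl⟩
  have hNcomm : ∀ x ∈ N, ∀ y ∈ N, x * y = y * x := by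
    rintro _ ⟨x, hx, rfl⟩ _ ⟨y, hy, rfl⟩
    rw [← map_mul, ← map_mul]
    exact congrArg _ (Subtype.ext (hcomm _ hx _ hy))
  have hNexp : ∀ x ∈ N, x ^ p = 1 := by
    rintro _ ⟨x, hx, rfl⟩
    rw [← map_pow, ← map_one (compHom D a).rangeRestrict]
    exact congrArg _ (Subtype.ext (hexp0 _ hx))
  have hNne : N ≠ ⊥ := by
    intro hN
    refine hne ((Subgroup.eq_bot_iff_forall _).2 fun x hx => ?_)
    refine FaithfulSMul.eq_of_smul_eq_smul (α := V) fun v => ?_
    obtain ⟨f, rfl⟩ := D.decomp.2 v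
    simp only [one_smul, Finset.smul_sum]
    refine Finset.sum_congr rfl fun i _ => ?_
    obtain ⟨g, hg⟩ := D.transitive hirr a i
    have hga : g • a = i := hg
    have hmem : g⁻¹ * x * g ∈ N0 := by simpa using (inferInstance : N0.Normal).conj_mem x hx g⁻¹
    have h1 : (compHom D a).rangeRestrict ⟨_, hst hmem⟩ = 1 :=
      Subgroup.mem_bot.1 (hN ▸ hNmem ⟨_, hst hmem⟩ hmem)
    have hw : g⁻¹ • (f i : V) ∈ D.W a := by
      have h := D.smul_mem g⁻¹ (f i).2
      change _ ∈ D.W (g⁻¹ • i) at h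
      rwa [inv_smul_eq_iff.2 hga.symm] at h
    have h2 := congrArg (fun c : compGroup D a =>
      ((((c : (AddMonoid.End (D.W a))ˣ)) • (⟨_, hw⟩ : D.W a) : D.W a) : V)) h1
    change (g⁻¹ * x * g) • g⁻¹ • (f i : V) = (((1 : (AddMonoid.End (D.W a))ˣ) • (⟨_, hw⟩ : D.W a) : D.W a) : V) at h2
    rw [one_smul] at h2
    rwa [mul_smul, mul_smul, smul_inv_smul, smul_left_cancel_iff] at h2
  have hKq : Nat.card S.K = q := S.card_K.trans hq.symm
  -- `N` lies in `Z`
  have hjoin : (∀ x ∈ N, ∀ z ∈ S.Z, x * z = z * x) → N ≤ S.Z := by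
    intro hcz
    have h := S.zMax (S.Z ⊔ N) inferInstance (fun x hx y hy => ?_) le_sup_left
    · exact h ▸ le_sup_right
    have hcl : S.Z ⊔ N = Subgroup.closure ((S.Z : Set (compGroup D a)) ∪ N) := by
      rw [Subgroup.closure_union, Subgroup.closure_eq, Subgroup.closure_eq]
    haveI : IsMulCommutative ↥(Subgroup.closure ((S.Z : Set (compGroup D a)) ∪ N)) :=
      Subgroup.isMulCommutative_closure (by
        rintro u (hu | hu) w (hw | hw)
        · exact S.zComm u hu w hw
        · exact (hcz w hw u hu).symm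
        · exact hcz u hu w hw
        · exact hNcomm u hu w hw)
    rw [hcl] at hx hy
    exact congrArg Subtype.val
      (IsMulCommutative.is_comm.comm (⟨x, hx⟩ : Subgroup.closure ((S.Z : Set (compGroup D a)) ∪ N)) ⟨y, hy⟩)
  have hpz : p ∣ Nat.card S.Z := by
    by_contra hnd
    have hinf : ∀ c ∈ S.Z, c ∈ N → c = 1 := fun c hcZ hcN => by
      refine orderOf_eq_one_iff.1 ((Nat.dvd_prime hp.out).1 (orderOf_dvd_of_pow_eq_one (hNexp c hcN))
        |>.resolve_right fun e => hnd (e ▸ S.Z.orderOf_dvd_natCard hcZ))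
    have hNZ : N ≤ S.Z := hjoin fun x hx z hz => by
      have h1 : x * z * x⁻¹ * z⁻¹ = 1 := hinf _
        (mul_mem (S.zNormal.conj_mem z hz x) (inv_mem hz))
        (by rw [mul_assoc x, mul_assoc x]; exact mul_mem hx (by simpa using hNn.conj_mem _ (inv_mem hx) z))
      exact mul_inv_eq_iff_eq_mul.1 (mul_inv_eq_one.1 h1)
    obtain ⟨x, hx, hx1⟩ := N.bot_or_exists_ne_one.resolve_left hNne
    exact hx1 (hinf x (hNZ hx) hx)
  have hpq : p ≤ q - 1 := by
    refine Nat.le_of_dvd ?_ (hpz.trans (hKq ▸ S.z_dvd))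
    have : 1 < q := hKq ▸ Finite.one_lt_card
    omega
  obtain ⟨⟨ζ, hζ⟩, hζo⟩ := exists_prime_orderOf_dvd_card' (G := S.Z) p hpz
  rw [Subgroup.orderOf_mk] at hζo
  have hζ1 : ζ ≠ 1 := fun e => by rw [e, orderOf_one] at hζo; exact hp.out.one_lt.ne hζo
  have hlt : Nat.card S.K < p ^ 2 := hKq.symm ▸ hqp
  have hNZ : N ≤ S.Z := hjoin fun x hx z hz => by
    refine S.mem_cz.1 (mem_cz_of_comm S hp.out hlt hζ hζ1 (by rw [← hζo, pow_orderOf_eq_one]) ?_) z hz
    haveI : IsCyclic S.Z := S.isCyclicZ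
    obtain ⟨i, hi⟩ : ∃ i : ℕ, x * ζ * x⁻¹ = ζ ^ i := by
      let P : Subgroup S.Z := (powMonoidHom p : S.Z →* S.Z).ker
      have hle : Subgroup.zpowers (⟨ζ, hζ⟩ : S.Z) ≤ P := Subgroup.zpowers_le.2 (MonoidHom.mem_ker.2
        (Subtype.ext (show ζ ^ p = 1 by rw [← hζo, pow_orderOf_eq_one])))
      have heq : Subgroup.zpowers (⟨ζ, hζ⟩ : S.Z) = P := by
        refine Subgroup.eq_of_le_of_card_ge hle ?_
        rw [Nat.card_zpowers, Subgroup.orderOf_mk, hζo, IsCyclic.card_powMonoidHom_ker]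
        exact Nat.gcd_le_right _ hp.out.pos
      have hmem : (⟨x * ζ * x⁻¹, S.zNormal.conj_mem ζ hζ x⟩ : S.Z) ∈ P := MonoidHom.mem_ker.2
        (Subtype.ext (show (x * ζ * x⁻¹) ^ p = 1 by
          rw [conj_pow, ← hζo, pow_orderOf_eq_one, mul_one, mul_inv_cancel]))
      rw [← heq, ← mem_powers_iff_mem_zpowers] at hmem
      obtain ⟨i, hi⟩ := hmem
      exact ⟨i, (congrArg Subtype.val hi).symm⟩
    have hit : ∀ l : ℕ, x ^ l * ζ * (x ^ l)⁻¹ = ζ ^ i ^ l := by
      intro l
      induction l with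
      | zero => simp
      | succ l ih =>
        rw [pow_succ' i, pow_mul, ← hi, conj_pow, ← ih, pow_succ' x]
        group
    have h1 := hit p
    rw [hNexp x hx, one_mul, inv_one, mul_one] at h1
    have h2 : i ^ p ≡ 1 [MOD p] := by
      have := pow_eq_pow_iff_modEq.1 (show ζ ^ (i ^ p) = ζ ^ 1 by rw [← h1, pow_one])
      rwa [hζo] at this
    rw [← ZMod.natCast_eq_natCast_iff, Nat.cast_pow, ZMod.pow_card, ZMod.natCast_eq_natCast_iff] at h2
    rw [← pow_one ζ]
    have h3 : ζ ^ i = ζ ^ 1 := pow_eq_pow_iff_modEq.2 (by rw [hζo]; exact h2)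
    rw [← hi, pow_one] at h3
    rw [pow_one]
    exact mul_inv_eq_iff_eq_mul.1 h3
  obtain ⟨s, A, j, ⟨hj, hjm⟩, hs3, hG, hA, hpA⟩ := kernel_count hirr D a S.Z S.cz
    (fun c hc z hz => S.mem_cz.1 hc z hz) (S.le.trans S.le_cz) N0 hexp0 hne hfix
    (fun g hg => hNZ (hNmem g hg))
    (fun c ζ' h h1 h2 h3 => mem_cz_of_comm S hp.out hlt h h1 h2 h3)
  have hrel : S.Z.relIndex S.cz = S.rad ^ 2 * S.outer := by
    refine Nat.eq_of_mul_eq_mul_right (Nat.card_pos (α := S.Z)) ?_
    rw [Subgroup.relIndex,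
      ← Nat.card_congr (Subgroup.subgroupOfEquivOfLe (S.le.trans S.le_cz)).toEquiv,
      Subgroup.index_mul_card, S.card_cz,
      Nat.card_congr (Subgroup.subgroupOfEquivOfLe (S.le.trans S.le_cz)).toEquiv]
    ring
  rw [hrel] at hG
  have hd : S.cz.index ^ j ≤ S.deg ^ j := Nat.pow_le_pow_left S.index_cz_le j
  refine narrow_case h53 S.deg_pos (by omega) hqp hq2 hm hj hjm hs3 hn' ?_ hmw ?_ ?_
  · calc p ≤ Nat.card S.Z := Nat.le_of_dvd Nat.card_pos hpz
      _ ≤ S.cz.index * k (compGroup D a) := card_le_index_centralizer_mul S.Z S.cz (fun c hc =>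
          Subgroup.mem_centralizer_iff.2 fun z hz => (S.mem_cz.1 hc z hz).symm)
      _ ≤ S.deg * (m * k H) := Nat.mul_le_mul S.index_cz_le (k_comp_le hirr D a)
      _ = _ := by ring
  · exact hpA.trans (hA.trans (Nat.mul_le_mul_right _ (Nat.mul_le_mul_left _ hd)))
  · refine (cancel ((s * S.deg ^ j) * (s * S.deg ^ j * k H)) (by omega) (hG.trans ?_)).trans (le_of_eq ?_)
    · calc s * S.cz.index ^ j * (S.rad ^ 2 * S.outer) ^ m * A
          ≤ s * S.deg ^ j * (S.rad ^ 2 * S.outer) ^ m * (s * S.deg ^ j * k H) :=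
            Nat.mul_le_mul (Nat.mul_le_mul_right _ (Nat.mul_le_mul_left _ hd))
              (hA.trans (Nat.mul_le_mul_right _ (Nat.mul_le_mul_left _ hd)))
        _ = _ := by ring
    · ring

end CfsgLib.Core.ClassNumber.FittingIndex
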