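import Cfsg.Agent.Lib.Core.ClassNumber.Main
import Cfsg.Agent.Lib.Core.ClassNumber.FittingIndexLinear
import Cfsg.Agent.Lib.Core.Nilpotent

/-!
The class number of a soluble group against a prime dividing the index of its Fitting subgroup.
-/

set_option autoImplicit false
set_option linter.all false

universe u

namespace CfsgLib.Core.ClassNumber.FittingIndex

open MulAction CfsgLib.RegOrbit CfsgLib.Core.ClassNumber Cfsg
open scoped IsMulCommutative

variable {G : Type u} [Group G] [Finite G]

/-- Two normal subgroups with trivial intersection. -/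
theorem index_fitting_dvd (N N' : Subgroup G) [N.Normal] [N'.Normal] (h : N ⊓ N' = ⊥) :
    (fittingSubgroup G).index ∣ (fittingSubgroup (G ⧸ N)).index * (fittingSubgroup (G ⧸ N')).index := by
  let F1 := (fittingSubgroup (G ⧸ N)).comap (QuotientGroup.mk' N)
  let F2 := (fittingSubgroup (G ⧸ N')).comap (QuotientGroup.mk' N')
  haveI : F1.Normal := Subgroup.Normal.comap inferInstance _
  haveI : F2.Normal := Subgroup.Normal.comap inferInstance _
  have hnil : Group.IsNilpotent (F1 ⊓ F2 : Subgroup G) := by
    haveI := isNilpotent_fittingSubgroup (G ⧸ N)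
    haveI := isNilpotent_fittingSubgroup (G ⧸ N')
    let f : (F1 ⊓ F2 : Subgroup G) →* fittingSubgroup (G ⧸ N) × fittingSubgroup (G ⧸ N') :=
      MonoidHom.prod
        (((QuotientGroup.mk' N).comp (F1 ⊓ F2 : Subgroup G).subtype).codRestrict _ fun x => x.2.1)
        (((QuotientGroup.mk' N').comp (F1 ⊓ F2 : Subgroup G).subtype).codRestrict _ fun x => x.2.2)
    refine Subgroup.isNilpotent_of_ker_le_center f ?_
    intro x hx
    have hx' := MonoidHom.mem_ker.1 hx
    have h1 : (x : G) ∈ N := (QuotientGroup.eq_one_iff _).1 (congrArg Subtype.val (congrArg Prod.fst hx'))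
    have h2 : (x : G) ∈ N' := (QuotientGroup.eq_one_iff _).1 (congrArg Subtype.val (congrArg Prod.snd hx'))
    have h3 : (x : G) ∈ N ⊓ N' := ⟨h1, h2⟩
    rw [h, Subgroup.mem_bot] at h3
    rw [show x = 1 from Subtype.ext h3]
    exact one_mem _
  refine (Subgroup.index_dvd_of_le (le_fittingSubgroup hnil)).trans ?_
  rw [← Subgroup.relIndex_mul_index (inf_le_left : F1 ⊓ F2 ≤ F1), Subgroup.inf_relIndex_left, mul_comm]
  refine mul_dvd_mul ?_ ?_
  · rw [Subgroup.index_comap_of_surjective _ (QuotientGroup.mk'_surjective N)]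
  · refine (Subgroup.relIndex_dvd_index_of_normal F2 F1).trans ?_
    rw [Subgroup.index_comap_of_surjective _ (QuotientGroup.mk'_surjective N')]

theorem index_fitting_quotient_frattini :
    (fittingSubgroup (G ⧸ frattini G)).index = (fittingSubgroup G).index := by
  rw [fittingSubgroup_quotient_frattini, Subgroup.index_map_eq _ (QuotientGroup.mk'_surjective _)]
  rw [QuotientGroup.ker_mk']
  exact frattini_le_fittingSubgroup

theorem three_le_k (h : (fittingSubgroup G).index ≠ 1) : 3 ≤ k G := by
  by_contra hk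
  obtain ⟨-, h2⟩ := card_le_six (G := G) (by omega)
  refine h ?_
  haveI : Group.IsNilpotent G := by
    have hc : Nat.card G = 1 ∨ Nat.card G = 2 := by
      have := h2 (by omega)
      have := Nat.card_pos (α := G)
      omega
    rcases hc with hc | hc
    · haveI := (Nat.card_eq_one_iff_unique.1 hc).1
      infer_instance
    · haveI : Fact (Nat.Prime 2) := ⟨Nat.prime_two⟩
      exact (IsPGroup.of_card (n := 1) (by rw [hc, pow_one])).isNilpotent
  rw [fittingSubgroup_eq_top, Subgroup.index_top]

theorem pow_nine_ge : ∀ p < 48, 2 ≤ p → 2 ^ p ≤ p ^ 9 := by decide +kernel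

/-- The bound, by induction on the order. -/
theorem bound_aux : ∀ (n : ℕ) (G : Type u) [Group G] [Finite G] [Group.IsSolvable G] (p : ℕ), p.Prime →
    Nat.card G = n → p ∣ (fittingSubgroup G).index → (p : ℝ) ≤ 3 * Real.logb 2 p * k G := by
  intro n
  induction n using Nat.strong_induction_on with
  | _ n ih =>
    intro G _ _ _ p hp hn hdvd
    classical
    haveI : Fact p.Prime := ⟨hp⟩
    have hidx1 : (fittingSubgroup G).index ≠ 1 := fun h => hp.not_dvd_one (h ▸ hdvd)
    have hL1 : (1 : ℝ) ≤ Real.logb 2 p := by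
      simpa using natCast_le_logb (p := p) (c := 1) (by simpa using hp.two_le)
    by_cases h53 : p < 53
    · have hnp : p ≠ 48 ∧ p ≠ 49 ∧ p ≠ 50 ∧ p ≠ 51 ∧ p ≠ 52 := by
        refine ⟨?_, ?_, ?_, ?_, ?_⟩ <;> intro h <;> subst h <;> norm_num at hp
      have h9 := le_mul_logb (p := p) (c := 9) hp.pos (pow_nine_ge p (by omega) hp.two_le)
      have h3 : (3 : ℝ) ≤ k G := by exact_mod_cast three_le_k hidx1
      push_cast at h9
      nlinarith
    push Not at h53
    by_contra hbad
    have hquot : ∀ N : Subgroup G, [N.Normal] → N ≠ ⊥ → ¬ p ∣ (fittingSubgroup (G ⧸ N)).index := by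
      intro N _ hne hd
      have hlt : Nat.card (G ⧸ N) < n := by
        rw [← Subgroup.index_eq_card, ← hn, ← N.card_mul_index]
        refine lt_mul_of_one_lt_left (Nat.pos_of_ne_zero Subgroup.index_ne_zero_of_finite) ?_
        exact (Subgroup.one_lt_card_iff_ne_bot N).2 hne
      refine hbad ((ih _ hlt (G ⧸ N) p hp rfl hd).trans (mul_le_mul_of_nonneg_left ?_ (by linarith)))
      exact_mod_cast k_le_of_surjective (QuotientGroup.mk' N) (QuotientGroup.mk'_surjective N)
    have hΦ : frattini G = ⊥ := by
      by_contra h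
      exact hquot (frattini G) h (index_fitting_quotient_frattini (G := G) ▸ hdvd)
    have two : ∀ N N' : Subgroup G, [N.Normal] → [N'.Normal] → N ≠ ⊥ → N' ≠ ⊥ → N ⊓ N' = ⊥ → False := by
      intro N N' _ _ hne hne' h
      rcases hp.dvd_mul.1 (hdvd.trans (index_fitting_dvd N N' h)) with h1 | h1
      · exact hquot N hne h1
      · exact hquot N' hne' h1
    haveI : Nontrivial G := Finite.one_lt_card_iff_nontrivial.1 (by
      have h1 := Subgroup.index_dvd_card (fittingSubgroup G)
      have := Nat.le_of_dvd Nat.card_pos (hdvd.trans h1)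
      have := hp.one_lt
      omega)
    obtain ⟨N, hN, hNne, -, hNmin⟩ := CfsgLib.Core.exists_minimal_normal_le' (⊤ : Subgroup G) top_ne_bot
    haveI := hN
    obtain ⟨r, hr, hrN, hNc, hNexp⟩ := CfsgLib.Core.isPGroup_of_minimal_normal N inferInstance hNne hNmin
    haveI := hNc
    haveI : Fact r.Prime := ⟨hr⟩
    obtain ⟨M, hM, hNM⟩ : ∃ M : Subgroup G, IsCoatom M ∧ ¬ N ≤ M := by
      by_contra h
      push Not at h
      exact hNne (le_bot_iff.1 (hΦ ▸ le_iInf₂ (f := fun M (_ : IsCoatom M) => M) h))
    have htop : M ⊔ N = ⊤ := hM.2 _ (lt_of_le_of_ne le_sup_left fun h => hNM (h ▸ le_sup_right))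
    have hnormal : ∀ U : Subgroup G, U ≤ N → (∀ g ∈ M, ∀ w ∈ U, g * w * g⁻¹ ∈ U) → U.Normal := by
      intro U hUN key
      refine ⟨fun w hw g => ?_⟩
      have hg : g ∈ M ⊔ N := htop ▸ Subgroup.mem_top g
      rw [Subgroup.mem_sup_of_normal_right] at hg
      obtain ⟨x, hx, v, hv, rfl⟩ := hg
      have e : v * w = w * v := congrArg Subtype.val (hNc.is_comm.comm ⟨v, hv⟩ ⟨w, hUN hw⟩)
      have := key x hx w hw
      convert this using 1
      calc x * v * w * (x * v)⁻¹ = x * (v * w) * v⁻¹ * x⁻¹ := by group
        _ = x * w * x⁻¹ := by rw [e]; group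
    haveI hinfN : (N ⊓ M).Normal := hnormal _ inf_le_left fun g hg w hw =>
      Subgroup.mem_inf.2 ⟨hN.conj_mem w hw.1 g, M.mul_mem (M.mul_mem hg hw.2) (M.inv_mem hg)⟩
    have hinf : N ⊓ M = ⊥ := (hNmin _ hinfN inf_le_left).resolve_right fun h => hNM (inf_eq_left.1 h)
    have hcompl : N.IsComplement' M := Subgroup.isComplement'_of_disjoint_and_mul_eq_univ
      (disjoint_iff.2 hinf) (by rw [← Subgroup.normal_mul, sup_comm, htop]; rfl)
    let C : Subgroup G := M ⊓ Subgroup.centralizer (N : Set G)
    have hC : C = ⊥ := by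
      by_contra hC
      have hCn : C.Normal := by
        refine ⟨fun w hw g => ?_⟩
        have hg : g ∈ M ⊔ N := htop ▸ Subgroup.mem_top g
        rw [Subgroup.mem_sup_of_normal_right] at hg
        obtain ⟨x, hx, v, hv, rfl⟩ := hg
        have e : v * w = w * v := Subgroup.mem_centralizer_iff.1 hw.2 v hv
        have h1 : x * v * w * (x * v)⁻¹ = x * w * x⁻¹ := by
          calc x * v * w * (x * v)⁻¹ = x * (v * w) * v⁻¹ * x⁻¹ := by group
            _ = x * w * x⁻¹ := by rw [e]; group
        rw [h1]
        exact Subgroup.mem_inf.2 ⟨M.mul_mem (M.mul_mem hx hw.1) (M.inv_mem hx),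
          (inferInstance : (Subgroup.centralizer (N : Set G)).Normal).conj_mem w hw.2 x⟩
      haveI := hCn
      exact two N C hNne hC (le_bot_iff.1 (hinf ▸ inf_le_inf_left N inf_le_left))
    letI := conjAction N M
    haveI : Finite (Additive N) := inferInstanceAs (Finite N)
    have hfix : ∀ h : M, (∀ v : Additive N, h • v = v) → h = 1 := by
      intro h hh
      have hmem : (h : G) ∈ C := ⟨h.2, Subgroup.mem_centralizer_iff.2 fun v hv => by
        have e : (h : G) * v * (h : G)⁻¹ = v :=
          congrArg (fun w : Additive N => ((Additive.toMul w : N) : G)) (hh (Additive.ofMul ⟨v, hv⟩))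
        exact (mul_inv_eq_iff_eq_mul.1 e).symm⟩
      rw [hC, Subgroup.mem_bot] at hmem
      exact Subtype.ext hmem
    haveI : FaithfulSMul M (Additive N) := ⟨fun {g h} e => by
      have := hfix (h⁻¹ * g) fun v => by rw [mul_smul, e, inv_smul_smul]
      exact (inv_mul_eq_one.1 this).symm⟩
    have hirr : Irred M (Additive N) := by
      refine ⟨?_, fun U hU => ?_⟩
      · exact Finite.one_lt_card_iff_nontrivial.1 ((Subgroup.one_lt_card_iff_ne_bot N).2 hNne)
      let U' : Subgroup G := (AddSubgroup.toSubgroup' U).map N.subtype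
      haveI hU'n : U'.Normal := hnormal U' (Subgroup.map_subtype_le _) fun g hg w hw => by
        obtain ⟨w, hw, rfl⟩ := hw
        exact ⟨_, hU ⟨g, hg⟩ (Additive.ofMul w) hw, rfl⟩
      rcases hNmin U' hU'n (Subgroup.map_subtype_le _) with h | h
      · left
        refine (AddSubgroup.eq_bot_iff_forall _).2 fun w hw => ?_
        have : ((Additive.toMul w : N) : G) ∈ U' := ⟨Additive.toMul w, hw, rfl⟩
        rw [h, Subgroup.mem_bot] at this
        exact congrArg Additive.ofMul (Subtype.ext this : Additive.toMul w = 1)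
      · right
        refine eq_top_iff.2 fun w _ => ?_
        have : ((Additive.toMul w : N) : G) ∈ U' := h.symm ▸ (Additive.toMul w).2
        obtain ⟨y, hy, hye⟩ := this
        rw [show w = Additive.ofMul y from congrArg Additive.ofMul (Subtype.ext hye.symm : Additive.toMul w = y)]
        exact hy
    -- a normal subgroup of exponent `p` in the complement
    have hpM : p ∣ Nat.card M := by
      rw [← hcompl.symm.index_eq_card]
      haveI : Group.IsNilpotent N := hrN.isNilpotent
      exact hdvd.trans (Subgroup.index_dvd_of_le (le_fittingSubgroup inferInstance))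
    have hFM : ¬ p ∣ (fittingSubgroup M).index := by
      have h := hquot N hNne
      rwa [← map_equiv_fittingSubgroup hcompl.symm.QuotientMulEquiv.symm,
        Subgroup.index_map_of_bijective (MulEquiv.bijective _)] at h
    have hpF : p ∣ Nat.card (fittingSubgroup M) := by
      rw [← Subgroup.card_mul_index (fittingSubgroup M)] at hpM
      exact (hp.dvd_mul.1 hpM).resolve_right hFM
    haveI := isNilpotent_fittingSubgroup M
    obtain ⟨Q⟩ := (Sylow.nonempty : Nonempty (Sylow p (fittingSubgroup M)))
    haveI : (Q : Subgroup (fittingSubgroup M)).Characteristic := Q.characteristic_of_normal inferInstance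
    let P : Subgroup M := (Q : Subgroup (fittingSubgroup M)).map (fittingSubgroup M).subtype
    haveI : P.Normal := inferInstanceAs ((Q : Subgroup (fittingSubgroup M)).map (fittingSubgroup M).subtype).Normal
    have hPne : P ≠ ⊥ := by
      intro h
      have h1 := Q.dvd_card_of_dvd_card hpF
      rw [(Subgroup.map_eq_bot_iff_of_injective _ (fittingSubgroup M).subtype_injective).1 h,
        Subgroup.card_bot] at h1
      exact hp.not_dvd_one h1
    obtain ⟨N0, hN0, hN0ne, hN0P, hN0min⟩ := CfsgLib.Core.exists_minimal_normal_le' P hPne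
    haveI := hN0
    obtain ⟨r', hr', hr'N, hN0c, hN0exp⟩ := CfsgLib.Core.isPGroup_of_minimal_normal N0 inferInstance hN0ne hN0min
    obtain rfl : r' = p := by
      obtain ⟨x, hx, hx1⟩ := N0.bot_or_exists_ne_one.resolve_left hN0ne
      haveI := Fact.mk hr'
      have h1 : orderOf x = r' := orderOf_eq_prime (hN0exp x hx) hx1
      obtain ⟨c, hc⟩ := IsPGroup.iff_card.1 (Q.isPGroup'.map (fittingSubgroup M).subtype : IsPGroup p P)
      have h2 := h1 ▸ P.orderOf_dvd_natCard (hN0P hx)
      rw [hc] at h2
      exact (Nat.prime_dvd_prime_iff_eq hr' hp).1 (hr'.dvd_of_dvd_pow h2)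
    haveI := hN0c
    exact hbad (linear_fitting hr (V := Additive N) (H := M)
      (fun v => congrArg Additive.ofMul (show (Additive.toMul v) ^ r = 1 from Subtype.ext (by
        rw [Subgroup.coe_pow]; exact hNexp _ (Additive.toMul v).2)))
      hirr h53 N0 (fun x hx y hy => congrArg Subtype.val (hN0c.is_comm.comm ⟨x, hx⟩ ⟨y, hy⟩))
      hN0exp hN0ne (k_add_orbits_le N M hcompl))

theorem class_number_bound_fitting (G : Type u) [Group G] [Finite G] [Group.IsSolvable G] (p : ℕ)
    [hp : Fact p.Prime] (h : p ∣ (fittingSubgroup G).index) :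
    (p : ℝ) / (3 * Real.logb 2 p) ≤ Nat.card (ConjClasses G) := by
  have hL1 : (1 : ℝ) ≤ Real.logb 2 p := by
    simpa using natCast_le_logb (p := p) (c := 1) (by simpa using hp.out.two_le)
  rw [div_le_iff₀ (by linarith), mul_comm]
  exact bound_aux (Nat.card G) G p hp.out rfl h

end CfsgLib.Core.ClassNumber.FittingIndex
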