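import Cfsg.Agent.Lib.Core.ClassNumber.Arith
import Cfsg.Agent.Lib.Core.ClassNumber.CentralCase

/-!
Classes and orbits of an irreducible soluble linear group.
-/

set_option autoImplicit false
set_option linter.all false

namespace CfsgLib.Core.ClassNumber

open MulAction CfsgLib.RegOrbit

universe u v

theorem prime_cases {p : ℕ} (hp : p.Prime) (h7 : 7 ≤ p) (h : p < 37) :
    p ∈ [7, 11, 13, 17, 19, 23, 29, 31] := by
  interval_cases p <;> first | (exfalso; revert hp; norm_num; done) | simp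

theorem small_m_bound {p M Q m s c : ℕ} (hs : s ≤ m.factorial) (hM : M ≤ c)
    (h : 117649 * p ^ 2 * (m.factorial ^ 2 * c ^ m) ≤ 691200 * Q ^ m) :
    117649 * p ^ 2 * (s ^ 2 * M ^ m) ≤ 691200 * Q ^ m :=
  le_trans (Nat.mul_le_mul_left _ (Nat.mul_le_mul (Nat.pow_le_pow_left hs 2) (Nat.pow_le_pow_left hM m))) h

theorem line_bound {p m s : ℕ} (hp : 7 ≤ p) (h : m = 2 ∨ m = 3 ∨ (4 ≤ m ∧ 11 ≤ p))
    (hs3 : s ^ 3 * 24 ≤ 24 ^ m) (hsf : s ≤ m.factorial) :
    117649 * p ^ 2 * (s ^ 2 * 1 ^ m) ≤ 691200 * p ^ m := by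
  rcases h with rfl | rfl | ⟨h4, h11⟩
  · exact small_m_bound hsf le_rfl (by simp [Nat.factorial]; nlinarith)
  · refine small_m_bound hsf le_rfl ?_
    simp [Nat.factorial]
    nlinarith [Nat.mul_le_mul_left (p ^ 2) hp]
  · refine cube_step (m0 := 4) (by norm_num) h4 hs3 ?_ ?_
    · have c : 117649 ^ 3 * 576 ^ 3 ≤ 691200 ^ 3 * 11 ^ 6 := by norm_num
      calc (117649 * p ^ 2) ^ 3 * 576 ^ (4 - 1) * (1 ^ 3) ^ 4 = p ^ 6 * (117649 ^ 3 * 576 ^ 3) := by
            rw [mul_pow, ← pow_mul, one_pow, one_pow, mul_one]; ring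
        _ ≤ p ^ 6 * (691200 ^ 3 * p ^ 6) :=
            Nat.mul_le_mul_left _ (c.trans (Nat.mul_le_mul_left _ (Nat.pow_le_pow_left h11 6)))
        _ = 691200 ^ 3 * (p ^ 3) ^ 4 := by ring
    · exact le_trans (by norm_num) (Nat.pow_le_pow_left h11 3)

theorem plane_bound {p m s M : ℕ} (hp : 23 ≤ p) (hm : 2 ≤ m) (hM : M ≤ 24)
    (hs3 : s ^ 3 * 24 ≤ 24 ^ m) (hsf : s ≤ m.factorial) :
    117649 * p ^ 2 * (s ^ 2 * M ^ m) ≤ 691200 * (p ^ 2) ^ m := by
  rcases (show m = 2 ∨ m = 3 ∨ 4 ≤ m by omega) with rfl | rfl | h4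
  · refine small_m_bound hsf hM ?_
    simp [Nat.factorial]
    nlinarith [Nat.mul_le_mul_left (p ^ 2) (Nat.pow_le_pow_left hp 2)]
  · refine small_m_bound hsf hM ?_
    have c : 117649 * (Nat.factorial 3 ^ 2 * 24 ^ 3) ≤ 691200 * 23 ^ 4 := by norm_num [Nat.factorial_succ]
    calc 117649 * p ^ 2 * (Nat.factorial 3 ^ 2 * 24 ^ 3) = p ^ 2 * (117649 * (Nat.factorial 3 ^ 2 * 24 ^ 3)) := by ring
      _ ≤ p ^ 2 * (691200 * p ^ 4) :=
          Nat.mul_le_mul_left _ (c.trans (Nat.mul_le_mul_left _ (Nat.pow_le_pow_left hp 4)))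
      _ = 691200 * (p ^ 2) ^ 3 := by ring
  · refine le_trans (Nat.mul_le_mul_left _ (Nat.mul_le_mul_left _ (Nat.pow_le_pow_left hM m))) ?_
    refine cube_step (m0 := 4) (by norm_num) h4 hs3 ?_ ?_
    · have c : 117649 ^ 3 * 576 ^ 3 * (24 ^ 3) ^ 4 ≤ 691200 ^ 3 * 23 ^ 18 := by norm_num
      calc (117649 * p ^ 2) ^ 3 * 576 ^ (4 - 1) * (24 ^ 3) ^ 4 = p ^ 6 * (117649 ^ 3 * 576 ^ 3 * (24 ^ 3) ^ 4) := by
            rw [mul_pow, ← pow_mul p]; ring
        _ ≤ p ^ 6 * (691200 ^ 3 * p ^ 18) :=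
            Nat.mul_le_mul_left _ (c.trans (Nat.mul_le_mul_left _ (Nat.pow_le_pow_left hp 18)))
        _ = 691200 ^ 3 * ((p ^ 2) ^ 3) ^ 4 := by ring
    · rw [← pow_mul]
      exact le_trans (by norm_num) (Nat.pow_le_pow_left hp (2 * 3))

set_option maxHeartbeats 1600000 in
/-- Classes plus orbits for an irreducible soluble linear group of degree at least two. -/
theorem linear_bound {V : Type u} [AddCommGroup V] [Finite V] {H : Type v} [Group H] [Finite H]
    [Group.IsSolvable H] [DistribMulAction H V] [FaithfulSMul H V] {p : ℕ} (hp : p.Prime) (h7 : 7 ≤ p)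
    (hexp : ∀ v : V, p • v = 0) (h2 : p ^ 2 ≤ Nat.card V) (hirr : Irred H V) :
    49 * p + 60 ≤ 60 * (k H + Nat.card (orbitRel.Quotient H V)) := by
  classical
  haveI : Finite (orbitRel.Quotient H V) := Quotient.finite _
  haveI : Nonempty (orbitRel.Quotient H V) := ⟨Quotient.mk'' 0⟩
  have ho : 1 ≤ Nat.card (orbitRel.Quotient H V) := Nat.card_pos
  have hVo := card_le_orbits_mul (H := H) (0 : V) smul_zero
  obtain ⟨m, D, a, hcard, hX⟩ := exists_primitive_component hirr hp hexp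
  obtain ⟨S⟩ := exists_setup hX
  haveI := finiteGroup (G := compGroup D a)
  haveI := S.zNormal
  have hm : 1 ≤ m := a.pos
  obtain ⟨s, A, ⟨hs3, hsf⟩, hG, hA, -⟩ :=
    card_le_mul_k hirr D a S.Z S.cz fun c hc z hz => S.mem_cz.1 hc z hz
  have hkX := k_comp_le hirr D a
  have hoW := multichoose_le_orbits hirr D a
  have hWo := card_le_orbits_mul (H := compGroup D a) (0 : D.W a) smul_zero
  have hz1 : Nat.card S.Z ∣ p ^ S.deg - 1 := S.card_K ▸ S.z_dvd
  have hzpos : 0 < Nat.card S.Z := Nat.card_pos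
  have hZidx : S.Z.index ≤ S.deg * (S.rad ^ 2 * S.outer) := by
    refine Nat.le_of_mul_le_mul_right ?_ hzpos
    rw [S.Z.index_mul_card]
    exact (card_eq_deg_mul S).trans (le_of_eq (by ring))
  have hH : Nat.card H ≤ s ^ 2 * (S.deg ^ 2 * (S.rad ^ 2 * S.outer)) ^ m * k H := by
    calc Nat.card H ≤ s * S.Z.index ^ m * (s * S.cz.index ^ m * k H) :=
          hG.trans (Nat.mul_le_mul_left _ hA)
      _ ≤ s * (S.deg * (S.rad ^ 2 * S.outer)) ^ m * (s * S.deg ^ m * k H) :=
          Nat.mul_le_mul (Nat.mul_le_mul_left _ (Nat.pow_le_pow_left hZidx m))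
            (Nat.mul_le_mul_right _ (Nat.mul_le_mul_left _ (Nat.pow_le_pow_left S.index_cz_le m)))
      _ = _ := by simp only [mul_pow, ← pow_mul]; ring
  have first : 117649 * p ^ 2 * (s ^ 2 * (S.deg ^ 2 * (S.rad ^ 2 * S.outer)) ^ m) ≤
      691200 * Nat.card (D.W a) ^ m → 49 * p + 60 ≤ 60 * (k H + Nat.card (orbitRel.Quotient H V)) := by
    intro h
    refine amgm_bound hH hVo ho (le_trans (by nlinarith) h2) (Nat.pos_of_ne_zero fun e => ?_) (hcard ▸ h)
    rw [e, zero_mul] at hH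
    exact absurd hH (not_le.2 Nat.card_pos)
  have hW := S.card_V
  have hrd : ∀ t : ℕ, t.Prime → t ∣ S.rad → t ∣ Nat.card S.Z := fun t ht h => S.prime_dvd_z ht h
  have h5 : S.deg = 1 → S.rad = 5 → 10 ≤ p := by
    intro hd he
    have h := (hrd 5 Nat.prime_five (by rw [he])).trans hz1
    rw [hd, pow_one] at h
    obtain ⟨c, hc⟩ := h
    omega
  have hbp : S.rad.Prime → S.outer ≤ (S.rad ^ 2 - 1) * S.rad := S.outer_le_of_prime
  have hb54 : 2 ≤ S.rad → S.outer ^ 12 * 24 ^ 4 ≤ S.rad ^ 54 := outer_pow_le S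
  rcases star_or_exceptional h7 S.deg_pos S.rad_pos S.rad_le_dim S.outer_eq_one hbp hb54 h5 with
    hex | ⟨hstar, -⟩
  swap
  · exact first (star_step h7 hm hs3 (hW ▸ hstar))
  obtain ⟨hd1, hex⟩ := hex
  have hX1 : Nat.card (compGroup D a) = Nat.card S.Z * (S.rad ^ 2 * S.outer) := by
    rw [S.card_eq hd1]; ring
  rw [hd1, pow_one] at hW hz1
  rw [hW, hX1] at hWo
  rw [hd1, one_pow, one_mul, hW] at first
  have hzlt : Nat.card S.Z < p := by
    have := Nat.le_of_dvd (by omega) hz1; omega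
  have hoW2 : p ≤ 31 → 30 ≤ m → 49 * p + 60 ≤ 60 * (k H + Nat.card (orbitRel.Quotient H V)) :=
    fun hp31 hm30 => second_bound_large hp31 hm30 (by
      by_contra hc
      rw [show Nat.card (orbitRel.Quotient (compGroup D a) (D.W a)) - 1 = 0 by omega, zero_mul] at hWo
      have : p ≤ p ^ S.dim := Nat.le_self_pow S.dim_pos.ne' p
      omega) hoW
  have hQ2 : ∀ j, 1 ≤ j → 2 ≤ p ^ j := fun j hj =>
    le_trans hp.two_le (Nat.le_self_pow (by omega) p)
  have second : ∀ K N : ℕ, 0 < N → S.rad ^ 2 * S.outer ≤ N → K ≤ k (compGroup D a) →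
      Ok p m (Nat.card S.Z) N K (p ^ S.dim) →
      49 * p + 60 ≤ 60 * (k H + Nat.card (orbitRel.Quotient H V)) := fun K N hN hle hK hok =>
    second_bound hm (Nat.mul_pos hzpos hN) hK hkX hoW hWo (hQ2 _ S.dim_pos)
      (Nat.mul_le_mul_left _ hle) hok
  have hN := fun he8 : S.rad < 8 => layer_bound S.rad_pos he8 S.outer_eq_one hbp hb54
  have hkb : ∀ kb, kb + 1 ≤ k (compGroup D a ⧸ S.Z) → _ := fun kb h => S.k_bound hd1 (kb := kb) h
  rcases hex with ⟨he, hD⟩ | ⟨he, hD⟩ | ⟨he, hD, hp37⟩ | ⟨he, h4⟩ | ⟨he, hD, hp10⟩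
  · -- a single line in each component
    rw [he, S.outer_eq_one he, one_pow, one_mul, hD, pow_one] at first
    rw [hD, pow_one] at hW
    have hm2 : 2 ≤ m := by
      by_contra hc
      obtain rfl : m = 1 := by omega
      rw [hcard, hW, pow_one] at h2
      nlinarith
    by_cases hbig : m = 2 ∨ m = 3 ∨ (4 ≤ m ∧ 11 ≤ p)
    · exact first (line_bound h7 hbig hs3 hsf)
    obtain rfl : p = 7 := by
      have := prime_cases hp h7 (by omega)
      simp at this; omega
    rcases Nat.lt_or_ge m 30 with h30 | h30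
    · refine second (Nat.card S.Z) 1 one_pos (by rw [he, S.outer_eq_one he]; norm_num) ?_ ?_
      · exact le_trans (Nat.le_add_right _ _) (hkb 0 one_le_k)
      · rw [hD, pow_one]
        exact ok_one m h30 (by omega) _ hzlt hz1 hzpos
    · exact hoW2 (by norm_num) h30
  · -- two dimensions
    have hNc := S.k_bound_two hd1 hD he (by omega)
    have hN24 : S.rad ^ 2 * S.outer ≤ 24 := by rcases hNc with ⟨h, -⟩ | ⟨h, -⟩ <;> omega
    by_cases hbig : 23 ≤ p ∧ 2 ≤ m
    · rw [hD] at first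
      exact first (plane_bound hbig.1 hbig.2 hN24 hs3 hsf)
    have h2z : 2 ∣ Nat.card S.Z := hrd 2 Nat.prime_two (by rw [he])
    by_cases hsmall : p ≤ 23
    · rcases Nat.lt_or_ge m 30 with h30 | h30
      swap
      · exact hoW2 (by omega) h30
      have hpc : p ∈ [7, 11, 13, 17, 19, 23] := by
        have := prime_cases hp h7 (by omega)
        simp at this ⊢; omega
      have hok := ok_two p hpc m h30 hm (fun h => by omega) _ hzlt hz1 h2z hzpos
      rcases hNc with ⟨hNl, hk⟩ | ⟨hNl, hk⟩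
      · have hK : (5 * Nat.card S.Z + 1) / 2 ≤ k (compGroup D a) := by
          clear first second hbp hb54 hN hkb hok hoW hWo hH hA hG hs3
          omega
        exact second _ 12 (by norm_num) hNl hK (by rw [hD]; exact hok.1)
      · have hK : (8 * Nat.card S.Z + 1) / 2 ≤ k (compGroup D a) := by
          clear first second hbp hb54 hN hkb hok hoW hWo hH hA hG hs3
          omega
        exact second _ 24 (by norm_num) hNl.le hK (by rw [hD]; exact hok.2)
    obtain rfl : m = 1 := by omega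
    rw [Nat.multichoose_one_right] at hoW
    rw [one_mul] at hkX
    rw [hD] at hWo
    obtain ⟨n, hn⟩ : ∃ n, n = Nat.card (orbitRel.Quotient (compGroup D a) (D.W a)) - 1 := ⟨_, rfl⟩
    rw [← hn] at hWo
    have hn1 : 1 ≤ n := Nat.pos_of_ne_zero fun h => by
      rw [h, zero_mul] at hWo; nlinarith
    rcases hNc with ⟨hNl, hk⟩ | ⟨hNl, hk⟩
    · have := quad_twelve h7 hk (hWo.trans
        (Nat.succ_le_succ (Nat.mul_le_mul_left _ (Nat.mul_le_mul_left _ hNl))))
      omega
    · obtain ⟨j, hj⟩ := hz1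
      have h29 : 29 ≤ p := by
        by_contra hc
        have := prime_cases hp h7 (by omega)
        simp at this; omega
      have := quad_twentyfour h29 hj.symm (by omega : 4 * Nat.card S.Z ≤ k (compGroup D a))
        (hWo.trans (le_of_eq (by rw [hNl])))
      omega
  · rcases Nat.lt_or_ge m 30 with h30 | h30
    swap
    · exact hoW2 (by
        have := prime_cases hp h7 hp37
        simp at this; omega) h30
    have h3z : 3 ∣ Nat.card S.Z := hrd 3 Nat.prime_three (by rw [he])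
    have hpc : p ∈ [7, 13, 19, 31] := by
      have := prime_cases hp h7 hp37
      have h3p : 3 ∣ p - 1 := h3z.trans hz1
      simp at this ⊢; omega
    refine second (Nat.card S.Z + (4 * Nat.card S.Z + 2) / 3) 216 (by norm_num) (by have := hN (by omega); simpa [he] using this) ?_
      (by rw [hD]; exact ok_three p hpc m h30 hm _ hzlt hz1 h3z hzpos)
    have := hkb 4 (S.five_le_k_quot hd1 (by omega))
    rwa [hD, Nat.gcd_eq_right h3z] at this
  · have hp22 : p < 22 := by omega
    rcases Nat.lt_or_ge m 30 with h30 | h30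
    swap
    · exact hoW2 (by omega) h30
    have h2z : 2 ∣ Nat.card S.Z := hrd 2 Nat.prime_two (by rw [he]; norm_num)
    have hle : S.rad ^ 2 * S.outer ≤ 2832 := by have := hN (by omega); simpa [he] using this
    have hk := hkb 5 (S.six_le_k_quot hd1 he)
    rcases h4 with ⟨hD, -⟩ | ⟨hD, rfl⟩
    · have hpc : p ∈ [7, 11, 13, 17, 19] := by
        have := prime_cases hp h7 (by omega)
        simp at this ⊢; omega
      rw [hD] at hk
      exact second _ 2832 (by norm_num) hle hk (by rw [hD]; exact ok_four p hpc m h30 hm _ hzlt hz1 h2z hzpos)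
    · have hz26 : Nat.card S.Z ∈ [2, 6] := by
        generalize Nat.card S.Z = z at hz1 h2z hzlt hzpos ⊢
        interval_cases z <;> norm_num at *
      have hg : Nat.gcd (Nat.card S.Z) 5 = 1 := by
        simp at hz26
        rcases hz26 with h | h <;> rw [h] <;> rfl
      rw [hD, hg, Nat.div_one] at hk
      exact second (Nat.card S.Z + 5 * Nat.card S.Z) 2832 (by norm_num) hle (le_trans (by omega) hk)
        (by rw [hD]; exact ok_five m h30 hm _ hz26)
  · rcases Nat.lt_or_ge m 30 with h30 | h30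
    swap
    · exact hoW2 (by omega) h30
    obtain rfl : p = 7 := by
      have := prime_cases hp h7 (by omega)
      simp at this; omega
    have hz6 : Nat.card S.Z = 6 := by
      have h6 : 6 ∣ Nat.card S.Z := Nat.Coprime.mul_dvd_of_dvd_of_dvd (by norm_num : Nat.Coprime 2 3)
        (hrd 2 Nat.prime_two (by rw [he]; norm_num)) (hrd 3 Nat.prime_three (by rw [he]; norm_num))
      exact Nat.dvd_antisymm hz1 h6
    refine second (6 + 4) 39600 (by norm_num) (by have := hN (by omega); simpa [he] using this) ?_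
      (by rw [hz6, hD]; exact ok_six m h30 hm)
    have := hkb 4 (S.five_le_k_quot hd1 (by omega))
    rw [hz6, hD] at this
    norm_num at this
    exact this

end CfsgLib.Core.ClassNumber
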