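import Cfsg.Agent.Lib.Core.ClassNumber.LinearTheorem
import Cfsg.Agent.Lib.Core.MinNormal
import Cfsg.Agent.Lib.Core.Gaschutz

/-!
Soluble groups of order divisible by the square of a prime.
-/

set_option autoImplicit false
set_option linter.all false

namespace CfsgLib.Core.ClassNumber

open MulAction CfsgLib.RegOrbit
open scoped IsMulCommutative

universe u

variable {G : Type u} [Group G] [Finite G]

/-- Conjugation on an abelian normal subgroup, written additively. -/
@[reducible] def conjAction (N H : Subgroup G) [N.Normal] [IsMulCommutative N] :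
    DistribMulAction H (Additive N) where
  smul h v := Additive.ofMul (MulAut.conjNormal (h : G) (Additive.toMul v))
  one_smul v := by
    show Additive.ofMul (MulAut.conjNormal ((1 : H) : G) (Additive.toMul v)) = v
    rw [OneMemClass.coe_one, map_one]; rfl
  mul_smul h h' v := by
    show Additive.ofMul (MulAut.conjNormal ((h * h' : H) : G) (Additive.toMul v)) = _
    rw [Subgroup.coe_mul, map_mul]; rfl
  smul_zero h := congrArg Additive.ofMul (map_one _)
  smul_add h v w := congrArg Additive.ofMul (map_mul _ (Additive.toMul v) (Additive.toMul w))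

theorem conjAction_coe (N H : Subgroup G) [N.Normal] [IsMulCommutative N] :
    letI := conjAction N H
    ∀ (h : H) (n : N), ((Additive.toMul (h • Additive.ofMul n) : N) : G) = (h : G) * n * (h : G)⁻¹ :=
  fun h n => rfl

theorem k_eq_card_of_comm {R : Type*} [Group R] [Finite R] (h : ∀ a b : R, a * b = b * a) :
    Nat.card R ≤ k R := by
  refine Nat.card_le_card_of_injective ConjClasses.mk fun a b e => ?_
  obtain ⟨c, hc⟩ := isConj_iff.1 (ConjClasses.mk_eq_mk_iff_isConj.1 e)
  rw [← hc, h c a, mul_inv_cancel_right]

theorem k_add_orbits_le (N H : Subgroup G) [N.Normal] [IsMulCommutative N] (hc : N.IsComplement' H) :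
    letI := conjAction N H
    k H + Nat.card (orbitRel.Quotient H (Additive N)) ≤ k G + 1 := by
  letI := conjAction N H
  exact k_ge_semidirect N H hc
    (fun a ha b hb => congrArg Subtype.val (mul_comm (⟨a, ha⟩ : N) ⟨b, hb⟩))
    (MulEquiv.refl H) Additive.ofMul fun h n hcn => congrArg Additive.ofMul (Subtype.ext rfl)

/-- The case of an abelian group of operators. -/
theorem comm_action_bound {p : ℕ} (hp : 2 ≤ p) (N H : Subgroup G) [N.Normal] [IsMulCommutative N]
    (hc : N.IsComplement' H) (hN : p ^ 2 ≤ Nat.card N)
    (hcomm : ∀ a ∈ H, ∀ b ∈ H, ∀ n ∈ N, a * b * n * (a * b)⁻¹ = b * a * n * (b * a)⁻¹) :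
    49 * p ≤ 60 * k G := by
  classical
  letI := conjAction N H
  haveI : Finite (Additive N) := inferInstanceAs (Finite N)
  have h0 := k_add_orbits_le N H hc
  let φ := opHom H (Additive N)
  haveI : Finite φ.range := Finite.of_surjective _ φ.rangeRestrict_surjective
  have h1 : Nat.card φ.range ≤ k H := by
    refine le_trans (k_eq_card_of_comm ?_) (k_le_of_surjective _ φ.rangeRestrict_surjective)
    rintro ⟨_, a, rfl⟩ ⟨_, b, rfl⟩
    refine Subtype.ext (Units.ext (DFunLike.ext _ _ fun v => ?_))
    show a • b • v = b • a • v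
    rw [← mul_smul, ← mul_smul]
    refine Additive.toMul.injective (Subtype.ext ?_)
    obtain ⟨n, rfl⟩ := Additive.ofMul.surjective v
    rw [conjAction_coe, conjAction_coe]
    exact hcomm a a.2 b b.2 n n.2
  haveI : Finite (orbitRel.Quotient H (Additive N)) := Quotient.finite _
  haveI : Nonempty (orbitRel.Quotient H (Additive N)) := ⟨Quotient.mk'' 0⟩
  have h2 : Nat.card (orbitRel.Quotient φ.range (Additive N)) ≤ Nat.card (orbitRel.Quotient H (Additive N)) := by
    refine Nat.card_le_card_of_surjective
      (Quotient.lift (fun v => (Quotient.mk'' v : orbitRel.Quotient φ.range (Additive N)))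
        fun v w hvw => Quotient.sound' ?_) fun o => ?_
    · obtain ⟨g, rfl⟩ := hvw
      exact ⟨⟨φ g, g, rfl⟩, rfl⟩
    · obtain ⟨v, rfl⟩ := Quotient.exists_rep o
      exact ⟨Quotient.mk'' v, rfl⟩
  have h3 := card_le_orbits_mul (H := φ.range) (0 : Additive N) smul_zero
  rw [show Nat.card (Additive N) = Nat.card N from rfl] at h3
  have h4 : 1 ≤ Nat.card (orbitRel.Quotient H (Additive N)) := Nat.card_pos
  have h4 : p ^ 2 ≤ (Nat.card (orbitRel.Quotient H (Additive N)) - 1) * k H + 1 :=
    hN.trans (h3.trans (Nat.succ_le_succ (Nat.mul_le_mul (by omega) h1)))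
  generalize Nat.card (orbitRel.Quotient H (Additive N)) = o at h4 h0
  obtain ⟨y, rfl⟩ : ∃ y, o = y + 1 := ⟨o - 1, by
    rcases Nat.eq_zero_or_pos o with e | e
    · rw [e] at h4; simp at h4; nlinarith
    · omega⟩
  simp only [Nat.add_sub_cancel] at h4
  have h5 : (49 * p) ^ 2 ≤ (60 * (k H + y)) ^ 2 := by
    nlinarith [two_mul_le_add_sq (k H : ℤ) y, Nat.pow_le_pow_left hp 2]
  have h6 := (Nat.pow_le_pow_iff_left two_ne_zero).1 h5
  omega

/-- Few classes force a small group of operators. -/
theorem small_prime_bound {p o kH cH cN : ℕ} (hp : p ≤ 6) (hpp : p.Prime) (hkH : 1 ≤ kH) (ho : 2 ≤ o)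
    (h6 : kH ≤ 3 → cH ≤ 6 ∧ (kH ≤ 2 → cH ≤ 2)) (hN : p ^ 2 ≤ cN) (horb : cN ≤ (o - 1) * cH + 1) :
    49 * p + 60 ≤ 60 * (kH + o) := by
  rcases le_or_gt kH 3 with h | h
  · obtain ⟨h61, h62⟩ := h6 h
    have h1 : (o - 1) * cH ≤ (o - 1) * 6 := Nat.mul_le_mul_left _ h61
    have h2 : kH ≤ 2 → (o - 1) * cH ≤ (o - 1) * 2 := fun h => Nat.mul_le_mul_left _ (h62 h)
    have := hpp.two_le
    interval_cases p <;> simp_all <;> omega
  · omega

/-- Two elements conjugate a cyclic normal subgroup in commuting ways. -/
theorem conj_comm_of_cyclic (C : Subgroup G) [C.Normal] (x : G) (hx : C = Subgroup.zpowers x) (a b : G)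
    {n : G} (hn : n ∈ C) : a * b * n * (a * b)⁻¹ = b * a * n * (b * a)⁻¹ := by
  have hxC : x ∈ C := hx ▸ Subgroup.mem_zpowers x
  obtain ⟨i, hi⟩ := Subgroup.mem_zpowers_iff.1 (hx ▸ (inferInstance : C.Normal).conj_mem x hxC a)
  obtain ⟨j, hj⟩ := Subgroup.mem_zpowers_iff.1 (hx ▸ (inferInstance : C.Normal).conj_mem x hxC b)
  obtain ⟨l, rfl⟩ := Subgroup.mem_zpowers_iff.1 (hx ▸ hn)
  have e : ∀ (g : G) (t : ℤ), MulAut.conj g (x ^ t) = (MulAut.conj g x) ^ t := fun g t => map_zpow _ _ _
  show MulAut.conj (a * b) (x ^ l) = MulAut.conj (b * a) (x ^ l)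
  rw [e, e]
  congr 1
  show a * b * x * (a * b)⁻¹ = b * a * x * (b * a)⁻¹
  calc a * b * x * (a * b)⁻¹ = MulAut.conj a (b * x * b⁻¹) := by simp [mul_assoc]
    _ = (a * x * a⁻¹) ^ j := by rw [← hj, e]; rfl
    _ = (x ^ i) ^ j := by rw [hi]
    _ = (x ^ j) ^ i := by rw [← zpow_mul, ← zpow_mul, mul_comm]
    _ = (b * x * b⁻¹) ^ i := by rw [hj]
    _ = MulAut.conj b (a * x * a⁻¹) := by rw [← hi, e]; rfl
    _ = _ := by simp [mul_assoc]

/-- The bound, by induction on the order. -/
theorem bound_aux : ∀ (n : ℕ) (G : Type u) [Group G] [Finite G] [Group.IsSolvable G] (p : ℕ), p.Prime →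
    Nat.card G = n → p ^ 2 ∣ Nat.card G → 49 * p ≤ 60 * k G := by
  intro n
  induction n using Nat.strong_induction_on with
  | _ n ih =>
    intro G _ _ _ p hp hn hdvd
    classical
    haveI : Fact p.Prime := ⟨hp⟩
    have hp2 : 2 ≤ p := hp.two_le
    have hp0 : 0 < p := hp.pos
    by_contra hbad
    have hno : ∀ N : Subgroup G, N.Normal → N ≠ ⊥ → ¬ p ^ 2 ∣ N.index := by
      intro N hN hne hd
      have hlt : Nat.card (G ⧸ N) < n := by
        rw [← Subgroup.index_eq_card, ← hn, ← N.card_mul_index]
        refine lt_mul_of_one_lt_left (Nat.pos_of_ne_zero Subgroup.index_ne_zero_of_finite) ?_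
        exact (Subgroup.one_lt_card_iff_ne_bot N).2 hne
      exact hbad ((ih _ hlt (G ⧸ N) p hp rfl (Subgroup.index_eq_card N ▸ hd)).trans
        (Nat.mul_le_mul_left _ (k_le_of_surjective (QuotientGroup.mk' N) (QuotientGroup.mk'_surjective N))))
    -- minimal normal subgroups are elementary abelian `p`-groups
    have hmins : ∀ N : Subgroup G, N.Normal → N ≠ ⊥ →
        (∀ K : Subgroup G, K.Normal → K ≤ N → K = ⊥ ∨ K = N) →
        IsMulCommutative N ∧ (∀ x ∈ N, x ^ p = 1) ∧ ∃ a, 1 ≤ a ∧ Nat.card N = p ^ a := by
      intro N hN hne hmin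
      haveI := hN
      obtain ⟨r, hr, hrN, hc, hexp⟩ := CfsgLib.Core.isPGroup_of_minimal_normal N inferInstance hne hmin
      haveI : Fact r.Prime := ⟨hr⟩
      obtain ⟨a, ha⟩ := IsPGroup.iff_card.1 hrN
      have hrp : r = p := by
        by_contra hrp
        refine hno N hN hne ?_
        have hco : Nat.Coprime (p ^ 2) (Nat.card N) := by
          rw [ha]
          exact Nat.Coprime.pow 2 a ((Nat.coprime_primes hp hr).2 (Ne.symm hrp))
        rw [← N.card_mul_index] at hdvd
        exact hco.dvd_of_dvd_mul_left hdvd
      subst hrp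
      refine ⟨hc, hexp, a, Nat.pos_of_ne_zero fun h => hne (Subgroup.card_eq_one.1 (by rw [ha, h, pow_zero])), ha⟩
    haveI : Nontrivial G := Finite.one_lt_card_iff_nontrivial.1 (lt_of_lt_of_le
      (show 1 < p ^ 2 by nlinarith) (Nat.le_of_dvd Nat.card_pos hdvd))
    obtain ⟨N, hN, hNne, -, hNmin⟩ := CfsgLib.Core.exists_minimal_normal_le' (⊤ : Subgroup G) top_ne_bot
    haveI := hN
    obtain ⟨hNc, hNexp, a, ha1, haN⟩ := hmins N hN hNne hNmin
    haveI := hNc
    -- two minimal normal subgroups
    have two : ∀ N' : Subgroup G, N'.Normal → N' ≠ ⊥ →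
        (∀ K : Subgroup G, K.Normal → K ≤ N' → K = ⊥ ∨ K = N') → N' ⊓ N = ⊥ → False := by
      intro N' hN' hne' hmin' hdis
      haveI := hN'
      obtain ⟨hc', hexp', a', ha1', haN'⟩ := hmins N' hN' hne' hmin'
      have hdisj : Disjoint N N' := disjoint_iff.2 (by rw [inf_comm]; exact hdis)
      let V := N ⊔ N'
      have hcard : Nat.card V = Nat.card N * Nat.card N' := by
        have hi : N.relIndex (N ⊔ N') = Nat.card N' := by
          rw [sup_comm, Subgroup.relIndex_sup_right, ← Subgroup.inf_relIndex_right, inf_comm, hdis,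
            Subgroup.relIndex_bot_left]
        have hh := (N.subgroupOf V).index_mul_card
        rw [← hh, Nat.card_congr (Subgroup.subgroupOfEquivOfLe (le_sup_left : N ≤ V)).toEquiv, mul_comm]
        congr 1
      rw [haN, haN', ← pow_add] at hcard
      have hVN : p ^ a' ∣ N.index := by
        have h := Subgroup.card_subgroup_dvd_card V
        rw [hcard, ← N.card_mul_index, haN, pow_add] at h
        exact Nat.dvd_of_mul_dvd_mul_left (pow_pos hp0 _) h
      have hVN' : p ^ a ∣ N'.index := by
        have h := Subgroup.card_subgroup_dvd_card V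
        rw [hcard, ← N'.card_mul_index, haN', pow_add, mul_comm] at h
        exact Nat.dvd_of_mul_dvd_mul_left (pow_pos hp0 _) h
      have e1 : a' = 1 := by
        by_contra h
        exact hno N hN hNne ((pow_dvd_pow p (show 2 ≤ a' by omega)).trans hVN)
      have e2 : a = 1 := by
        by_contra h
        exact hno N' hN' hne' ((pow_dvd_pow p (show 2 ≤ a by omega)).trans hVN')
      subst e1 e2
      rw [pow_one] at haN haN'
      have hVcomm : IsMulCommutative V := by
        have hcl : V = Subgroup.closure ((N : Set G) ∪ N') := by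
          rw [Subgroup.closure_union, Subgroup.closure_eq, Subgroup.closure_eq]
        rw [hcl]
        refine Subgroup.isMulCommutative_closure ?_
        rintro x (hx | hx) y (hy | hy)
        · exact congrArg Subtype.val (hNc.is_comm.comm ⟨x, hx⟩ ⟨y, hy⟩)
        · exact Subgroup.commute_of_normal_of_disjoint N N' hN hN' hdisj x y hx hy
        · exact (Subgroup.commute_of_normal_of_disjoint N N' hN hN' hdisj y x hy hx).symm
        · exact congrArg Subtype.val (hc'.is_comm.comm ⟨x, hx⟩ ⟨y, hy⟩)
      haveI := hVcomm
      have hcop : (Nat.card V).Coprime V.index := by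
        rw [hcard]
        refine Nat.Coprime.pow_left _ ((Nat.Prime.coprime_iff_not_dvd hp).2 fun h => ?_)
        refine hno N hN hNne ?_
        rw [← Subgroup.relIndex_mul_index (le_sup_left : N ≤ V), pow_two]
        refine mul_dvd_mul ?_ h
        rw [Subgroup.relIndex, Subgroup.index_eq_card]
        have h1 := Subgroup.card_eq_card_quotient_mul_card_subgroup (N.subgroupOf V)
        rw [Nat.card_congr (Subgroup.subgroupOfEquivOfLe (le_sup_left : N ≤ V)).toEquiv, hcard, haN,
          show p ^ (1 + 1) = p * p by ring] at h1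
        exact ⟨1, by rw [mul_one]; exact (Nat.eq_of_mul_eq_mul_right hp0 h1).symm⟩
      obtain ⟨H, hH⟩ := Subgroup.exists_right_complement'_of_coprime (N := V) hcop
      have cyc : ∀ M : Subgroup G, Nat.card M = p → ∃ x, M = Subgroup.zpowers x := by
        intro M hM
        obtain ⟨x, hx, hx1⟩ := M.bot_or_exists_ne_one.resolve_left fun h => by
          rw [h, Subgroup.card_bot] at hM; omega
        refine ⟨x, (Subgroup.eq_of_le_of_card_ge (Subgroup.zpowers_le.2 hx) ?_).symm⟩
        rw [Nat.card_zpowers, hM]
        have hdx : orderOf x ∣ p := hM ▸ M.orderOf_dvd_natCard hx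
        rcases (Nat.dvd_prime hp).1 hdx with h | h
        · exact absurd (orderOf_eq_one_iff.1 h) hx1
        · exact h.ge
      obtain ⟨x, hx⟩ := cyc N haN
      obtain ⟨x', hx'⟩ := cyc N' haN'
      refine hbad (comm_action_bound hp2 V H hH (by rw [hcard]) fun g _ g' _ v hv => ?_)
      let T : Subgroup G := MonoidHom.eqLocus (MulAut.conj (g * g')).toMonoidHom (MulAut.conj (g' * g)).toMonoidHom
      have hle : V ≤ T := sup_le (fun w hw => conj_comm_of_cyclic N x hx g g' hw)
        (fun w hw => conj_comm_of_cyclic N' x' hx' g g' hw)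
      exact hle hv
    by_cases hfr : N ≤ frattini G
    · -- inside the Frattini subgroup
      have hsup : ∀ K : Subgroup G, K ⊔ N = ⊤ → K = ⊤ := fun K hK =>
        frattini_nongenerating (eq_top_iff.2 (hK ▸ sup_le_sup_left hfr K))
      have hpidx : p ∣ N.index := by
        by_contra h
        have hcop : (Nat.card N).Coprime N.index := by
          rw [haN]; exact Nat.Coprime.pow_left _ ((Nat.Prime.coprime_iff_not_dvd hp).2 h)
        obtain ⟨K, hK⟩ := Subgroup.exists_right_complement'_of_coprime (N := N) hcop
        have hKtop := hsup K (by rw [sup_comm]; exact hK.sup_eq_top)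
        exact hNne (by simpa [hKtop] using hK.disjoint.eq_bot)
      haveI : Nontrivial (G ⧸ N) := Finite.one_lt_card_iff_nontrivial.1 (by
        rw [← Subgroup.index_eq_card]
        exact lt_of_lt_of_le hp.one_lt (Nat.le_of_dvd (Nat.pos_of_ne_zero Subgroup.index_ne_zero_of_finite) hpidx))
      obtain ⟨L', hL', hL'ne, -, hL'min⟩ :=
        CfsgLib.Core.exists_minimal_normal_le' (⊤ : Subgroup (G ⧸ N)) top_ne_bot
      haveI := hL'
      obtain ⟨r, hr, hrL, -, -⟩ := CfsgLib.Core.isPGroup_of_minimal_normal L' inferInstance hL'ne hL'min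
      haveI : Fact r.Prime := ⟨hr⟩
      obtain ⟨c, hc⟩ := IsPGroup.iff_card.1 hrL
      have hc1 : 1 ≤ c := Nat.pos_of_ne_zero fun h => hL'ne (Subgroup.card_eq_one.1 (by rw [hc, h, pow_zero]))
      let L : Subgroup G := L'.comap (QuotientGroup.mk' N)
      haveI : L.Normal := hL'.comap _
      have hNL : N ≤ L := fun v hv => by
        show (QuotientGroup.mk' N) v ∈ L'
        rw [show (QuotientGroup.mk' N) v = 1 from (QuotientGroup.eq_one_iff v).2 hv]
        exact one_mem _
      have hmapL : L.map (QuotientGroup.mk' N) = L' :=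
        Subgroup.map_comap_eq_self_of_surjective (QuotientGroup.mk'_surjective N) L'
      have hLcard : Nat.card L = r ^ c * p ^ a := by
        have h1 := Subgroup.card_mul_index L
        have h2 : L.index = L'.index := Subgroup.index_comap_of_surjective _ (QuotientGroup.mk'_surjective N)
        have h3 := L'.card_mul_index
        rw [← Subgroup.index_eq_card, hc] at h3
        rw [h2, ← N.card_mul_index, haN, ← h3] at h1
        exact Nat.eq_of_mul_eq_mul_right (Nat.pos_of_ne_zero Subgroup.index_ne_zero_of_finite)
          (h1.trans (by ring))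
      have hrp : r = p := by
        by_contra hrp
        obtain ⟨R⟩ := (inferInstance : Nonempty (Sylow r L))
        have hsupR : Subgroup.normalizer (((R : Subgroup L).map L.subtype : Subgroup G) : Set G) ⊔ L = ⊤ :=
          Sylow.normalizer_sup_eq_top R
        have hRcard : Nat.card (R : Subgroup L) = r ^ c := by
          rw [R.card_eq_multiplicity, hLcard,
            Nat.factorization_mul (pow_ne_zero _ hr.ne_zero) (pow_ne_zero _ hp.ne_zero),
            Nat.factorization_pow, Nat.factorization_pow]
          simp [hr.factorization, hp.factorization, Finsupp.single_apply, Ne.symm hrp]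
        let R' : Subgroup G := (R : Subgroup L).map L.subtype
        have hRcard' : Nat.card R' = r ^ c := by
          rw [Subgroup.card_map_of_injective L.subtype_injective, hRcard]
        have hLsup : L ≤ R' ⊔ N := by
          refine le_of_eq (Subgroup.eq_of_le_of_card_ge (sup_le (Subgroup.map_subtype_le _) hNL) ?_).symm
          rw [hLcard]
          refine Nat.le_of_dvd Nat.card_pos (Nat.Coprime.mul_dvd_of_dvd_of_dvd ?_ ?_ ?_)
          · exact Nat.Coprime.pow c a ((Nat.coprime_primes hr hp).2 hrp)
          · rw [← hRcard']; exact Subgroup.card_dvd_of_le le_sup_left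
          · rw [← haN]; exact Subgroup.card_dvd_of_le le_sup_right
        have hnorm : Subgroup.normalizer (R' : Set G) = ⊤ := hsup _ (eq_top_iff.2 (hsupR ▸
          sup_le le_sup_left (hLsup.trans (sup_le (Subgroup.le_normalizer.trans le_sup_left) le_sup_right))))
        haveI : R'.Normal := Subgroup.normalizer_eq_top_iff.1 hnorm
        have hR'ne : R' ≠ ⊥ := fun h => by
          rw [h, Subgroup.card_bot] at hRcard'
          exact absurd hRcard' (Nat.one_lt_pow (by omega) hr.one_lt).ne
        obtain ⟨M, hM, hMne, hMR, hMmin⟩ := CfsgLib.Core.exists_minimal_normal_le' R' hR'ne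
        obtain ⟨-, -, b, hb, hbM⟩ := hmins M hM hMne hMmin
        have h1 := Subgroup.card_dvd_of_le hMR
        rw [hbM, hRcard'] at h1
        exact hrp (((Nat.prime_dvd_prime_iff_eq hp hr).1
          (hp.dvd_of_dvd_pow ((dvd_pow_self p (by omega)).trans h1)))).symm
      subst hrp
      obtain rfl : c = 1 := by
        by_contra h
        refine hno N hN hNne ((pow_dvd_pow r (show 2 ≤ c by omega)).trans ?_)
        rw [← hc, Subgroup.index_eq_card]
        exact Subgroup.card_subgroup_dvd_card L'
      rw [pow_one] at hLcard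
      have hLp : IsPGroup r L := IsPGroup.of_card (n := 1 + a) (by rw [hLcard, pow_add, pow_one])
      -- `N` is central in `L`
      have hcent : ∀ v ∈ N, ∀ w ∈ L, w * v = v * w := by
        let T : Subgroup G := N ⊓ Subgroup.centralizer (L : Set G)
        rcases hNmin T inferInstance inf_le_left with hT | hT
        · exfalso
          haveI : Nontrivial N := (Subgroup.nontrivial_iff_ne_bot N).2 hNne
          letI : MulAction L N :=
            { smul := fun w v => MulAut.conjNormal (w : G) v
              one_smul := fun v => by show MulAut.conjNormal ((1 : L) : G) v = v; simp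
              mul_smul := fun w w' v => by
                show MulAut.conjNormal ((w * w' : L) : G) v = MulAut.conjNormal (w : G) (MulAut.conjNormal (w' : G) v)
                simp }
          obtain ⟨v, hv, hv1⟩ := hLp.exists_fixed_point_of_prime_dvd_card_of_fixed_point (α := N)
            (by rw [haN]; exact dvd_pow_self r (by omega)) (a := (1 : N))
            (fun w => by show MulAut.conjNormal (w : G) (1 : N) = 1; simp)
          refine hv1 (Subtype.ext ?_)
          have hvT : (v : G) ∈ T := ⟨v.2, Subgroup.mem_centralizer_iff.2 fun w hw => ?_⟩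
          · rw [hT, Subgroup.mem_bot] at hvT; rw [hvT]; rfl
          · have := congrArg Subtype.val (hv ⟨w, hw⟩)
            exact mul_inv_eq_iff_eq_mul.1 this
        · intro v hv w hw
          have : v ∈ T := hT.symm ▸ hv
          exact Subgroup.mem_centralizer_iff.1 this.2 w hw
      obtain ⟨x, hxL, hxN⟩ : ∃ x ∈ L, x ∉ N := by
        by_contra h; push Not at h
        have := Subgroup.card_le_of_le (show L ≤ N from h)
        rw [hLcard, haN] at this
        have := Nat.le_mul_of_pos_left (r ^ a) hp0
        have : r ^ a * 2 ≤ r ^ a * r := Nat.mul_le_mul_left _ hp2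
        have : 0 < r ^ a := pow_pos hp0 a
        rw [mul_comm r] at *
        omega
      have hLsup : N ⊔ Subgroup.zpowers x = L := by
        refine Subgroup.eq_of_le_of_card_ge (sup_le hNL (Subgroup.zpowers_le.2 hxL)) ?_
        have h1 : Nat.card N ∣ Nat.card ↥(N ⊔ Subgroup.zpowers x) := Subgroup.card_dvd_of_le le_sup_left
        obtain ⟨t, ht⟩ := h1
        have ht1 : t ≠ 1 := fun e => hxN ((Subgroup.eq_of_le_of_card_ge
          (le_sup_left : N ≤ N ⊔ Subgroup.zpowers x) (by rw [ht, e, mul_one])).symm ▸
          Subgroup.mem_sup_right (Subgroup.mem_zpowers x))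
        have h2 : Nat.card ↥(N ⊔ Subgroup.zpowers x) ∣ Nat.card L :=
          Subgroup.card_dvd_of_le (sup_le hNL (Subgroup.zpowers_le.2 hxL))
        rw [ht, hLcard, haN, mul_comm r] at h2
        have h3 : t ∣ r := Nat.dvd_of_mul_dvd_mul_left (pow_pos hp0 a) h2
        rw [ht, hLcard, haN, mul_comm r, ((Nat.dvd_prime hp).1 h3).resolve_left ht1]
      have hLcomm : IsMulCommutative L := by
        rw [← hLsup]
        have hcl : N ⊔ Subgroup.zpowers x = Subgroup.closure ((N : Set G) ∪ {x}) := by
          rw [Subgroup.closure_union, Subgroup.closure_eq, ← Subgroup.zpowers_eq_closure]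
        rw [hcl]
        refine Subgroup.isMulCommutative_closure ?_
        rintro y (hy | hy) w (hw | hw)
        · exact congrArg Subtype.val (hNc.is_comm.comm ⟨y, hy⟩ ⟨w, hw⟩)
        · rw [Set.mem_singleton_iff.1 hw]; exact (hcent y hy x hxL).symm
        · rw [Set.mem_singleton_iff.1 hy]; exact hcent w hw x hxL
        · rw [Set.mem_singleton_iff.1 hy, Set.mem_singleton_iff.1 hw]
      haveI := hLcomm
      have hLidx : ¬ r ∣ L.index := by
        intro h
        refine hno N hN hNne ?_
        rw [← Subgroup.relIndex_mul_index hNL, pow_two]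
        refine mul_dvd_mul ?_ h
        have h1 := Subgroup.card_eq_card_quotient_mul_card_subgroup (N.subgroupOf L)
        rw [Nat.card_congr (Subgroup.subgroupOfEquivOfLe hNL).toEquiv, hLcard, haN] at h1
        rw [Subgroup.relIndex, Subgroup.index_eq_card, ← Nat.eq_of_mul_eq_mul_right (pow_pos hp0 a) h1]
      have hcop : (Nat.card L).Coprime L.index := by
        rw [hLcard, show r * r ^ a = r ^ (a + 1) by ring]
        exact Nat.Coprime.pow_left _ ((Nat.Prime.coprime_iff_not_dvd hp).2 hLidx)
      have hxp : x ^ r ≠ 1 := by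
        intro hx1
        obtain ⟨K, hK⟩ := CfsgLib.Core.Gaschutz.gaschutz_exists (K := N) (U := L) (A := Subgroup.zpowers x) hNL
          (by rw [haN]; exact Nat.Coprime.pow_left _ ((Nat.Prime.coprime_iff_not_dvd hp).2 hLidx))
          (by
            refine (Subgroup.eq_bot_iff_forall _).2 fun y ⟨hy, hyN⟩ => ?_
            by_contra hy1
            refine hxN ?_
            have hox : orderOf x = r := orderOf_eq_prime hx1 (fun e => hxN (e ▸ one_mem N))
            have hdy : orderOf y ∣ r := hox ▸ Nat.card_zpowers x ▸ (Subgroup.zpowers x).orderOf_dvd_natCard hy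
            have hoy : orderOf y = r :=
              ((Nat.dvd_prime hp).1 hdy).resolve_left fun h => hy1 (orderOf_eq_one_iff.1 h)
            have hzy : Subgroup.zpowers y = Subgroup.zpowers x := Subgroup.eq_of_le_of_card_ge
              (Subgroup.zpowers_le.2 hy) (by rw [Nat.card_zpowers, Nat.card_zpowers, hox, hoy])
            exact Subgroup.zpowers_le.2 hyN (hzy ▸ Subgroup.mem_zpowers x))
          hLsup
        have hKtop := hsup K (by rw [sup_comm]; exact hK.sup_eq_top)
        exact hNne (by simpa [hKtop] using hK.disjoint.eq_bot)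
      -- the `r`-th powers make up `N`
      let ψ : L →* L := powMonoidHom r
      let W : Subgroup G := ψ.range.map L.subtype
      haveI hWn : W.Normal := ⟨fun y hy g => by
        obtain ⟨_, ⟨w, rfl⟩, rfl⟩ := hy
        refine ⟨_, ⟨⟨g * w * g⁻¹, (inferInstance : L.Normal).conj_mem _ w.2 g⟩, rfl⟩, ?_⟩
        show ((⟨g * w * g⁻¹, (inferInstance : L.Normal).conj_mem _ w.2 g⟩ : L) ^ r : L).1 = g * ((w ^ r : L) : G) * g⁻¹
        rw [Subgroup.coe_pow, Subgroup.coe_pow, conj_pow]⟩
      have hker : N.subgroupOf L ≤ ψ.ker := fun v hv => Subtype.ext (by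
        show ((v ^ r : L) : G) = 1
        rw [Subgroup.coe_pow]; exact hNexp _ hv)
      have hWcard : Nat.card W ≤ r := by
        rw [Subgroup.card_map_of_injective L.subtype_injective, ← Subgroup.index_ker]
        refine le_trans (Nat.le_of_dvd (Nat.pos_of_ne_zero Subgroup.index_ne_zero_of_finite)
          (Subgroup.index_dvd_of_le hker)) ?_
        have h1 := (N.subgroupOf L).index_mul_card
        rw [Nat.card_congr (Subgroup.subgroupOfEquivOfLe hNL).toEquiv, hLcard, haN] at h1
        rw [Nat.eq_of_mul_eq_mul_right (pow_pos hp0 a) h1]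
      have hxW : x ^ r ∈ W := ⟨_, ⟨⟨x, hxL⟩, rfl⟩, rfl⟩
      have hWne : W ≠ ⊥ := fun h => hxp (Subgroup.mem_bot.1 (h ▸ hxW))
      have ha : a = 1 := by
        obtain ⟨M, hM, hMne, hMW, hMmin⟩ := CfsgLib.Core.exists_minimal_normal_le' W hWne
        by_cases hMN : M ⊓ N = ⊥
        · exact absurd (two M hM hMne hMmin hMN) id
        haveI := hM
        have hMN' : M ⊓ N = N := (hNmin (M ⊓ N) inferInstance inf_le_right).resolve_left hMN
        have := (Subgroup.card_le_of_le ((inf_eq_right.1 hMN').trans hMW)).trans hWcard
        rw [haN] at this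
        by_contra h
        have : r ^ 2 ≤ r ^ a := Nat.pow_le_pow_right hp0 (by omega)
        nlinarith
      subst ha
      rw [pow_one] at hLcard haN
      have hLx : L = Subgroup.zpowers x := by
        refine (Subgroup.eq_of_le_of_card_ge (Subgroup.zpowers_le.2 hxL) ?_).symm
        rw [Nat.card_zpowers]
        have hd : orderOf x ∣ r ^ 2 := by
          rw [pow_two, ← hLcard]; exact L.orderOf_dvd_natCard hxL
        obtain ⟨i, hi, hio⟩ := (Nat.dvd_prime_pow hp).1 hd
        interval_cases i
        · exact absurd (by rw [pow_zero] at hio; rw [orderOf_eq_one_iff.1 hio]; simp) hxp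
        · exact absurd (by rw [pow_one] at hio; rw [← hio]; exact pow_orderOf_eq_one x) hxp
        · rw [hio, hLcard, pow_two]
      obtain ⟨H, hH⟩ := Subgroup.exists_right_complement'_of_coprime (N := L) hcop
      exact hbad (comm_action_bound hp2 L H hH (by rw [hLcard, pow_two])
        fun g _ g' _ v hv => conj_comm_of_cyclic L x hLx g g' hv)
    · -- a complement
      obtain ⟨M, hM, hNM⟩ : ∃ M : Subgroup G, IsCoatom M ∧ ¬ N ≤ M := by
        by_contra h
        push Not at h
        exact hfr (le_iInf₂ (f := fun M (_ : IsCoatom M) => M) h)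
      have htop : M ⊔ N = ⊤ := hM.2 _ (lt_of_le_of_ne le_sup_left fun h => hNM (h ▸ le_sup_right))
      have hnorm_inf : (N ⊓ M).Normal := by
        refine Subgroup.normalizer_eq_top_iff.1 (eq_top_iff.2 (htop ▸ sup_le ?_ ?_))
        · refine le_trans (le_inf ?_ Subgroup.le_normalizer) (Subgroup.inf_normalizer_le_normalizer_inf)
          rw [Subgroup.normalizer_eq_top]; exact le_top
        · intro v hv
          rw [Subgroup.mem_normalizer_iff]
          intro w
          constructor
          · intro hw
            have e : v * w = w * v := congrArg Subtype.val (hNc.is_comm.comm ⟨v, hv⟩ ⟨w, hw.1⟩)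
            rwa [e, mul_inv_cancel_right]
          · intro hw
            have hwN : w ∈ N := by
              have := hN.conj_mem _ hw.1 v⁻¹
              simpa [mul_assoc] using this
            have e : v * w = w * v := congrArg Subtype.val (hNc.is_comm.comm ⟨v, hv⟩ ⟨w, hwN⟩)
            rwa [e, mul_inv_cancel_right] at hw
      have hinf : N ⊓ M = ⊥ := (hNmin _ hnorm_inf inf_le_left).resolve_right fun h => hNM (inf_eq_left.1 h)
      have hcompl : N.IsComplement' M := Subgroup.isComplement'_of_disjoint_and_mul_eq_univ
        (disjoint_iff.2 hinf) (by rw [← Subgroup.normal_mul, sup_comm, htop]; rfl)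
      -- the kernel of the action
      let C : Subgroup G := M ⊓ Subgroup.centralizer (N : Set G)
      by_cases hC : C = ⊥
      swap
      · have hCn : C.Normal := by
          refine Subgroup.normalizer_eq_top_iff.1 (eq_top_iff.2 (htop ▸ sup_le ?_ ?_))
          · refine le_trans (le_inf Subgroup.le_normalizer ?_) (Subgroup.inf_normalizer_le_normalizer_inf)
            rw [Subgroup.normalizer_eq_top]; exact le_top
          · intro v hv
            rw [Subgroup.mem_normalizer_iff]
            intro w
            constructor
            · intro hw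
              rw [Subgroup.mem_centralizer_iff.1 hw.2 v hv, mul_inv_cancel_right]; exact hw
            · intro hw
              have e := Subgroup.mem_centralizer_iff.1 hw.2 v hv
              have : v * w * v⁻¹ = w := by
                calc v * w * v⁻¹ = v⁻¹ * (v * (v * w * v⁻¹)) := by group
                  _ = v⁻¹ * (v * w * v⁻¹ * v) := by rw [e]
                  _ = w := by group
              rwa [this] at hw
        obtain ⟨N', hN', hne', hle, hmin'⟩ := @CfsgLib.Core.exists_minimal_normal_le' G _ _ C hCn hC
        refine two N' hN' hne' hmin' (le_bot_iff.1 ?_)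
        rw [← hinf]
        exact le_inf inf_le_right (inf_le_left.trans (hle.trans inf_le_left))
      letI := conjAction N M
      haveI : Finite (Additive N) := inferInstanceAs (Finite N)
      have hfix : ∀ h : M, (∀ v : Additive N, h • v = v) → h = 1 := by
        intro h hh
        have hmem : (h : G) ∈ C := ⟨h.2, Subgroup.mem_centralizer_iff.2 fun v hv => by
          have e : (h : G) * v * (h : G)⁻¹ = v :=
            congrArg (fun w : Additive N => ((Additive.toMul w : N) : G)) (hh (Additive.ofMul ⟨v, hv⟩))
          exact (mul_inv_eq_iff_eq_mul.1 e).symm⟩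
        rw [hC, Subgroup.mem_bot] at hmem
        exact Subtype.ext hmem
      haveI : FaithfulSMul M (Additive N) := ⟨fun {g h} e => by
        have := hfix (h⁻¹ * g) fun v => by rw [mul_smul, e, inv_smul_smul]
        exact (inv_mul_eq_one.1 this).symm⟩
      have hk := k_add_orbits_le N M hcompl
      have horb := card_le_orbits_mul (H := M) (0 : Additive N) smul_zero
      rw [show Nat.card (Additive N) = Nat.card N from rfl, haN] at horb
      have hcard := hcompl.card_mul
      rw [haN] at hcard
      by_cases ha2 : 2 ≤ a
      swap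
      · obtain rfl : a = 1 := by omega
        rw [pow_one] at haN hcard
        haveI : IsCyclic N := isCyclic_of_prime_card haN
        haveI : Finite (MulAut N) := Finite.of_injective (fun f => (f : N → N)) DFunLike.coe_injective
        let φ : M →* MulAut N := MulAut.conjNormal.comp M.subtype
        have hφ : Function.Injective φ := by
          rw [injective_iff_map_eq_one]
          intro h hh
          exact hfix h fun v => congrArg Additive.ofMul (DFunLike.congr_fun hh (Additive.toMul v))
        have hd := Subgroup.card_dvd_of_injective φ hφ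
        rw [IsCyclic.card_mulAut, haN, Nat.totient_prime hp] at hd
        rw [← hcard, pow_two] at hdvd
        have h1 := (Nat.dvd_of_mul_dvd_mul_left hp0 hdvd).trans hd
        have := Nat.le_of_dvd (by omega) h1
        omega
      have h2N : p ^ 2 ≤ Nat.card N := haN ▸ Nat.pow_le_pow_right hp0 ha2
      have hgoal : 49 * p + 60 ≤ 60 * (k M + Nat.card (orbitRel.Quotient M (Additive N))) := by
        rcases Nat.lt_or_ge p 7 with h7 | h7
        · refine small_prime_bound (by omega) hp one_le_k ?_ (fun h => card_le_six h) h2N (haN ▸ horb)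
          by_contra hc
          rw [show Nat.card (orbitRel.Quotient M (Additive N)) - 1 = 0 by omega, zero_mul] at horb
          rw [haN] at h2N
          nlinarith
        · refine linear_bound hp h7 (fun v => congrArg Additive.ofMul ?_) ?_ ⟨?_, ?_⟩
          · exact Subtype.ext (by rw [Subgroup.coe_pow]; exact hNexp _ (Additive.toMul v).2)
          · exact h2N
          · exact Finite.one_lt_card_iff_nontrivial.1 (by
              show 1 < Nat.card N
              nlinarith)
          · intro U hU
            let U' : Subgroup G := (AddSubgroup.toSubgroup' U).map N.subtype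
            have hU'N : U' ≤ N := Subgroup.map_subtype_le _
            haveI : U'.Normal := by
              refine Subgroup.normalizer_eq_top_iff.1 (eq_top_iff.2 (htop ▸ sup_le ?_ ?_))
              · intro g hg
                have key : ∀ g ∈ M, ∀ w ∈ U', g * w * g⁻¹ ∈ U' := by
                  rintro g hg _ ⟨w, hw, rfl⟩
                  exact ⟨_, hU ⟨g, hg⟩ (Additive.ofMul w) hw, rfl⟩
                rw [Subgroup.mem_normalizer_iff]
                intro w
                refine ⟨key g hg w, fun hw => ?_⟩
                have := key g⁻¹ (inv_mem hg) _ hw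
                simpa [mul_assoc] using this
              · intro v hv
                rw [Subgroup.mem_normalizer_iff]
                intro w
                constructor
                · intro hw
                  have e : v * w = w * v := congrArg Subtype.val (hNc.is_comm.comm ⟨v, hv⟩ ⟨w, hU'N hw⟩)
                  rwa [e, mul_inv_cancel_right]
                · intro hw
                  have hwN : w ∈ N := by
                    have := hN.conj_mem _ (hU'N hw) v⁻¹
                    simpa [mul_assoc] using this
                  have e : v * w = w * v := congrArg Subtype.val (hNc.is_comm.comm ⟨v, hv⟩ ⟨w, hwN⟩)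
                  rwa [e, mul_inv_cancel_right] at hw
            rcases hNmin U' inferInstance hU'N with h | h
            · left
              refine (AddSubgroup.eq_bot_iff_forall _).2 fun w hw => ?_
              have : ((Additive.toMul w : N) : G) ∈ U' := ⟨Additive.toMul w, hw, rfl⟩
              rw [h, Subgroup.mem_bot] at this
              exact congrArg Additive.ofMul (Subtype.ext this : Additive.toMul w = 1)
            · right
              refine eq_top_iff.2 fun w _ => ?_
              have : ((Additive.toMul w : N) : G) ∈ U' := h.symm ▸ (Additive.toMul w).2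
              obtain ⟨y, hy, hye⟩ := this
              rw [show w = Additive.ofMul y from congrArg Additive.ofMul (Subtype.ext hye.symm : Additive.toMul w = y)]
              exact hy
      omega

theorem class_number_bound (G : Type u) [Group G] [Finite G] [Group.IsSolvable G] (p : ℕ) [hp : Fact p.Prime]
    (h : p ^ 2 ∣ Nat.card G) : 49 * p ≤ 60 * Nat.card (ConjClasses G) :=
  bound_aux (Nat.card G) G p hp.out rfl h

end CfsgLib.Core.ClassNumber
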