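import Cfsg.Agent.Lib.Core.ClassNumber.Central

/-!
Classes of groups with a small self-centralising normal subgroup.
-/

set_option autoImplicit false
set_option linter.all false

namespace CfsgLib.Core.ClassNumber

variable {Y : Type*} [Group Y] [Finite Y]

theorem carrier_mul_orderOf_le (y : Y) :
    (ConjClasses.mk y).carrier.ncard * orderOf y ≤ Nat.card Y := by
  classical
  haveI : Finite (ConjAct Y) := Finite.of_equiv Y ConjAct.toConjAct.toEquiv
  rw [← ConjAct.orbit_eq_carrier_conjClasses, ← Nat.card_coe_set_eq,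
    Nat.card_congr (MulAction.orbitEquivQuotientStabilizer (ConjAct Y) y), ← Subgroup.index_eq_card,
    show Nat.card Y = Nat.card (ConjAct Y) from Nat.card_congr ConjAct.toConjAct.toEquiv,
    ← (MulAction.stabilizer (ConjAct Y) y).index_mul_card]
  refine Nat.mul_le_mul_left _ ?_
  rw [← Nat.card_zpowers]
  refine Nat.card_le_card_of_injective (fun x => ⟨ConjAct.toConjAct (x : Y), ?_⟩) fun a b h => ?_
  rotate_left
  · exact Subtype.ext (ConjAct.toConjAct.injective (by simpa using h))
  obtain ⟨i, hi⟩ := Subgroup.mem_zpowers_iff.1 x.2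
  rw [MulAction.mem_stabilizer_iff, ConjAct.smul_def, ConjAct.ofConjAct_toConjAct, ← hi]
  exact mul_inv_eq_iff_eq_mul.2 ((Commute.refl y).zpow_left i).eq

theorem carrier_dvd (y : Y) : (ConjClasses.mk y).carrier.ncard ∣ Nat.card Y := by
  classical
  rw [← ConjAct.orbit_eq_carrier_conjClasses, ← Nat.card_coe_set_eq,
    Nat.card_congr (MulAction.orbitEquivQuotientStabilizer (ConjAct Y) y)]
  exact Subgroup.card_quotient_dvd_card _

theorem carrier_le_of_normal (W : Subgroup Y) [W.Normal] {w : Y} (hw : w ∈ W) (h1 : w ≠ 1) :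
    (ConjClasses.mk w).carrier.ncard ≤ Nat.card W - 1 := by
  classical
  have hsub : (ConjClasses.mk w).carrier ⊆ (W : Set Y) \ {1} := by
    intro x hx
    rw [ConjClasses.mem_carrier_iff_mk_eq, ConjClasses.mk_eq_mk_iff_isConj, isConj_comm, isConj_iff] at hx
    obtain ⟨g, rfl⟩ := hx
    exact ⟨(inferInstance : W.Normal).conj_mem w hw g, fun e => h1 (by simpa using e)⟩
  refine (Set.ncard_le_ncard hsub (Set.toFinite _)).trans ?_
  rw [Set.ncard_sdiff (Set.singleton_subset_iff.2 (one_mem W)), Set.ncard_singleton,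
    ← Nat.card_coe_set_eq]
  exact le_rfl

set_option synthInstance.maxSize 2000 in
theorem no_four_classes : ∀ j < 12, ∀ x < 90, x ∣ 15 * j → ∀ y < 90, y ∣ 15 * j →
    ¬ (x + y + 1 < 15 * j ∧ x + y + y ≤ 15 * j - 1 ∧ y ≤ x ∧ 15 * j - 1 - x - y ∣ 15 * j) := by decide +kernel

/-- At least six classes over a normal subgroup of order sixteen. -/
theorem six_le_k (W : Subgroup Y) [W.Normal] (hW : ∀ a ∈ W, ∀ b ∈ W, a * b = b * a)
    (h16 : Nat.card W = 16) (hidx : W.index ≤ 177) : 6 ≤ k Y := by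
  classical
  have h1 := k_ge_quotient_add_inside W
  have h2 := card_le_inside W hW
  rw [h16] at h2
  obtain ⟨o, ho⟩ : ∃ o, o = Nat.card {C : ConjClasses Y // ∃ n ∈ W, ConjClasses.mk n = C} := ⟨_, rfl⟩
  rw [← ho] at h1 h2
  have ho2 : 2 ≤ o := by
    by_contra hc
    rw [show o - 1 = 0 by omega, zero_mul] at h2
    omega
  have hidx' : W.index = Nat.card (Y ⧸ W) := Subgroup.index_eq_card W
  by_contra hlt
  rcases le_or_gt (k (Y ⧸ W)) 3 with h3 | h3
  · obtain ⟨h6, h62⟩ := card_le_six (G := Y ⧸ W) h3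
    rcases le_or_gt (k (Y ⧸ W)) 2 with hk2 | hk2
    · have := h62 hk2
      have : (o - 1) * W.index ≤ (o - 1) * 2 := Nat.mul_le_mul_left _ (by omega)
      have := one_le_k (G := Y ⧸ W)
      omega
    · have : (o - 1) * W.index ≤ (o - 1) * 6 := Nat.mul_le_mul_left _ (by omega)
      omega
  obtain ⟨hk4, hoEq⟩ : k (Y ⧸ W) = 4 ∧ o = 2 := by omega
  obtain ⟨w, hwW, hw1⟩ := W.bot_or_exists_ne_one.resolve_left fun h => by
    rw [h, Subgroup.card_bot] at h16; omega
  have hcl : (ConjClasses.mk w).carrier = (W : Set Y) \ {1} := by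
    have huniq : ∀ a ∈ W, a ≠ 1 → ConjClasses.mk a = ConjClasses.mk w := by
      intro a ha ha1
      by_contra hne
      let f : Fin 3 → {C : ConjClasses Y // ∃ n ∈ W, ConjClasses.mk n = C} :=
        ![⟨_, 1, one_mem W, rfl⟩, ⟨_, a, ha, rfl⟩, ⟨_, w, hwW, rfl⟩]
      have hne1 : ∀ b : Y, b ≠ 1 → ConjClasses.mk b ≠ ConjClasses.mk 1 := fun b hb e => hb (by
        simpa [eq_comm] using (ConjClasses.mk_eq_mk_iff_isConj.1 e))
      have hf : Function.Injective f := by
        intro i j e
        have e' := congrArg Subtype.val e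
        fin_cases i <;> fin_cases j <;> first
          | rfl
          | exact absurd e' (hne1 a ha1)
          | exact absurd e'.symm (hne1 a ha1)
          | exact absurd e' (hne1 w hw1)
          | exact absurd e'.symm (hne1 w hw1)
          | exact absurd e' hne
          | exact absurd e'.symm hne
      have := Nat.card_le_card_of_injective f hf
      rw [Nat.card_fin, ← ho, hoEq] at this
      omega
    ext x
    constructor
    · intro hx
      rw [ConjClasses.mem_carrier_iff_mk_eq, ConjClasses.mk_eq_mk_iff_isConj, isConj_comm, isConj_iff] at hx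
      obtain ⟨g, rfl⟩ := hx
      exact ⟨(inferInstance : W.Normal).conj_mem w hwW g, fun e => hw1 (by simpa using e)⟩
    · rintro ⟨hx, hx1⟩
      exact ConjClasses.mem_carrier_iff_mk_eq.2 (huniq x hx hx1)
  have h15 : 15 ∣ W.index := by
    have h := carrier_dvd w
    rw [hcl, Set.ncard_sdiff (Set.singleton_subset_iff.2 (one_mem W)), Set.ncard_singleton,
      ← Nat.card_coe_set_eq, show Nat.card (W : Set Y) = 16 from h16, ← W.card_mul_index, h16] at h
    exact (show Nat.Coprime 15 16 by norm_num).dvd_of_dvd_mul_left h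
  obtain ⟨f, hsum, hdvd, ⟨i0, hi0⟩, hpos⟩ := class_sum (Y ⧸ W)
  rw [← hidx'] at hsum hdvd
  generalize k (Y ⧸ W) = K at f hsum hdvd i0 hi0 hpos hk4
  subst hk4
  generalize W.index = b at hsum hdvd h15 hidx
  have key : ∀ u x y : ℕ, 1 + u + x + y = b → u ∣ b → x ∣ b → y ∣ b → 0 < u → 0 < x → 0 < y →
      y ≤ x → x ≤ u → False := by
    intro u x y hs hu hx hy hu0 hx0 hy0 hyx hxu
    obtain ⟨j, rfl⟩ := h15
    exact no_four_classes j (by omega) x (by omega) hx y (by omega) hy
      ⟨by omega, by omega, hyx, by rwa [show 15 * j - 1 - x - y = u by omega]⟩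
  have any : ∀ u x y : ℕ, 1 + u + x + y = b → u ∣ b → x ∣ b → y ∣ b → 0 < u → 0 < x → 0 < y → False := by
    intro u x y hs hu hx hy hu0 hx0 hy0
    rcases le_total u x with h | h <;> rcases le_total u y with h' | h' <;> rcases le_total x y with h'' | h''
    all_goals first
      | exact key u x y hs hu hx hy hu0 hx0 hy0 (by omega) (by omega)
      | exact key u y x (by omega) hu hy hx hu0 hy0 hx0 (by omega) (by omega)
      | exact key x u y (by omega) hx hu hy hx0 hu0 hy0 (by omega) (by omega)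
      | exact key x y u (by omega) hx hy hu hx0 hy0 hu0 (by omega) (by omega)
      | exact key y u x (by omega) hy hu hx hy0 hu0 hx0 (by omega) (by omega)
      | exact key y x u (by omega) hy hx hu hy0 hx0 hu0 (by omega) (by omega)
  simp only [Fin.sum_univ_four] at hsum
  fin_cases i0 <;> simp only [Fin.isValue, Fin.zero_eta, Fin.mk_one, Fin.reduceFinMk] at hi0
  · exact any (f 1) (f 2) (f 3) (by omega) (hdvd 1) (hdvd 2) (hdvd 3) (hpos 1) (hpos 2) (hpos 3)
  · exact any (f 0) (f 2) (f 3) (by omega) (hdvd 0) (hdvd 2) (hdvd 3) (hpos 0) (hpos 2) (hpos 3)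
  · exact any (f 0) (f 1) (f 3) (by omega) (hdvd 0) (hdvd 1) (hdvd 3) (hpos 0) (hpos 1) (hpos 3)
  · exact any (f 0) (f 1) (f 2) (by omega) (hdvd 0) (hdvd 1) (hdvd 2) (hpos 0) (hpos 1) (hpos 2)

/-- A self-centralising four group: the index divides six. -/
theorem index_dvd_six (W : Subgroup Y) [W.Normal] (h4 : Nat.card W = 4)
    (hW : ∀ a ∈ W, ∀ b ∈ W, a * b = b * a) (hC : ∀ y : Y, (∀ w ∈ W, y * w = w * y) → y ∈ W) :
    W.index ∣ 6 := by
  classical
  let T := {w : W // w ≠ 1}
  have hT : Nat.card T = 3 := by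
    have h : Nat.card T + 1 = Nat.card W := by
      rw [← Finite.card_option]; exact Nat.card_congr (Equiv.optionSubtypeNe (1 : W))
    omega
  let σ : Y →* MulAut W := MulAut.conjNormal
  let φ : Y →* Equiv.Perm T :=
    { toFun := fun y => (σ y).toEquiv.subtypeEquiv fun w => by simp
      map_one' := Equiv.ext fun w => Subtype.ext (by simp)
      map_mul' := fun a b => Equiv.ext fun w => Subtype.ext (by simp) }
  have hker : φ.ker = W := by
    refine le_antisymm (fun y hy => hC y fun w hw => ?_) fun a ha => ?_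
    · by_cases h1 : (⟨w, hw⟩ : W) = 1
      · rw [show w = 1 from congrArg Subtype.val h1, mul_one, one_mul]
      · have := congrArg (fun e : Equiv.Perm T => ((e ⟨⟨w, hw⟩, h1⟩ : T) : W).1) (MonoidHom.mem_ker.1 hy)
        simp [φ, σ, MulAut.conjNormal_apply] at this
        exact mul_inv_eq_iff_eq_mul.1 this
    · refine MonoidHom.mem_ker.2 (Equiv.ext fun w => Subtype.ext (Subtype.ext ?_))
      show a * (w.1 : Y) * a⁻¹ = (w.1 : Y)
      rw [hW a ha _ w.1.2]; group
  rw [← hker, Subgroup.index_ker]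
  refine (Subgroup.card_subgroup_dvd_card _).trans ?_
  rw [Nat.card_perm, hT]
  norm_num [Nat.factorial]

theorem four_le_k (W : Subgroup Y) [W.Normal] (h4 : Nat.card W = 4)
    (hW : ∀ a ∈ W, ∀ b ∈ W, a * b = b * a) : 4 ≤ k Y := by
  by_contra hk
  obtain ⟨h6, -⟩ := card_le_six (G := Y) (by omega)
  have h1 := k_ge_quotient_add_inside W
  have h2 := card_le_inside W hW
  have h3 := W.card_mul_index
  rw [h4] at h2 h3
  have : W.index = 1 := by
    have : 0 < W.index := Nat.pos_of_ne_zero Subgroup.index_ne_zero_of_finite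
    omega
  rw [this, mul_one] at h2
  have := one_le_k (G := Y ⧸ W)
  omega

/-- Weights for the quotient of order twenty-four. -/
theorem exists_weights (W : Subgroup Y) [W.Normal] (h4 : Nat.card W = 4) (h2 : ∀ w ∈ W, w * w = 1)
    (h24 : Nat.card Y = 24) (hC : ∀ y : Y, (∀ w ∈ W, y * w = w * y) → y ∈ W) [Fintype (ConjClasses Y)] :
    ∃ w : ConjClasses Y → ℕ, 8 ≤ ∑ c, w c ∧ ∀ c, w c ≤ 2 ∧
      (2 ≤ w c → ∃ y : Y, ConjClasses.mk y = c ∧ (y = 1 ∨ y * y ≠ 1)) := by
  classical
  haveI : Fact (Nat.Prime 2) := ⟨Nat.prime_two⟩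
  haveI : Fact (Nat.Prime 3) := ⟨Nat.prime_three⟩
  obtain ⟨a, ha⟩ := exists_prime_orderOf_dvd_card' (G := Y) 3 (by rw [h24]; norm_num)
  obtain ⟨P, hP⟩ : ∃ P : Subgroup Y, Nat.card P = 8 ∧ W ≤ P := by
    obtain ⟨P, hP⟩ := (IsPGroup.of_card (p := 2) (n := 2) (G := W) (by rw [h4]; norm_num)).exists_le_sylow
    refine ⟨P, ?_, hP⟩
    rw [P.card_eq_multiplicity, h24, show (24 : ℕ) = 2 ^ 3 * 3 by norm_num,
      Nat.factorization_mul (by norm_num) (by norm_num), Nat.factorization_pow]
    simp [Nat.prime_two.factorization, Nat.prime_three.factorization]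
  obtain ⟨y, hyP, hy⟩ : ∃ y ∈ P, y * y ≠ 1 := by
    by_contra hc
    push Not at hc
    have hle : P ≤ W := fun x hx => hC x fun w hw => by
      have e := hc (x * w) (mul_mem hx (hP.2 hw))
      calc x * w = x * w * ((x * w) * (x * w))⁻¹ * 1 := by rw [e]; group
        _ = w⁻¹ * x⁻¹ := by group
        _ = w * x := by
          rw [inv_eq_of_mul_eq_one_right (h2 w hw), inv_eq_of_mul_eq_one_right (hc x hx)]
    have := Subgroup.card_le_of_le hle
    omega
  have hyo : 4 ≤ orderOf y := by
    have hd : orderOf y ∣ 8 := hP.1 ▸ P.orderOf_dvd_natCard hyP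
    have hpos := Nat.pos_of_dvd_of_pos hd (by norm_num)
    have hne : ¬ orderOf y ∣ 2 := fun h => hy (by
      have := orderOf_dvd_iff_pow_eq_one.1 h; rwa [pow_two] at this)
    by_contra hlt
    interval_cases (orderOf y) <;> norm_num at *
  obtain ⟨w, hwW, hw1⟩ := W.bot_or_exists_ne_one.resolve_left fun h => by
    rw [h, Subgroup.card_bot] at h4; omega
  have hwo : orderOf w = 2 := orderOf_eq_prime (by rw [pow_two]; exact h2 w hwW) hw1
  have ord : ∀ u v : Y, ConjClasses.mk u = ConjClasses.mk v → orderOf u = orderOf v := fun u v e => by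
    obtain ⟨g, rfl⟩ := isConj_iff.1 (ConjClasses.mk_eq_mk_iff_isConj.1 e)
    exact ((MulAut.conj g).orderOf_eq u).symm
  let C1 : ConjClasses Y := ConjClasses.mk 1
  let Ca := ConjClasses.mk a
  let Cy := ConjClasses.mk y
  let Cw := ConjClasses.mk w
  have n1a : C1 ≠ Ca := fun e => by have := ord _ _ e; rw [orderOf_one, ha] at this; omega
  have n1y : C1 ≠ Cy := fun e => by have := ord _ _ e; rw [orderOf_one] at this; omega
  have nay : Ca ≠ Cy := fun e => by have := ord _ _ e; omega
  have n1w : C1 ≠ Cw := fun e => by have := ord _ _ e; rw [orderOf_one, hwo] at this; omega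
  have naw : Ca ≠ Cw := fun e => by have := ord _ _ e; omega
  have nyw : Cy ≠ Cw := fun e => by have := ord _ _ e; omega
  obtain ⟨C5, h5⟩ : ∃ C, C ∉ ({C1, Ca, Cy, Cw} : Finset (ConjClasses Y)) := by
    by_contra hc
    push Not at hc
    have hsum := Group.sum_card_conj_classes_eq_card Y
    rw [finsum_eq_sum_of_fintype, h24, ← Finset.sum_subset (Finset.subset_univ {C1, Ca, Cy, Cw})
      (fun C _ hC' => absurd (hc C) hC'),
      Finset.sum_insert (by simp [n1a, n1y, n1w]), Finset.sum_insert (by simp [nay, naw]),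
      Finset.sum_insert (by simp [nyw]), Finset.sum_singleton] at hsum
    have b1 := carrier_mul_orderOf_le a
    have b2 := carrier_mul_orderOf_le y
    have b3 := carrier_le_of_normal W hwW hw1
    have b0 : C1.carrier.ncard ≤ 1 := by
      have := carrier_mul_orderOf_le (1 : Y)
      refine (Set.ncard_le_one (Set.toFinite _)).2 fun u hu v hv => ?_
      simp [C1, ConjClasses.mem_carrier_iff_mk_eq, ConjClasses.mk_eq_mk_iff_isConj] at hu hv
      rw [hu, hv]
    rw [h24, ha] at b1
    rw [h24] at b2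
    rw [h4] at b3
    have b2' : (ConjClasses.mk y).carrier.ncard * 4 ≤ 24 := (Nat.mul_le_mul_left _ hyo).trans b2
    simp only [C1, Ca, Cy, Cw] at hsum b0
    omega
  simp only [Finset.mem_insert, Finset.mem_singleton, not_or] at h5
  refine ⟨fun c => if c = C1 ∨ c = Ca ∨ c = Cy then 2 else 1, ?_, fun c => ⟨by dsimp; split_ifs <;> omega, fun h => ?_⟩⟩
  · refine le_trans ?_ (Finset.sum_le_sum_of_subset (Finset.subset_univ ({C1, Ca, Cy, Cw, C5} : Finset (ConjClasses Y))))
    rw [Finset.sum_insert (by simp [n1a, n1y, n1w, Ne.symm h5.1]), Finset.sum_insert (by simp [nay, naw, Ne.symm h5.2.1]),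
      Finset.sum_insert (by simp [nyw, Ne.symm h5.2.2.1]), Finset.sum_insert (by simp [Ne.symm h5.2.2.2]),
      Finset.sum_singleton]
    rw [if_pos (Or.inl rfl), if_pos (Or.inr (Or.inl rfl)), if_pos (Or.inr (Or.inr rfl))]
    split_ifs <;> omega
  · dsimp at h
    split_ifs at h with hc
    · rcases hc with rfl | rfl | rfl
      · exact ⟨1, rfl, Or.inl rfl⟩
      · refine ⟨a, rfl, Or.inr fun e => ?_⟩
        have := orderOf_le_of_pow_eq_one (x := a) two_pos (by rw [pow_two]; exact e)
        omega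
      · exact ⟨y, rfl, Or.inr hy⟩
    · omega

end CfsgLib.Core.ClassNumber
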